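import Mathlib

/-!
An idempotent commuting with the normalizer of a subgroup of order `p` lifts to an idempotent of
the whole group when the unipotent element has no block of size `p`.
-/

set_option autoImplicit false
set_option linter.unusedSectionVars false
set_option linter.style.haveILetI false

namespace Cfsg.Agent.Block.HalfDeg

open Finset

variable {G : Type*} [Group G] [Finite G] {p : ℕ} [hp : Fact p.Prime]
variable {K : Type*} [Field K] [CharP K p] {M : Type*} [AddCommGroup M] [Module K M]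

/-- Commuting with `σ u` and with image inside the image of `σ u - 1`. -/
def Low (σ : Representation K G M) (u : G) (f : Module.End K M) : Prop :=
  Commute f (σ u) ∧ LinearMap.range f ≤ LinearMap.range (σ u - 1)

variable {σ : Representation K G M} {u : G}

namespace Low

theorem zero : Low σ u 0 := ⟨Commute.zero_left _, by simp⟩

theorem add {f g : Module.End K M} (hf : Low σ u f) (hg : Low σ u g) : Low σ u (f + g) :=
  ⟨hf.1.add_left hg.1, by
    rintro _ ⟨x, rfl⟩
    exact add_mem (hf.2 ⟨x, rfl⟩) (hg.2 ⟨x, rfl⟩)⟩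

theorem neg {f : Module.End K M} (hf : Low σ u f) : Low σ u (-f) :=
  ⟨hf.1.neg_left, by
    rintro _ ⟨x, rfl⟩
    exact neg_mem (hf.2 ⟨x, rfl⟩)⟩

theorem smul {f : Module.End K M} (c : K) (hf : Low σ u f) : Low σ u (c • f) :=
  ⟨hf.1.smul_left c, by
    rintro _ ⟨x, rfl⟩
    exact Submodule.smul_mem _ c (hf.2 ⟨x, rfl⟩)⟩

theorem mul_right {f g : Module.End K M} (hf : Low σ u f) (hg : Commute g (σ u)) :
    Low σ u (f * g) :=
  ⟨hf.1.mul_left hg, by
    rintro _ ⟨x, rfl⟩
    exact hf.2 ⟨g x, rfl⟩⟩

theorem mul_left {f g : Module.End K M} (hf : Low σ u f) (hg : Commute g (σ u)) :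
    Low σ u (g * f) :=
  ⟨hg.mul_left hf.1, by
    rintro _ ⟨x, rfl⟩
    obtain ⟨y, hy⟩ := hf.2 ⟨x, rfl⟩
    refine ⟨g y, ?_⟩
    rw [Module.End.mul_apply, ← hy, ← Module.End.mul_apply, ← Module.End.mul_apply,
      (hg.sub_right (Commute.one_right g)).eq]⟩

theorem pow_eq_zero {f : Module.End K M} (hf : Low σ u f) {m : ℕ} (hm : (σ u - 1) ^ m = 0) :
    f ^ m = 0 := by
  have key : ∀ k : ℕ, ∀ x, ∃ y, (f ^ k) x = ((σ u - 1) ^ k) y := by
    intro k
    induction k with
    | zero => exact fun x => ⟨x, by simp⟩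
    | succ k ih =>
      intro x
      obtain ⟨y, hy⟩ := ih x
      obtain ⟨z, hz⟩ := hf.2 ⟨y, rfl⟩
      refine ⟨z, ?_⟩
      rw [pow_succ' f, Module.End.mul_apply, hy, ← Module.End.mul_apply,
        ((hf.1.sub_right (Commute.one_right f)).pow_right k).eq, Module.End.mul_apply, ← hz,
        ← Module.End.mul_apply, ← pow_succ]
  ext x
  obtain ⟨y, hy⟩ := key m x
  rw [hy, hm]
  simp

theorem isNilpotent {f : Module.End K M} (hf : Low σ u f) {m : ℕ} (hm : (σ u - 1) ^ m = 0) :
    IsNilpotent f := ⟨m, hf.pow_eq_zero hm⟩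

end Low

theorem geom_char {A : Type*} [Ring A] [Algebra K A] (x : A) :
    ∑ i ∈ range p, x ^ i = (x - 1) ^ (p - 1) := by
  have h : (∑ i ∈ range p, (Polynomial.X : Polynomial K) ^ i) = (Polynomial.X - 1) ^ (p - 1) := by
    have hne : (Polynomial.X : Polynomial K) - 1 ≠ 0 := by
      simpa using Polynomial.X_sub_C_ne_zero (1 : K)
    refine mul_right_cancel₀ hne ?_
    rw [geom_sum_mul, ← pow_succ, Nat.sub_add_cancel hp.out.one_le, sub_pow_char, one_pow]
  simpa using congrArg (Polynomial.aeval x) h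

/-- The sum over a group of order `p` of the conjugates of a map, when there is no block of size
`p`. -/
theorem sum_conj_range {U Ui : Module.End K M} (hUi : Ui * U = 1) (hiU : U * Ui = 1)
    (hD : (U - 1) ^ (p - 1) = 0) (h : Module.End K M) :
    LinearMap.range (∑ i ∈ range p, U ^ i * h * Ui ^ i) ≤ LinearMap.range (U - 1) := by
  set L := LinearMap.mulLeft K U
  set R := LinearMap.mulRight K Ui
  have hLR : Commute L R := LinearMap.commute_mulLeft_right U Ui
  have h1 : (∑ i ∈ range p, U ^ i * h * Ui ^ i) = (((L * R) - 1) ^ (p - 1)) h := by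
    rw [← geom_char (K := K), LinearMap.sum_apply]
    refine sum_congr rfl fun i _ => ?_
    rw [hLR.mul_pow, Module.End.mul_apply, LinearMap.pow_mulLeft, LinearMap.pow_mulRight]
    simp [mul_assoc]
  set LD : Module.End K (Module.End K M) := LinearMap.mulLeft K (U - 1)
  set RD : Module.End K (Module.End K M) := LinearMap.mulRight K (U - 1)
  have h2 : L * R - 1 = (LD - RD) * R := by
    refine LinearMap.ext fun X => ?_
    simp only [L, R, LD, RD, LinearMap.sub_apply, Module.End.mul_apply, Module.End.one_apply,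
      LinearMap.mulLeft_apply, LinearMap.mulRight_apply]
    rw [sub_mul, mul_sub, one_mul, mul_one, mul_assoc X, hUi, mul_one]
    abel
  have hc : Commute (LD - RD) R := by
    refine (LinearMap.commute_mulLeft_right _ _).sub_left (LinearMap.ext fun X => ?_)
    simp only [RD, R, Module.End.mul_apply, LinearMap.mulRight_apply]
    rw [mul_assoc, mul_assoc, mul_sub, sub_mul, hUi, hiU, one_mul, mul_one]
  rw [h1, h2, hc.mul_pow, Module.End.mul_apply]
  generalize (R ^ (p - 1)) h = Y
  rintro _ ⟨x, rfl⟩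
  have hcomm : Commute LD RD := LinearMap.commute_mulLeft_right _ _
  rw [show LD - RD = LD + -RD from sub_eq_add_neg _ _, hcomm.neg_right.add_pow, LinearMap.sum_apply,
    LinearMap.sum_apply]
  refine Submodule.sum_mem _ fun a _ => ?_
  rw [← nsmul_eq_mul', LinearMap.smul_apply, LinearMap.smul_apply]
  refine Submodule.smul_of_tower_mem _ _ ?_
  rw [Module.End.mul_apply, neg_pow, Module.End.mul_apply]
  rcases Nat.eq_zero_or_pos a with rfl | ha
  · rw [Nat.sub_zero, LinearMap.pow_mulRight, LinearMap.mulRight_apply, hD, mul_zero, map_zero]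
    simp
  · obtain ⟨b, rfl⟩ : ∃ b, a = b + 1 := ⟨a - 1, by omega⟩
    rw [LinearMap.pow_mulLeft, LinearMap.mulLeft_apply, pow_succ', mul_assoc, Module.End.mul_apply]
    exact ⟨_, rfl⟩

section Lift

variable [FiniteDimensional K M] (hu : orderOf u = p) (hsyl : ¬ p ∣ (Subgroup.zpowers u).index)
  (hD : (σ u - 1) ^ (p - 1) = 0) (π : Module.End K M) (hπ : π * π = π)
  (hπN : ∀ n ∈ Subgroup.normalizer (Subgroup.zpowers u : Set G), Commute π (σ n))

include hu hsyl hD hπ hπN

/-- The lifted idempotent. -/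
theorem lift_idem :
    ∃ e : Module.End K M, e * e = e ∧ (∀ g, Commute e (σ g)) ∧ Low σ u (e - π) ∧
      ∀ B : LinearMap.BilinForm K M, (∀ g x y, B (σ g x) (σ g y) = B x y) →
        (∀ x y, B (π x) y = B x (π y)) → ∀ x y, B (e x) y = B x (e y) := by
  classical
  rcases subsingleton_or_nontrivial M with hM | hM
  · exact ⟨π, hπ, fun g => LinearMap.ext fun x => Subsingleton.elim _ _,
      by rw [sub_self]; exact Low.zero, fun B _ h => h⟩
  set P := Subgroup.zpowers u with hP
  haveI := Fintype.ofFinite (G ⧸ P)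
  let C : G → Module.End K M := fun g => σ g * π * σ g⁻¹
  have hPN : P ≤ Subgroup.normalizer (P : Set G) := Subgroup.le_normalizer
  have hCN : ∀ n ∈ Subgroup.normalizer (P : Set G), C n = π := fun n hn => by
    show σ n * π * σ n⁻¹ = π
    rw [← (hπN n hn).eq, mul_assoc, ← map_mul, mul_inv_cancel, map_one, mul_one]
  have hCmul : ∀ g h, C (g * h) = σ g * C h * σ g⁻¹ := fun g h => by
    simp only [C, map_mul, mul_inv_rev, mul_assoc]
  let F : G ⧸ P → Module.End K M := Quotient.lift C fun a b h => by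
    have h' : a⁻¹ * b ∈ P := QuotientGroup.leftRel_apply.1 h
    have e := hCmul a (a⁻¹ * b)
    rw [mul_inv_cancel_left, hCN _ (hPN h')] at e
    exact e.symm
  have hFmk : ∀ g : G, F (g : G ⧸ P) = C g := fun g => rfl
  have hFsmul : ∀ (g : G) (q : G ⧸ P), F (g • q) = σ g * F q * σ g⁻¹ := fun g q => by
    obtain ⟨h, rfl⟩ := QuotientGroup.mk_surjective q
    exact hCmul g h
  set T := ∑ q, F q with hT
  have hTg : ∀ g, Commute T (σ g) := fun g => by
    have h1 : σ g * T * σ g⁻¹ = T := by
      rw [hT, mul_sum, sum_mul]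
      exact Fintype.sum_equiv (MulAction.toPerm g) _ _ fun q => (hFsmul g q).symm
    show T * σ g = σ g * T
    conv_lhs => rw [← h1]
    rw [mul_assoc, ← map_mul, inv_mul_cancel, map_one, mul_one]
  set Fix := Finset.univ.filter (fun q : G ⧸ P => u • q = q) with hFix
  have hfixF : ∀ q ∈ Fix, F q = π := by
    intro q hq
    obtain ⟨g, rfl⟩ := QuotientGroup.mk_surjective q
    have h0 : ((u * g : G) : G ⧸ P) = (g : G ⧸ P) := (mem_filter.1 hq).2
    have h1 : g⁻¹ * u * g ∈ P := by
      have := QuotientGroup.eq.1 h0.symm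
      simpa [mul_assoc] using this
    refine hCN g ?_
    have hle : P.map (MulAut.conj g⁻¹).toMonoidHom ≤ P := by
      rw [hP, MonoidHom.map_zpowers, Subgroup.zpowers_le]
      simpa [hP] using h1
    have heq : P.map (MulAut.conj g⁻¹).toMonoidHom = P :=
      Subgroup.eq_of_le_of_card_ge hle (Subgroup.card_map_of_injective (MulEquiv.injective _)).ge
    rw [← inv_inv g]
    refine inv_mem (Subgroup.mem_normalizer_iff.2 fun x => ?_)
    constructor
    · intro hx
      rw [← heq]
      exact ⟨x, hx, rfl⟩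
    · intro hx
      rw [← heq] at hx
      obtain ⟨y, hy, hyx⟩ := hx
      exact (MulEquiv.injective (MulAut.conj g⁻¹) hyx) ▸ hy
  set c := Fix.card with hc
  have hpu : IsPGroup p P := IsPGroup.of_card (n := 1) (by rw [Nat.card_zpowers, hu, pow_one])
  have hcne : (c : K) ≠ 0 := by
    rw [Ne, CharP.cast_eq_zero_iff K p]
    intro hdvd
    have hm := hpu.card_modEq_card_fixedPoints (G ⧸ P)
    have hcard : Nat.card (MulAction.fixedPoints P (G ⧸ P)) = c := by
      rw [hc, ← Nat.card_eq_finsetCard]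
      refine Nat.card_congr (Equiv.subtypeEquivRight fun q => ?_)
      simp only [hFix, mem_filter, mem_univ, true_and, MulAction.mem_fixedPoints]
      constructor
      · exact fun h => h ⟨u, Subgroup.mem_zpowers u⟩
      · rintro h ⟨x, hx⟩
        obtain ⟨n, rfl⟩ := Subgroup.mem_zpowers_iff.1 hx
        exact MulAction.mem_stabilizer_iff.1 (Subgroup.zpow_mem _ (MulAction.mem_stabilizer_iff.2 h) n)
    rw [hcard, ← Subgroup.index_eq_card] at hm
    exact hsyl (Nat.modEq_zero_iff_dvd.1 (hm.trans (Nat.modEq_zero_iff_dvd.2 hdvd)))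
  have hrest : Low σ u (∑ q ∈ Finset.univ.filter (fun q : G ⧸ P => ¬ u • q = q), F q) := by
    refine ⟨?_, ?_⟩
    · have e : ∑ q ∈ Finset.univ.filter (fun q : G ⧸ P => ¬ u • q = q), F q =
          T - ∑ q ∈ Fix, F q := by
        rw [hT, eq_sub_iff_add_eq, add_comm]
        exact sum_filter_add_sum_filter_not _ _ _
      rw [e, sum_congr rfl hfixF, sum_const]
      exact (hTg u).sub_left ((hπN u (hPN (Subgroup.mem_zpowers u))).smul_left _)
    rw [← sum_fiberwise _ (fun q : G ⧸ P => (⟦q⟧ : MulAction.orbitRel.Quotient P (G ⧸ P)))]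
    rintro _ ⟨x, rfl⟩
    rw [LinearMap.sum_apply]
    refine Submodule.sum_mem _ fun o _ => ?_
    rcases Finset.eq_empty_or_nonempty ((Finset.univ.filter (fun q : G ⧸ P => ¬ u • q = q)).filter
      (fun q : G ⧸ P => (⟦q⟧ : MulAction.orbitRel.Quotient P (G ⧸ P)) = o)) with he | ⟨q₀, hq₀⟩
    · rw [he, sum_empty]; simp
    simp only [mem_filter, mem_univ, true_and] at hq₀
    have hfree : ∀ n : ℕ, u ^ n • q₀ = q₀ → p ∣ n := by
      intro n hn
      by_contra hpn
      refine hq₀.1 ?_
      have hcop : Nat.Coprime n (orderOf u) := by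
        rw [hu, Nat.coprime_comm, hp.out.coprime_iff_not_dvd]
        exact hpn
      obtain ⟨m, hm⟩ := exists_pow_eq_self_of_coprime hcop
      rw [← hm]
      exact MulAction.mem_stabilizer_iff.1 (pow_mem (MulAction.mem_stabilizer_iff.2 hn) m)
    have hset : (Finset.univ.filter (fun q : G ⧸ P => ¬ u • q = q)).filter
        (fun q : G ⧸ P => (⟦q⟧ : MulAction.orbitRel.Quotient P (G ⧸ P)) = o) =
        (range p).image (fun i => u ^ i • q₀) := by
      ext q
      simp only [mem_filter, mem_univ, true_and, Finset.mem_image, mem_range]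
      constructor
      · rintro ⟨-, h⟩
        obtain ⟨⟨y, hy⟩, hyq⟩ := MulAction.orbitRel_apply.1 (Quotient.exact (h.trans hq₀.2.symm))
        have hy' := hy
        rw [← mem_powers_iff_mem_zpowers, mem_powers_iff_mem_range_orderOf, hu] at hy'
        obtain ⟨i, hi, rfl⟩ := Finset.mem_image.1 hy'
        exact ⟨i, mem_range.1 hi, hyq⟩
      · rintro ⟨i, -, rfl⟩
        refine ⟨fun h => hq₀.1 ?_, (Quotient.sound (MulAction.orbitRel_apply.2
          ⟨⟨u ^ i, pow_mem (Subgroup.mem_zpowers u) i⟩, rfl⟩)).trans hq₀.2⟩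
        rw [← mul_smul, ← pow_succ', pow_succ, mul_smul] at h
        exact MulAction.injective (u ^ i) h
    rw [hset, sum_image fun i hi j hj hij => ?_]
    · rw [sum_congr rfl (g := fun i => σ u ^ i * F q₀ * σ u⁻¹ ^ i) fun i _ => by
        rw [hFsmul, map_pow, ← inv_pow, map_pow]]
      exact sum_conj_range (by rw [← map_mul, inv_mul_cancel, map_one])
        (by rw [← map_mul, mul_inv_cancel, map_one]) hD (F q₀) ⟨x, rfl⟩
    · have hij' : u ^ i • q₀ = u ^ j • q₀ := hij
      have hi' := mem_range.1 hi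
      have hj' := mem_range.1 hj
      rcases le_total i j with hle | hle
      · obtain ⟨n, rfl⟩ := Nat.exists_eq_add_of_le hle
        rw [pow_add, mul_smul] at hij'
        have hd := hfree n (MulAction.injective (u ^ i) hij').symm
        rcases Nat.eq_zero_or_pos n with rfl | hn
        · rw [add_zero]
        · have := Nat.le_of_dvd hn hd; omega
      · obtain ⟨n, rfl⟩ := Nat.exists_eq_add_of_le hle
        rw [pow_add, mul_smul] at hij'
        have hd := hfree n (MulAction.injective (u ^ j) hij')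
        rcases Nat.eq_zero_or_pos n with rfl | hn
        · rw [add_zero]
        · have := Nat.le_of_dvd hn hd; omega
  set x := (c : K)⁻¹ • T with hx
  have hxπ : Low σ u (x - π) := by
    have e : T = (c : K) • π + ∑ q ∈ Finset.univ.filter (fun q : G ⧸ P => ¬ u • q = q), F q := by
      rw [hT, ← sum_filter_add_sum_filter_not Finset.univ (fun q : G ⧸ P => u • q = q),
        sum_congr rfl hfixF, sum_const, ← Nat.cast_smul_eq_nsmul K]
    rw [hx, e, smul_add, smul_smul, inv_mul_cancel₀ hcne, one_smul, add_sub_cancel_left]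
    exact hrest.smul _
  have hxg : ∀ g, Commute x (σ g) := fun g => (hTg g).smul_left _
  have hπu : Commute π (σ u) := hπN u (hPN (Subgroup.mem_zpowers u))
  have hsq : Low σ u (x * x - x) := by
    have e : x * x - x = (x - π) * x + π * (x - π) + -(x - π) := by
      rw [sub_mul, mul_sub, hπ]; abel
    rw [e]
    exact ((hxπ.mul_right (hxg u)).add (hxπ.mul_left hπu)).add hxπ.neg
  obtain ⟨k, hk⟩ : ∃ k : ℕ, (x * x - x) ^ (p ^ k) = 0 :=
    ⟨p - 1, pow_eq_zero_of_le (Nat.lt_pow_self hp.out.one_lt).le (hsq.pow_eq_zero hD)⟩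
  haveI : CharP (Module.End K M) p :=
    charP_of_injective_algebraMap (FaithfulSMul.algebraMap_injective K (Module.End K M)) p
  refine ⟨x ^ (p ^ k), ?_, fun g => (hxg g).pow_left _, ?_, ?_⟩
  · rw [← sub_eq_zero, ← (Commute.refl x).mul_pow, ← sub_pow_char_pow_of_commute, hk]
    exact (Commute.refl x).mul_left (Commute.refl x)
  · have key : ∀ m : ℕ, Low σ u (x ^ (m + 1) - π) := by
      intro m
      induction m with
      | zero => simpa using hxπ
      | succ m ih =>
        have e : x ^ (m + 1 + 1) - π = (x ^ (m + 1) - π) * x + π * (x - π) := by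
          rw [pow_succ x (m + 1), sub_mul, mul_sub, hπ]; abel
        rw [e]
        exact (ih.mul_right (hxg u)).add (hxπ.mul_left hπu)
    obtain ⟨m, hm⟩ : ∃ m, p ^ k = m + 1 :=
      ⟨p ^ k - 1, (Nat.sub_add_cancel (Nat.one_le_pow _ _ hp.out.pos)).symm⟩
    rw [hm]
    exact key m
  · intro B hB hπB
    have hF : ∀ q a b, B (F q a) b = B a (F q b) := by
      intro q a b
      obtain ⟨g, rfl⟩ := QuotientGroup.mk_surjective q
      rw [hFmk]
      show B (σ g (π (σ g⁻¹ a))) b = B a (σ g (π (σ g⁻¹ b)))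
      have e1 := hB g⁻¹ (σ g (π (σ g⁻¹ a))) b
      rw [Representation.inv_self_apply] at e1
      have e2 := hB g⁻¹ a (σ g (π (σ g⁻¹ b)))
      rw [Representation.inv_self_apply] at e2
      rw [← e1, ← e2, hπB]
    have hxB : ∀ a b, B (x a) b = B a (x b) := by
      intro a b
      simp only [hx, hT, LinearMap.smul_apply, LinearMap.sum_apply, map_smul, map_sum, hF]
    have hpowB : ∀ m : ℕ, ∀ a b, B ((x ^ m) a) b = B a ((x ^ m) b) := by
      intro m
      induction m with
      | zero => simp
      | succ m ih =>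
        intro a b
        rw [pow_succ, Module.End.mul_apply, ih, hxB, ← Module.End.mul_apply, ← pow_succ', pow_succ]
    exact hpowB _

end Lift

end Cfsg.Agent.Block.HalfDeg
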