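import Mathlib

/-!
The logarithm of a unipotent element of exponent `p` as a combination of its powers, and the
truncated exponential, in an algebra over a field of characteristic `p`.
-/

set_option autoImplicit false
set_option linter.unusedSectionVars false

namespace Cfsg.Agent.Block.HalfDeg

open Finset

variable {p : ℕ} [hp : Fact p.Prime] {K : Type*} [Field K] [CharP K p]

section Ring

variable {A : Type*} [Ring A] [Algebra K A]

variable (K p) in
/-- The combination `-∑ i⁻¹ uⁱ`, equal to the logarithm at unipotent elements. -/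
def lg (u : A) : A := -∑ i ∈ range p, ((i : K) ^ (p - 2)) • u ^ i

variable (K p) in
/-- The exponential truncated at `p`. -/
def ex (e : A) : A := ∑ j ∈ range p, ((j.factorial : K))⁻¹ • e ^ j

theorem factorial_ne_zero {j : ℕ} (hj : j < p) : (j.factorial : K) ≠ 0 := by
  rw [Ne, CharP.cast_eq_zero_iff K p, hp.out.dvd_factorial]
  omega

theorem sum_range_pow (k : ℕ) :
    ∑ i ∈ range p, (i : K) ^ k = ZMod.castHom (dvd_refl p) K (∑ x : ZMod p, x ^ k) := by
  rw [map_sum]
  refine sum_bij (fun i _ => (i : ZMod p)) (fun i _ => mem_univ _) (fun i hi j hj h => ?_)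
    (fun x _ => ⟨x.val, mem_range.2 (ZMod.val_lt x), ZMod.natCast_zmod_val x⟩) (fun i _ => ?_)
  · have := congrArg ZMod.val h
    rwa [ZMod.val_cast_of_lt (mem_range.1 hi), ZMod.val_cast_of_lt (mem_range.1 hj)] at this
  · rw [map_pow, map_natCast]

theorem sum_pow_small {k : ℕ} (hk : k < p - 1) : ∑ i ∈ range p, (i : K) ^ k = 0 := by
  rw [sum_range_pow, FiniteField.sum_pow_lt_card_sub_one (ZMod p) k (by rw [ZMod.card]; omega),
    map_zero]

theorem sum_pow_top : ∑ i ∈ range p, (i : K) ^ (p - 1) = -1 := by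
  classical
  have h1 : ∀ x : ZMod p, x ^ (p - 1) = 1 - (if x = 0 then 1 else 0) := by
    intro x
    have := hp.out.two_le
    rcases eq_or_ne x 0 with rfl | hx
    · rw [zero_pow (by omega), if_pos rfl, sub_self]
    · rw [ZMod.pow_card_sub_one_eq_one hx, if_neg hx, sub_zero]
  rw [sum_range_pow, sum_congr rfl fun x _ => h1 x, sum_sub_distrib, sum_ite_eq', sum_const,
    card_univ, ZMod.card, nsmul_eq_mul, ZMod.natCast_self, zero_mul, if_pos (mem_univ _), zero_sub,
    map_neg, map_one]

theorem sum_pow_shift {j : ℕ} (hj : j < p) :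
    ∑ i ∈ range p, (i : K) ^ (p - 2 + j) = if j = 1 then -1 else 0 := by
  have h2 := hp.out.two_le
  rcases Nat.lt_trichotomy j 1 with h | h | h
  · rw [if_neg h.ne, show j = 0 by omega, add_zero, sum_pow_small (by omega)]
  · rw [if_pos h, h, show p - 2 + 1 = p - 1 by omega, sum_pow_top]
  · rw [if_neg h.ne']
    rw [sum_range_pow, sum_congr rfl (g := fun x : ZMod p => x ^ (j - 1)) fun x _ => ?_,
      FiniteField.sum_pow_lt_card_sub_one (ZMod p) (j - 1) (by rw [ZMod.card]; omega), map_zero]
    rcases eq_or_ne x 0 with rfl | hx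
    · rw [zero_pow (by omega), zero_pow (by omega)]
    · rw [show p - 2 + j = (p - 1) + (j - 1) by omega, pow_add, ZMod.pow_card_sub_one_eq_one hx,
        one_mul]

theorem map_lg {B : Type*} [Ring B] [Algebra K B] (f : A →ₐ[K] B) (u : A) :
    f (lg p K u) = lg p K (f u) := by
  simp only [lg, map_neg, map_sum, map_smul, map_pow]

theorem map_ex {B : Type*} [Ring B] [Algebra K B] (f : A →ₐ[K] B) (e : A) :
    f (ex p K e) = ex p K (f e) := by
  simp only [ex, map_sum, map_smul, map_pow]

theorem ex_zero : ex p K (0 : A) = 1 := by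
  rw [ex, sum_eq_single_of_mem 0 (mem_range.2 hp.out.pos) fun j _ hj => by
    rw [zero_pow hj, smul_zero]]
  simp

theorem ex_add {e f : A} {n m : ℕ} (h : Commute e f) (he : e ^ n = 0) (hf : f ^ m = 0)
    (hnm : n + m ≤ p + 1) : ex p K e * ex p K f = ex p K (e + f) := by
  classical
  have hl : ex p K e * ex p K f = ∑ q ∈ range p ×ˢ range p,
      ((q.1.factorial : K)⁻¹ * (q.2.factorial : K)⁻¹) • (e ^ q.1 * f ^ q.2) := by
    rw [ex, ex, sum_mul_sum, sum_product]
    simp only [smul_mul_smul_comm]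
  have hr : ex p K (e + f) = ∑ q ∈ (range p ×ˢ range p).filter (fun q => q.1 + q.2 < p),
      ((q.1.factorial : K)⁻¹ * (q.2.factorial : K)⁻¹) • (e ^ q.1 * f ^ q.2) := by
    rw [ex]
    rw [sum_congr rfl fun j hj => show ((j.factorial : K))⁻¹ • (e + f) ^ j = ∑ q ∈ antidiagonal j,
        ((q.1.factorial : K)⁻¹ * (q.2.factorial : K)⁻¹) • (e ^ q.1 * f ^ q.2) from ?_]
    · refine (sum_biUnion ?_).symm.trans (sum_congr ?_ fun _ _ => rfl)
      · intro a _ b _ hab
        simp only [Function.onFun, disjoint_left, HasAntidiagonal.mem_antidiagonal]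
        rintro q rfl hb
        exact hab hb
      · ext ⟨a, b⟩
        simp only [mem_biUnion, mem_range, HasAntidiagonal.mem_antidiagonal, mem_filter, mem_product]
        constructor
        · rintro ⟨j, hj, rfl⟩
          exact ⟨⟨by omega, by omega⟩, hj⟩
        · rintro ⟨-, hlt⟩
          exact ⟨_, hlt, rfl⟩
    · rw [h.add_pow', smul_sum]
      refine sum_congr rfl fun q hq => ?_
      rw [← Nat.cast_smul_eq_nsmul K, smul_smul]
      congr 1
      have hq' := HasAntidiagonal.mem_antidiagonal.1 hq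
      subst hq'
      have hlt := mem_range.1 hj
      have h1 := factorial_ne_zero (K := K) (p := p) (j := q.1) (by omega)
      have h2 := factorial_ne_zero (K := K) (p := p) (j := q.2) (by omega)
      have h3 := factorial_ne_zero (K := K) (p := p) hlt
      have key : ((q.1 + q.2).choose q.1 : K) * (q.1.factorial : K) * (q.2.factorial : K) =
          ((q.1 + q.2).factorial : K) := by
        rw [← Nat.cast_mul, ← Nat.cast_mul, show (q.1 + q.2).choose q.1 = (q.1 + q.2).choose q.1 from rfl,
          show q.1 + q.2 = q.1 + q.2 from rfl]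
        congr 1
        have h4 := Nat.choose_mul_factorial_mul_factorial (Nat.le_add_right q.1 q.2)
        rwa [Nat.add_sub_cancel_left] at h4
      field_simp
      linear_combination key
  rw [hl, hr, sum_filter_of_ne]
  intro q hq hne
  by_contra hlt
  apply hne
  rcases le_or_gt n q.1 with h1 | h1
  · rw [pow_eq_zero_of_le h1 he, zero_mul, smul_zero]
  · rw [pow_eq_zero_of_le (show m ≤ q.2 by omega) hf, mul_zero, smul_zero]

theorem ex_pow {e : A} {n : ℕ} (he : e ^ n = 0) (hn : n + n ≤ p + 1) (i : ℕ) :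
    ex p K e ^ i = ex p K ((i : K) • e) := by
  induction i with
  | zero => rw [pow_zero, Nat.cast_zero, zero_smul, ex_zero]
  | succ i ih =>
    rw [pow_succ, ih, ex_add ((Commute.refl e).smul_left _) (by rw [smul_pow, he, smul_zero]) he hn,
      Nat.cast_succ, add_smul, one_smul]

theorem lg_ex {e : A} {n : ℕ} (he : e ^ n = 0) (hn : n + n ≤ p + 1) : lg p K (ex p K e) = e := by
  have h2 := hp.out.two_le
  rw [lg, sum_congr rfl fun i _ => by rw [ex_pow he hn i, ex, smul_sum], sum_comm]
  rw [sum_congr rfl (g := fun j => if j = 1 then -e else 0) fun j hj => ?_]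
  · rw [sum_ite_eq' , if_pos (mem_range.2 (by omega)), neg_neg]
  · have e1 : ∀ i : ℕ, ((i : K) ^ (p - 2)) • ((j.factorial : K))⁻¹ • ((i : K) • e) ^ j =
        ((i : K) ^ (p - 2 + j)) • (((j.factorial : K))⁻¹ • e ^ j) := by
      intro i
      rw [smul_pow, smul_comm ((j.factorial : K))⁻¹, smul_smul, ← pow_add]
    rw [sum_congr rfl fun i _ => e1 i, ← sum_smul, sum_pow_shift (mem_range.1 hj)]
    split_ifs with h
    · subst h; simp
    · rw [zero_smul]

end Ring

section CommRing

variable {A : Type*} [CommRing A] [Algebra K A]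

theorem lg_expand (hp3 : 3 ≤ p) :
    ∃ c : ℕ → K, ∀ u : A, lg p K u = (u - 1) + ∑ j ∈ Ico 2 p, c j • (u - 1) ^ j := by
  classical
  refine ⟨fun j => -∑ i ∈ range p, (i : K) ^ (p - 2) * (i.choose j : K), fun u => ?_⟩
  set D := u - 1 with hD
  have hpow : ∀ i ∈ range p, u ^ i = ∑ j ∈ range p, (i.choose j : K) • D ^ j := by
    intro i hi
    rw [show u = D + 1 by rw [hD, sub_add_cancel], add_pow]
    rw [← sum_subset (s₁ := range (i + 1)) (s₂ := range p)
      (f := fun j => (i.choose j : K) • D ^ j) (range_subset_range.2 (by have := mem_range.1 hi; omega))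
      fun j _ hj => by
        rw [Nat.choose_eq_zero_of_lt (by simp only [mem_range] at hj; omega), Nat.cast_zero, zero_smul]]
    refine sum_congr rfl fun j _ => ?_
    rw [one_pow, mul_one, Algebra.smul_def, map_natCast, mul_comm]
  rw [lg, sum_congr rfl fun i hi => by rw [hpow i hi, smul_sum]]
  rw [sum_comm, sum_congr rfl fun j _ => by simp only [smul_smul]; rw [← sum_smul]]
  rw [range_eq_Ico, sum_eq_sum_Ico_succ_bot (by omega : 0 < p),
    sum_eq_sum_Ico_succ_bot (by omega : 0 + 1 < p), ← range_eq_Ico]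
  have h0 : ∑ i ∈ range p, (i : K) ^ (p - 2) * (i.choose 0 : K) = 0 := by
    simp only [Nat.choose_zero_right, Nat.cast_one, mul_one]
    exact sum_pow_small (by omega)
  have h1 : ∑ i ∈ range p, (i : K) ^ (p - 2) * (i.choose (0 + 1) : K) = -1 := by
    simp only [zero_add, Nat.choose_one_right, ← pow_succ]
    rw [show p - 2 + 1 = p - 1 by omega]
    exact sum_pow_top
  rw [h0, h1, zero_smul, zero_add, neg_add, show (0 : ℕ) + 1 + 1 = 2 from rfl, neg_smul, one_smul,
    neg_neg, pow_one, ← sum_neg_distrib]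
  congr 1
  exact sum_congr rfl fun j _ => (neg_smul _ _).symm

theorem lg_inj (hp3 : 3 ≤ p) {u v : A} (hu : IsNilpotent (u - 1)) (hv : IsNilpotent (v - 1))
    (h : lg p K u = lg p K v) : u = v := by
  classical
  set D := u - 1 with hD
  set D' := v - 1 with hD'
  obtain ⟨c, hc⟩ := lg_expand (A := A) (K := K) hp3
  set S := ∑ j ∈ Ico 2 p, c j • ∑ i ∈ range j, D ^ i * D' ^ (j - 1 - i) with hS
  have hmul : (D - D') * S = ∑ j ∈ Ico 2 p, (c j • D ^ j - c j • D' ^ j) := by
    rw [hS, mul_sum]
    refine sum_congr rfl fun j _ => ?_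
    rw [mul_smul_comm, mul_comm (D - D'), geom_sum₂_mul, smul_sub]
  have hdiff : lg p K u - lg p K v = (D - D') * (1 + S) := by
    rw [mul_add, mul_one, hmul, sum_sub_distrib, hc, hc, ← hD, ← hD']
    abel
  have hSn : S ∈ nilradical A := by
    rw [hS]
    refine Ideal.sum_mem _ fun j hj => ?_
    rw [Algebra.smul_def]
    refine Ideal.mul_mem_left _ _ (Ideal.sum_mem _ fun i hi => ?_)
    rcases Nat.eq_zero_or_pos i with rfl | hipos
    · refine Ideal.mul_mem_left _ _ (Ideal.pow_mem_of_mem _ hv _ ?_)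
      have := (mem_Ico.1 hj).1
      omega
    · exact Ideal.mul_mem_right _ _ (Ideal.pow_mem_of_mem _ hu _ hipos)
  rw [h, sub_self] at hdiff
  have := (IsUnit.mul_left_eq_zero (IsNilpotent.isUnit_one_add hSn)).1 hdiff.symm
  rw [hD, hD', sub_sub_sub_cancel_right, sub_eq_zero] at this
  exact this

theorem lg_pow_zero (hp3 : 3 ≤ p) {u : A} {n : ℕ} (hu : (u - 1) ^ n = 0) :
    lg p K u ^ n = 0 := by
  obtain ⟨c, hc⟩ := lg_expand (A := A) (K := K) hp3
  obtain ⟨q, hq⟩ : (u - 1) ∣ lg p K u := by
    rw [hc]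
    refine dvd_add dvd_rfl (dvd_sum fun j hj => ?_)
    rw [Algebra.smul_def]
    exact Dvd.dvd.mul_left (dvd_pow_self _ (by have := (mem_Ico.1 hj).1; omega)) _
  rw [hq, mul_pow, hu, zero_mul]

theorem ex_lg (hp3 : 3 ≤ p) {u : A} {n : ℕ} (hu : (u - 1) ^ n = 0) (hn : n + n ≤ p + 1) :
    ex p K (lg p K u) = u := by
  classical
  have he := lg_pow_zero (K := K) hp3 hu
  refine lg_inj hp3 ?_ ⟨n, hu⟩ (lg_ex he hn)
  show (ex p K (lg p K u) - 1) ∈ nilradical A
  rw [ex, ← sum_erase_add _ _ (mem_range.2 hp.out.pos)]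
  simp only [Nat.factorial_zero, Nat.cast_one, inv_one, pow_zero, one_smul, add_sub_cancel_right]
  refine Ideal.sum_mem _ fun j hj => ?_
  rw [Algebra.smul_def]
  exact Ideal.mul_mem_left _ _ (Ideal.pow_mem_of_mem _ (show lg p K u ∈ nilradical A from ⟨n, he⟩) _
    (Nat.pos_of_ne_zero (mem_erase.1 hj).1))

end CommRing

end Cfsg.Agent.Block.HalfDeg
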