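import Mathlib
import Cfsg.Agent.Lib.Block.HalfDeg.Log

/-!
The logarithm of a unipotent endomorphism with short blocks.
-/

set_option autoImplicit false
set_option linter.unusedSectionVars false

namespace Cfsg.Agent.Block.HalfDeg

open Finset Polynomial

variable {p : ℕ} [hp : Fact p.Prime] {K : Type*} [Field K] [CharP K p]
variable {B : Type*} [Ring B] [Algebra K B]

/-- The facts on the logarithm, in any algebra. -/
theorem lg_facts (hp3 : 3 ≤ p) {U : B} {n : ℕ} (hU : (U - 1) ^ n = 0) (hn : n + n ≤ p + 1) :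
    lg p K U ^ n = 0 ∧ ex p K (lg p K U) = U ∧
      (∀ k : ℕ, lg p K (U ^ k) = (k : K) • lg p K U) ∧
      ∃ q : B, Commute q U ∧ IsUnit q ∧ U - 1 = lg p K U * q := by
  classical
  set I : Ideal K[X] := Ideal.span {(X - 1) ^ n} with hI
  let φ : K[X] ⧸ I →ₐ[K] B := Ideal.Quotient.liftₐ I (aeval U) (by
    intro a ha
    obtain ⟨b, rfl⟩ := Ideal.mem_span_singleton.1 ha
    simp [hU])
  set x : K[X] ⧸ I := Ideal.Quotient.mk I X with hx
  have hφx : φ x = U := by
    exact aeval_X U
  have hx0 : (x - 1) ^ n = 0 := by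
    rw [hx, ← map_one (Ideal.Quotient.mk I), ← map_sub, ← map_pow, Ideal.Quotient.eq_zero_iff_mem]
    exact Ideal.subset_span rfl
  have h0 : lg p K x ^ n = 0 := lg_pow_zero hp3 hx0
  have h1 : ex p K (lg p K x) = x := ex_lg hp3 hx0 hn
  have hE0 : lg p K U ^ n = 0 := by
    rw [← hφx, ← map_lg, ← map_pow, h0, map_zero]
  have hex : ex p K (lg p K U) = U := by
    rw [← hφx, ← map_lg, ← map_ex, h1]
  have hsmul : ∀ k : ℕ, lg p K (U ^ k) = (k : K) • lg p K U := by
    intro k
    conv_lhs => rw [← hex, ex_pow hE0 hn k]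
    exact lg_ex (by rw [_root_.smul_pow, hE0, smul_zero]) hn
  obtain ⟨q, hq, hqu⟩ : ∃ q, x - 1 = lg p K x * q ∧ IsUnit q := by
    refine ⟨∑ j ∈ range (p - 1), (((j + 1).factorial : K))⁻¹ • lg p K x ^ j, ?_, ?_⟩
    · conv_lhs => rw [← h1]
      rw [ex, show p = (p - 1) + 1 by omega, sum_range_succ', mul_sum, show p - 1 + 1 - 1 = p - 1 by omega]
      simp only [Nat.factorial_zero, Nat.cast_one, inv_one, pow_zero, one_smul, add_sub_cancel_right,
        mul_smul_comm, ← pow_succ']
    · have h2 := hp.out.two_le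
      rw [show p - 1 = (p - 2) + 1 by omega, sum_range_succ']
      simp only [zero_add, Nat.factorial_one, Nat.cast_one, inv_one, pow_zero, one_smul]
      refine IsNilpotent.isUnit_add_one ?_
      refine mem_nilradical.1 (Ideal.sum_mem _ fun j _ => ?_)
      exact Submodule.smul_of_tower_mem _ _ (Ideal.pow_mem_of_mem _ (mem_nilradical.2 ⟨n, h0⟩) _ (Nat.succ_pos j))
  refine ⟨hE0, hex, hsmul, φ q, ?_, hqu.map φ, ?_⟩
  · rw [← hφx]
    exact (Commute.all q x).map φ
  · rw [← hφx, ← map_lg, ← map_mul, ← hq, map_sub, map_one]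

theorem commute_lg {U c : B} (h : Commute c U) : Commute c (lg p K U) :=
  (Commute.sum_right _ _ _ fun i _ => (h.pow_right i).smul_right _).neg_right

theorem commute_ex {e c : B} (h : Commute c e) : Commute c (ex p K e) :=
  Commute.sum_right _ _ _ fun i _ => (h.pow_right i).smul_right _

end Cfsg.Agent.Block.HalfDeg
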