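import Mathlib
import Cfsg.Agent.Lib.Block.HalfDeg.LogEnd
import Cfsg.Agent.Lib.Block.HalfDeg.Lift

/-!
An irreducible representation of small degree in characteristic `p`: the unipotent element has
blocks of a single size, and its logarithm extends to a triple in the endomorphism algebra which is
stable under a complement of the subgroup of order `p` in its normalizer.
-/

set_option autoImplicit false
set_option linter.unusedSectionVars false
set_option linter.style.haveILetI false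
set_option maxHeartbeats 800000

namespace Cfsg.Agent.Block.HalfDeg

open Finset

variable {G : Type*} [Group G] [Finite G] {p : ℕ} [hp : Fact p.Prime]
variable {K : Type*} [Field K] [CharP K p] {V : Type*} [AddCommGroup V] [Module K V]
  [FiniteDimensional K V]

/-- The data of the logarithm and its partner. -/
structure Trip (ρ : Representation K G V) (u : G) (d : ℕ) (H : Subgroup G) (E F : Module.End K V) :
    Prop where
  deg : d + d ≤ p + 1
  nil : E ^ d = 0
  exp : ex p K E = ρ u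
  unit : ∃ q : Module.End K V, Commute q (ρ u) ∧ IsUnit q ∧ ρ u - 1 = E * q
  split : ∀ n ∈ Subgroup.normalizer (Subgroup.zpowers u : Set G),
    ∃ (i : ℕ) (h : G), h ∈ H ∧ n = u ^ i * h
  weight : ∀ h ∈ H, ∃ k : K, k ≠ 0 ∧ ρ h * E = k • (E * ρ h) ∧ k • (ρ h * F) = F * ρ h
  double : E * (E * F) - (2 : K) • (E * F * E) + F * E * E = -((2 : K) • E)
  trace_ne : LinearMap.trace K V (E * F) ≠ 0

theorem six_sum (a : ℤ) (n : ℕ) :
    6 * ∑ j ∈ range n, (j : ℤ) * (a - j) = n * (n - 1) * (3 * a - 2 * n + 1) := by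
  induction n with
  | zero => simp
  | succ n ih => rw [sum_range_succ, mul_add, ih]; push_cast; ring

theorem exists_trip_of_nilpotent (ρ : Representation K G V) {u : G} (hu : orderOf u = p)
    (hsyl : ¬ p ∣ (Subgroup.zpowers u).index)
    (hirr : ∀ S : Submodule K V, (∀ g, ∀ v ∈ S, ρ g v ∈ S) → S = ⊥ ∨ S = ⊤) (hne : ρ u ≠ 1)
    {d : ℕ} (hDd : (ρ u - 1) ^ d = 0) (hd : Module.finrank K V < p) (hdp : d + d ≤ p + 1)
    (hp5 : 5 ≤ p) :
    ∃ (H : Subgroup G) (E F : Module.End K V), Trip (p := p) ρ u d H E F := by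
  classical
  have hne' : (ρ u - 1) ≠ 0 := sub_ne_zero.2 hne
  have hdpos : 0 < d := by
    rcases Nat.eq_zero_or_pos d with rfl | h
    · rw [pow_zero] at hDd
      exact absurd (LinearMap.ext fun x => by
        rw [← Module.End.one_apply (R := K) (ρ u x), hDd, LinearMap.zero_apply,
          ← LinearMap.zero_apply (σ₁₂ := RingHom.id K) (M₂ := V) x, ← hDd]) hne
    · exact h
  have hp3 : 3 ≤ p := by omega
  haveI : Nontrivial V := by
    by_contra h
    rw [not_nontrivial_iff_subsingleton] at h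
    exact hne (LinearMap.ext fun x => Subsingleton.elim _ _)
  haveI : CharP (Module.End K V) p :=
    charP_of_injective_algebraMap (FaithfulSMul.algebraMap_injective K (Module.End K V)) p
  have hup : u ^ p = 1 := by rw [← hu]; exact pow_orderOf_eq_one u
  obtain ⟨hE0, hex, hsmul, q, hqc, hqu, hq⟩ := lg_facts (K := K) hp3 hDd (by omega)
  set E := lg p K (ρ u) with hE
  have hEne : E ≠ 0 := fun h => hne (by rw [← hex, h, ex_zero])
  -- the nilpotency index
  have hex0 : ∃ a, E ^ a = 0 := ⟨d, hE0⟩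
  set a := Nat.find hex0 with ha
  have haz : E ^ a = 0 := Nat.find_spec hex0
  have had : a ≤ d := Nat.find_min' hex0 hE0
  have ha2 : 2 ≤ a := by
    by_contra h
    push Not at h
    have h1 : E ^ 1 = 0 := pow_eq_zero_of_le (by omega) haz
    rw [pow_one] at h1
    exact hEne h1
  have ha1 : E ^ (a - 1) ≠ 0 := Nat.find_min hex0 (by omega)
  -- the normalizer
  set P := Subgroup.zpowers u with hP
  set N := Subgroup.normalizer (P : Set G) with hN
  haveI : (P.subgroupOf N).Normal := Subgroup.normal_in_normalizer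
  have hPN : P ≤ N := Subgroup.le_normalizer
  have hcP : Nat.card (P.subgroupOf N) = p := by
    rw [Nat.card_congr (Subgroup.subgroupOfEquivOfLe hPN).toEquiv, Nat.card_zpowers, hu]
  have hcop : Nat.Coprime (Nat.card (P.subgroupOf N)) (P.subgroupOf N).index := by
    rw [hcP, hp.out.coprime_iff_not_dvd]
    intro h
    refine hsyl (h.trans ?_)
    rw [show (P.subgroupOf N).index = P.relIndex N from rfl]
    exact Subgroup.relIndex_dvd_index_of_le hPN
  obtain ⟨C, hC⟩ := Subgroup.exists_right_complement'_of_coprime hcop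
  set H := C.map N.subtype with hH
  have hsplit : ∀ n ∈ N, ∃ (i : ℕ) (h : G), h ∈ H ∧ n = u ^ i * h := by
    intro n hn
    obtain ⟨⟨⟨x, hx⟩, ⟨y, hy⟩⟩, hxy, -⟩ := hC.existsUnique ⟨n, hn⟩
    have hx' : (x : G) ∈ P := hx
    obtain ⟨i, hi⟩ := (mem_powers_iff_mem_zpowers.2 hx' : (x : G) ∈ Submonoid.powers u)
    exact ⟨i, y, ⟨y, hy, rfl⟩, (congrArg Subtype.val hxy).symm.trans (congrArg (· * (y : G)) hi.symm)⟩
  have hHN : H ≤ N := Subgroup.map_subtype_le C
  have hHcard : ((Nat.card H : ℕ) : K) ≠ 0 := by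
    rw [Ne, CharP.cast_eq_zero_iff K p, hH, Subgroup.card_subtype]
    intro h
    rw [← hC.symm.index_eq_card] at h
    exact (hp.out.coprime_iff_not_dvd.1 (hcP ▸ hcop)) h
  have hwt : ∀ n ∈ N, ∃ k : ℕ, (k : K) ≠ 0 ∧ n * u = u ^ k * n ∧ ρ n * E = (k : K) • (E * ρ n) := by
    intro n hn
    have hmem : n * u * n⁻¹ ∈ P := (Subgroup.mem_normalizer_iff.1 hn u).1 (Subgroup.mem_zpowers u)
    obtain ⟨k, hk⟩ := (mem_powers_iff_mem_zpowers.2 hmem : n * u * n⁻¹ ∈ Submonoid.powers u)
    have hk' : n * u = u ^ k * n := by rw [show u ^ k = n * u * n⁻¹ from hk, inv_mul_cancel_right]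
    refine ⟨k, ?_, hk', ?_⟩
    · rw [Ne, CharP.cast_eq_zero_iff K p]
      rintro ⟨c, rfl⟩
      have h1 : n * u * n⁻¹ = 1 := by rw [← show u ^ (p * c) = n * u * n⁻¹ from hk, pow_mul, hup, one_pow]
      have h2 : u = 1 := by simpa using h1
      exact hne (by rw [h2, map_one])
    · have hgen : ∀ X Y : Module.End K V, ρ n * X = Y * ρ n → ρ n * lg p K X = lg p K Y * ρ n := by
        intro X Y h
        simp only [lg, mul_neg, neg_mul, mul_sum, sum_mul, mul_smul_comm, smul_mul_assoc]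
        congr 1
        refine sum_congr rfl fun i _ => ?_
        congr 1
        exact (SemiconjBy.pow_right (show SemiconjBy (ρ n) X Y from h) i).eq
      rw [hE, hgen _ (ρ u ^ k) (by rw [← map_mul, hk', map_mul, map_pow]), hsmul, smul_mul_assoc]
  -- an invariant complement of the kernel of `E ^ (a - 1)`
  set Kr := LinearMap.ker (E ^ (a - 1)) with hKr
  have hEpow : ∀ h ∈ N, ∀ j : ℕ, ∃ c : K, c ≠ 0 ∧ ρ h * E ^ j = c • (E ^ j * ρ h) := by
    intro h hh j
    obtain ⟨k, hk0, -, hk⟩ := hwt h hh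
    refine ⟨(k : K) ^ j, pow_ne_zero j hk0, ?_⟩
    induction j with
    | zero => simp
    | succ j ih =>
      rw [pow_succ E, ← mul_assoc, ih, smul_mul_assoc, mul_assoc, hk, mul_smul_comm, smul_smul,
        pow_succ, mul_assoc]
  have hKrH : ∀ h ∈ N, ∀ v ∈ Kr, ρ h v ∈ Kr := by
    intro h hh v hv
    obtain ⟨c, hc, hc'⟩ := hEpow h hh (a - 1)
    have h1 := congrArg (fun f : Module.End K V => f v) hc'
    simp only [Module.End.mul_apply, LinearMap.smul_apply, LinearMap.mem_ker.1 hv, map_zero] at h1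
    exact LinearMap.mem_ker.2 ((smul_eq_zero.1 h1.symm).resolve_left hc)
  obtain ⟨g₀, hg₀⟩ := LinearMap.exists_extend (LinearMap.id : Kr →ₗ[K] Kr)
  haveI := Fintype.ofFinite H
  set q₀ : Module.End K V := Kr.subtype ∘ₗ g₀
  have hq₀r : ∀ v, q₀ v ∈ Kr := fun v => (g₀ v).2
  have hq₀i : ∀ v ∈ Kr, q₀ v = v := fun v hv => by
    show ((g₀ v : Kr) : V) = v
    have := LinearMap.congr_fun hg₀ ⟨v, hv⟩
    simpa using congrArg Subtype.val this
  set cH : K := ((Nat.card H : ℕ) : K)⁻¹
  set avg : Module.End K V → Module.End K V :=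
    fun f => cH • ∑ h : H, ρ (h : G) * f * ρ (h : G)⁻¹ with havg
  have havg_comm : ∀ f, ∀ h ∈ H, Commute (avg f) (ρ h) := by
    intro f h hh
    refine Commute.smul_left ?_ _
    show _ * _ = _ * _
    rw [sum_mul, mul_sum]
    refine (Fintype.sum_equiv (Equiv.mulLeft (⟨h, hh⟩ : H)) _ _ fun x => ?_).symm
    simp [map_mul, mul_inv_rev, mul_assoc]
    rw [← map_mul, inv_mul_cancel, map_one, mul_one]
  have havg_range : ∀ f : Module.End K V, ∀ S : Submodule K V, (∀ v, f v ∈ S) →
      (∀ h ∈ H, ∀ v ∈ S, ρ h v ∈ S) → (∀ v ∈ S, f v = v) →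
      (∀ v, avg f v ∈ S) ∧ ∀ v ∈ S, avg f v = v := by
    intro f S hf hS hfi
    refine ⟨fun v => ?_, fun v hv => ?_⟩
    · simp only [havg, LinearMap.smul_apply, LinearMap.sum_apply, Module.End.mul_apply]
      exact S.smul_mem _ (S.sum_mem fun h _ => hS _ h.2 _ (hf _))
    · simp only [havg, LinearMap.smul_apply, LinearMap.sum_apply, Module.End.mul_apply]
      rw [sum_congr rfl (g := fun _ => v) fun h _ => by
        rw [hfi _ (hS _ (inv_mem h.2) _ hv), Representation.self_inv_apply],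
        sum_const, card_univ, ← Nat.card_eq_fintype_card, ← Nat.cast_smul_eq_nsmul K, smul_smul,
        inv_mul_cancel₀ hHcard, one_smul]
  obtain ⟨hqr, hqi⟩ := havg_range q₀ Kr hq₀r (fun h hh => hKrH h (hHN hh)) hq₀i
  set L := LinearMap.ker (avg q₀) with hL
  have hLH : ∀ h ∈ H, ∀ v ∈ L, ρ h v ∈ L := fun h hh v hv => by
    have h1 := congrArg (fun f : Module.End K V => f v) (havg_comm q₀ h hh).eq
    simp only [Module.End.mul_apply] at h1
    rw [LinearMap.mem_ker, h1, LinearMap.mem_ker.1 hv, map_zero]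
  have hLK : ∀ v ∈ L, (E ^ (a - 1)) v = 0 → v = 0 := fun v hv h => by
    rw [← hqi v (LinearMap.mem_ker.2 h), LinearMap.mem_ker.1 hv]
  have hLne : L ≠ ⊥ := by
    intro h
    apply ha1
    refine LinearMap.ext fun v => ?_
    have h1 : v - avg q₀ v ∈ L := by
      rw [LinearMap.mem_ker, map_sub, hqi _ (hqr v), sub_self]
    rw [h, Submodule.mem_bot, sub_eq_zero] at h1
    rw [h1]
    exact LinearMap.mem_ker.1 (hqr v)
  obtain ⟨β, hβ⟩ := LinearMap.exists_leftInverse_of_injective ((E ^ (a - 1)) ∘ₗ L.subtype)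
    (LinearMap.ker_eq_bot.2 fun x y h => by
      have h1 := hLK (x - y : L) (x - y).2 (by
        rw [Submodule.coe_sub, map_sub]; exact sub_eq_zero.2 h)
      rw [Submodule.coe_sub, sub_eq_zero] at h1
      exact Subtype.ext h1)
  have hβ' : ∀ l : L, β ((E ^ (a - 1)) l) = l := fun l => LinearMap.congr_fun hβ l
  -- the free module generated by `L`
  let Φ : (Fin a → L) →ₗ[K] V :=
    ∑ j : Fin a, (E ^ (j : ℕ)) ∘ₗ L.subtype ∘ₗ LinearMap.proj j
  have hΦ : ∀ f, Φ f = ∑ j : Fin a, (E ^ (j : ℕ)) (f j : V) := fun f => by simp [Φ]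
  let S : (Fin a → L) →ₗ[K] (Fin a → L) := LinearMap.pi fun j =>
    if h : (j : ℕ) = 0 then 0 else LinearMap.proj (⟨(j : ℕ) - 1, by omega⟩ : Fin a)
  have hS0 : ∀ f (j : Fin a), (j : ℕ) = 0 → S f j = 0 := fun f j h => by simp [S, h]
  have hS1 : ∀ f (j : Fin a) (i : Fin a), (j : ℕ) = i + 1 → S f j = f i := fun f j i h => by
    have h' : ¬ (j : ℕ) = 0 := by omega
    simp only [S, LinearMap.pi_apply, dif_neg h', LinearMap.proj_apply]
    congr 1
    exact Fin.ext (by simp only; omega)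
  obtain ⟨a', ha'⟩ : ∃ a', a = a' + 1 := ⟨a - 1, by omega⟩
  have hshift : ∀ (g : Fin a → V), (∀ j : Fin a, (j : ℕ) = 0 → g j = 0) →
      ∀ g' : Fin a → V, (∀ j i : Fin a, (j : ℕ) = i + 1 → g j = g' i) →
      (∀ i : Fin a, (i : ℕ) + 1 = a → g' i = 0) → ∑ j, g j = ∑ i, g' i := by
    rw [ha']
    intro g hg g' hgg hg'
    rw [Fin.sum_univ_succ, Fin.sum_univ_castSucc g', hg 0 rfl, zero_add, hg' (Fin.last a') rfl,
      add_zero]
    exact sum_congr rfl fun i _ => hgg _ _ (by simp)
  have hΦS : ∀ f, Φ (S f) = E (Φ f) := by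
    intro f
    rw [hΦ, hΦ, map_sum]
    refine hshift _ (fun j h => by rw [hS0 f j h]; simp) _ (fun j i h => ?_) (fun i h => ?_)
    · rw [hS1 f j i h, h, pow_succ', Module.End.mul_apply]
    · rw [← Module.End.mul_apply, ← pow_succ', h, haz, LinearMap.zero_apply]
  let θ : V →ₗ[K] (Fin a → L) := LinearMap.pi fun j => β ∘ₗ (E ^ (a - 1 - (j : ℕ)))
  have hθE : ∀ v, θ (E v) = S (θ v) := by
    intro v
    funext j
    show β ((E ^ (a - 1 - (j : ℕ))) (E v)) = _
    rw [← Module.End.mul_apply, ← pow_succ]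
    rcases Nat.eq_zero_or_pos (j : ℕ) with h | h
    · rw [hS0 _ _ h, h, Nat.sub_zero, show a - 1 + 1 = a by omega, haz, LinearMap.zero_apply, map_zero]
    · rw [hS1 _ j ⟨(j : ℕ) - 1, by omega⟩ (by simp only; omega)]
      show _ = β ((E ^ (a - 1 - ((j : ℕ) - 1))) v)
      rw [show a - 1 - ((j : ℕ) - 1) = a - 1 - (j : ℕ) + 1 by omega]
  set T : Module.End K (Fin a → L) := θ ∘ₗ Φ with hT
  have hTS : ∀ f, T (S f) = S (T f) := fun f => by
    simp only [hT, LinearMap.comp_apply, hΦS, hθE]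
  have hTinj : Function.Injective T := by
    rw [injective_iff_map_eq_zero]
    intro f hf
    by_contra hne0
    obtain ⟨i, hi⟩ : ∃ i, f i ≠ 0 := by
      by_contra h; push Not at h; exact hne0 (funext h)
    obtain ⟨i₀, hi₀, hmin⟩ := (Finset.univ.filter fun i => f i ≠ 0).exists_min_image
      (fun i : Fin a => (i : ℕ)) ⟨i, mem_filter.2 ⟨mem_univ _, hi⟩⟩
    refine (mem_filter.1 hi₀).2 ?_
    have h1 : β ((E ^ (a - 1 - (i₀ : ℕ))) (Φ f)) = 0 := congrFun hf i₀
    rw [hΦ, map_sum, map_sum, sum_eq_single_of_mem i₀ (mem_univ _) fun b _ hb => ?_] at h1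
    · rw [← Module.End.mul_apply, ← pow_add, show a - 1 - (i₀ : ℕ) + i₀ = a - 1 by omega] at h1
      exact (hβ' _).symm.trans h1
    · by_cases hb0 : f b = 0
      · simp [hb0]
      · have hlt : (i₀ : ℕ) < b := lt_of_le_of_ne (hmin b (mem_filter.2 ⟨mem_univ _, hb0⟩))
          fun e => hb (Fin.ext e.symm)
        rw [← Module.End.mul_apply, ← pow_add, pow_eq_zero_of_le (by omega) haz,
          LinearMap.zero_apply, map_zero]
  let Te := LinearEquiv.ofInjectiveEndo T hTinj
  have hTes : ∀ f, Te.symm (S f) = S (Te.symm f) := fun f => by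
    apply Te.injective
    rw [Te.apply_symm_apply]
    show S f = T (S (Te.symm f))
    rw [hTS]
    exact congrArg S (Te.apply_symm_apply f).symm
  set π₁ : Module.End K V := Φ ∘ₗ (Te.symm : (Fin a → L) →ₗ[K] (Fin a → L)) ∘ₗ θ with hπ₁
  set W := LinearMap.range Φ with hW
  have hπ₁r : ∀ v, π₁ v ∈ W := fun v => ⟨_, rfl⟩
  have hπ₁i : ∀ v ∈ W, π₁ v = v := by
    rintro v ⟨f, rfl⟩
    show Φ (Te.symm (T f)) = Φ f
    exact congrArg Φ (Te.symm_apply_apply f)
  have hπ₁E : Commute π₁ E := LinearMap.ext fun v => by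
    simp only [hπ₁, Module.End.mul_apply, LinearMap.comp_apply, LinearEquiv.coe_coe, hθE, hTes, hΦS]
  have hπ₁U : Commute π₁ (ρ u) := hex ▸ commute_ex hπ₁E
  have hact : ∀ (h : G) (hh : h ∈ H) (k : K), ρ h * E = k • (E * ρ h) → ∀ f : Fin a → L,
      ρ h (Φ f) = Φ (fun j => k ^ (j : ℕ) • ⟨ρ h (f j), hLH h hh _ (f j).2⟩) := by
    intro h hh k hk f
    have hpow : ∀ j : ℕ, ρ h * E ^ j = k ^ j • (E ^ j * ρ h) := by
      intro j
      induction j with
      | zero => simp
      | succ j ih =>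
        rw [pow_succ E, ← mul_assoc, ih, smul_mul_assoc, mul_assoc, hk, mul_smul_comm, smul_smul,
          pow_succ, mul_assoc]
    rw [hΦ, hΦ, map_sum]
    refine sum_congr rfl fun j _ => ?_
    have := LinearMap.congr_fun (hpow (j : ℕ)) (f j : V)
    simp only [Module.End.mul_apply, LinearMap.smul_apply] at this
    rw [this, Submodule.coe_smul, map_smul]
  have hWH : ∀ h ∈ H, ∀ v ∈ W, ρ h v ∈ W := by
    rintro h hh v ⟨f, rfl⟩
    obtain ⟨k, -, -, hk⟩ := hwt h (hHN hh)
    exact ⟨_, (hact h hh k hk f).symm⟩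
  obtain ⟨hπr, hπi⟩ := havg_range π₁ W hπ₁r hWH hπ₁i
  set π := avg π₁ with hπdef
  have hππ : π * π = π := LinearMap.ext fun v => hπi _ (hπr v)
  have hπu : Commute π (ρ u) := by
    refine Commute.smul_left (Commute.sum_left _ _ _ fun h _ => ?_) _
    obtain ⟨k, -, hk, -⟩ := hwt _ (inv_mem (hHN h.2))
    show _ * _ = _ * _
    rw [mul_assoc, ← map_mul, hk, map_mul, map_pow, mul_assoc, ← mul_assoc π₁,
      (hπ₁U.pow_right k).eq, ← mul_assoc, ← mul_assoc, ← map_pow, ← map_mul]
    have hh : (h : G) * u ^ k = u * h := by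
      have h1 := congrArg (fun x => (h : G) * x * (h : G)) hk
      simp only [mul_assoc, inv_mul_cancel, mul_one] at h1
      rw [← mul_assoc (h : G) (h : G)⁻¹, mul_inv_cancel, one_mul] at h1
      exact h1.symm
    rw [hh, map_mul]
    simp only [mul_assoc]
  have hπN : ∀ n ∈ N, Commute π (ρ n) := by
    intro n hn
    obtain ⟨i, h, hh, rfl⟩ := hsplit n hn
    rw [map_mul, map_pow]
    exact (hπu.pow_right i).mul_right (havg_comm π₁ h hh)
  have hDp : (ρ u - 1) ^ (p - 1) = 0 := pow_eq_zero_of_le (by omega) hDd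
  obtain ⟨e, hee, heg, hlow, -⟩ := lift_idem hu hsyl hDp π hππ hπN
  have hinv : ∀ g, ∀ v ∈ LinearMap.range e, ρ g v ∈ LinearMap.range e := by
    rintro g _ ⟨v, rfl⟩
    exact ⟨ρ g v, LinearMap.congr_fun (heg g).eq v⟩
  have hWtop : W = ⊤ := by
    rcases hirr _ hinv with h | h
    · exfalso
      apply hLne
      rw [LinearMap.range_eq_bot] at h
      rw [eq_bot_iff]
      intro l hl
      have hlW : l ∈ W := by
        refine ⟨Pi.single (⟨0, by omega⟩ : Fin a) ⟨l, hl⟩, ?_⟩
        rw [hΦ, sum_eq_single_of_mem (⟨0, by omega⟩ : Fin a) (mem_univ _) fun b _ hb => by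
          rw [Pi.single_eq_of_ne hb]; simp]
        simp
      have h2 : (e - π) l ∈ LinearMap.range (ρ u - 1) := hlow.2 ⟨l, rfl⟩
      rw [h, zero_sub, LinearMap.neg_apply, hπi _ hlW, neg_mem_iff] at h2
      obtain ⟨y, hy⟩ := h2
      refine (Submodule.mem_bot K).2 (hLK l hl ?_)
      rw [← hy, hq, Module.End.mul_apply, ← Module.End.mul_apply, ← pow_succ, show a - 1 + 1 = a by omega,
        haz, LinearMap.zero_apply]
    · have he1 : e = 1 := LinearMap.ext fun v => by
        obtain ⟨w, rfl⟩ : v ∈ LinearMap.range e := h ▸ Submodule.mem_top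
        exact LinearMap.congr_fun hee w
      rw [he1] at hlow
      have h2 : (1 - π) * (1 - π) = 1 - π := by
        simp [sub_mul, mul_sub, hππ]
      have h3 : ∀ m : ℕ, (1 - π) ^ (m + 1) = 1 - π := by
        intro m
        induction m with
        | zero => rw [pow_one]
        | succ m ih => rw [pow_succ, ih, h2]
      have h4 := hlow.pow_eq_zero hDp
      rw [show p - 1 = p - 2 + 1 by omega, h3, sub_eq_zero] at h4
      exact eq_top_iff.2 fun v _ => by
        have h5 := hπr v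
        rwa [← h4, Module.End.one_apply] at h5
  have hΦbij : Function.Bijective Φ :=
    ⟨fun f g h => hTinj (congrArg θ h), LinearMap.range_eq_top.1 hWtop⟩
  let Φe := LinearEquiv.ofBijective Φ hΦbij
  -- the partner
  let c : ℕ → K := fun j => ((j : K) + 1) * ((a : K) - j - 1)
  let S' : (Fin a → L) →ₗ[K] (Fin a → L) := LinearMap.pi fun j =>
    if h : (j : ℕ) + 1 < a then c j • LinearMap.proj (⟨(j : ℕ) + 1, h⟩ : Fin a) else 0
  set F : Module.End K V := Φ ∘ₗ S' ∘ₗ (Φe.symm : V →ₗ[K] (Fin a → L)) with hF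
  have hFΦ : ∀ f, F (Φ f) = Φ (S' f) := fun f => by
    show Φ (S' (Φe.symm (Φe f))) = _
    rw [Φe.symm_apply_apply]
  let e₁ : ℕ → K := fun j => (j : K) * ((a : K) - j)
  have hSS' : ∀ f (j : Fin a), S (S' f) j = e₁ j • f j := by
    intro f j
    rcases Nat.eq_zero_or_pos (j : ℕ) with h | h
    · rw [hS0 _ _ h]; simp [e₁, h]
    · rw [hS1 _ j ⟨(j : ℕ) - 1, by omega⟩ (by simp only; omega)]
      have hlt : (j : ℕ) - 1 + 1 < a := by omega
      simp only [S', LinearMap.pi_apply, dif_pos hlt, LinearMap.smul_apply, LinearMap.proj_apply]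
      congr 2
      · simp only [c, e₁, Nat.cast_sub (show 1 ≤ (j : ℕ) by omega), Nat.cast_one]
        ring
      · exact Fin.ext (by simp only; omega)
  have hS'S : ∀ f (j : Fin a), S' (S f) j = c j • f j := by
    intro f j
    by_cases h : (j : ℕ) + 1 < a
    · simp only [S', LinearMap.pi_apply, dif_pos h, LinearMap.smul_apply, LinearMap.proj_apply]
      rw [hS1 f ⟨(j : ℕ) + 1, h⟩ j rfl]
    · simp only [S', LinearMap.pi_apply, dif_neg h, LinearMap.zero_apply]
      rw [show c j = 0 by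
        simp only [c]
        rw [show (a : K) = ((j : ℕ) : K) + 1 by
          rw [← Nat.cast_succ]; exact congrArg Nat.cast (by omega)]
        ring, zero_smul]
  refine ⟨H, E, F, hdp, hE0, hex, ⟨q, hqc, hqu, hq⟩, hsplit, fun h hh => ?_, ?_, ?_⟩
  · obtain ⟨k, hk0, -, hk⟩ := hwt h (hHN hh)
    refine ⟨(k : K), hk0, hk, LinearMap.ext fun v => ?_⟩
    obtain ⟨f, rfl⟩ := hΦbij.2 v
    simp only [LinearMap.smul_apply, Module.End.mul_apply, hFΦ, hact h hh _ hk, ← map_smul]
    congr 1
    funext j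
    apply Subtype.ext
    by_cases hj : (j : ℕ) + 1 < a
    · simp only [S', LinearMap.pi_apply, dif_pos hj, LinearMap.smul_apply, LinearMap.proj_apply,
        Pi.smul_apply, Submodule.coe_smul, map_smul, smul_smul]
      congr 1
      ring
    · simp [S', dif_neg hj]
  · refine LinearMap.ext fun v => ?_
    obtain ⟨f, rfl⟩ := hΦbij.2 v
    simp only [LinearMap.sub_apply, LinearMap.add_apply, LinearMap.neg_apply, LinearMap.smul_apply,
      Module.End.mul_apply]
    rw [← hΦS f, ← hΦS (S f), hFΦ (S (S f)), hFΦ (S f), ← hΦS (S' (S f)), hFΦ f, ← hΦS (S' f),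
      ← hΦS (S (S' f)), ← map_smul Φ, ← map_smul Φ, ← map_sub Φ, ← map_add Φ, ← map_neg Φ]
    congr 1
    funext j
    simp only [Pi.sub_apply, Pi.add_apply, Pi.neg_apply, Pi.smul_apply]
    rcases Nat.eq_zero_or_pos (j : ℕ) with h | h
    · simp [hS0 _ j h, hS'S]
    · have hij : (j : ℕ) = ((⟨(j : ℕ) - 1, by omega⟩ : Fin a) : ℕ) + 1 := by simp only; omega
      set i : Fin a := ⟨(j : ℕ) - 1, by omega⟩
      rw [hS'S, hSS', hS1 _ j i hij, hS1 _ j i hij, hSS', smul_smul, ← sub_smul, ← add_smul, ← neg_smul]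
      congr 1
      simp only [c, e₁]
      rw [show ((j : ℕ) : K) = ((i : ℕ) : K) + 1 by rw [hij]; push_cast; rfl]
      ring
  · have hEF : E * F = Φe.conj (S ∘ₗ S') := by
      refine LinearMap.ext fun v => ?_
      obtain ⟨f, rfl⟩ := hΦbij.2 v
      show E (F (Φ f)) = Φ (S (S' (Φe.symm (Φe f))))
      rw [hFΦ, ← hΦS, Φe.symm_apply_apply]
    have hdiag : S ∘ₗ S' = ∑ j : Fin a, e₁ j •
        (LinearMap.single K (fun _ => L) j ∘ₗ LinearMap.proj j) := by
      refine LinearMap.ext fun f => funext fun i => ?_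
      rw [LinearMap.comp_apply, hSS']
      simp [Pi.single_apply]
    have htr : LinearMap.trace K V (E * F) = (∑ j : Fin a, e₁ j) * (Module.finrank K L : K) := by
      rw [hEF, LinearMap.trace_conj', hdiag, map_sum, sum_mul]
      refine sum_congr rfl fun j _ => ?_
      rw [map_smul, smul_eq_mul, LinearMap.trace_comp_comm', LinearMap.proj_comp_single_same,
        LinearMap.trace_id]
    rw [htr, mul_ne_zero_iff]
    have hr : Module.finrank K L ≤ Module.finrank K V := Submodule.finrank_le L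
    refine ⟨?_, ?_⟩
    · intro h0
      have h6 : ((6 * ∑ j ∈ range a, (j : ℤ) * ((a : ℤ) - j) : ℤ) : K) = 0 := by
        push_cast
        rw [← Fin.sum_univ_eq_sum_range (fun j => (j : K) * ((a : K) - j)) a]
        simp only [e₁] at h0
        rw [h0, mul_zero]
      rw [six_sum] at h6
      rw [CharP.intCast_eq_zero_iff K p] at h6
      rw [show (a : ℤ) * (a - 1) * (3 * a - 2 * a + 1) = ((a * (a - 1) * (a + 1) : ℕ) : ℤ) by
        push_cast [Nat.cast_sub (show 1 ≤ a by omega)]; ring, Int.natCast_dvd_natCast] at h6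
      rcases (hp.out.dvd_mul).1 h6 with h6 | h6
      · rcases (hp.out.dvd_mul).1 h6 with h6 | h6 <;>
          · have := Nat.le_of_dvd (by omega) h6; omega
      · have := Nat.le_of_dvd (by omega) h6; omega
    · rw [Ne, CharP.cast_eq_zero_iff K p]
      intro h0
      have hpos : 0 < Module.finrank K L := Nat.pos_of_ne_zero fun h =>
        hLne (Submodule.finrank_eq_zero.1 h)
      have := Nat.le_of_dvd hpos h0
      omega

/-- The nilpotency index of the unipotent element is at most the dimension. -/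
theorem pow_eq_zero_of_finrank (ρ : Representation K G V) {u : G} (hu : orderOf u = p)
    {d : ℕ} (hd : Module.finrank K V ≤ d) : (ρ u - 1) ^ d = 0 := by
  rcases subsingleton_or_nontrivial V with hV | hV
  · exact LinearMap.ext fun x => Subsingleton.elim _ _
  haveI : CharP (Module.End K V) p :=
    charP_of_injective_algebraMap (FaithfulSMul.algebraMap_injective K (Module.End K V)) p
  have h1 : (ρ u - 1) ^ p = 0 := by
    rw [sub_pow_char_of_commute _ (Commute.one_right (ρ u)), one_pow, ← map_pow, ← hu,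
      pow_orderOf_eq_one, map_one, sub_self]
  refine LinearMap.ker_eq_top.1 (top_le_iff.1 ?_)
  refine le_trans ?_ ((Module.End.ker_pow_le_ker_pow_finrank (ρ u - 1) p).trans
    (le_of_eq (Module.End.ker_pow_eq_ker_pow_finrank_of_le hd).symm))
  rw [h1, LinearMap.ker_zero]

theorem exists_trip (ρ : Representation K G V) {u : G} (hu : orderOf u = p)
    (hsyl : ¬ p ∣ (Subgroup.zpowers u).index)
    (hirr : ∀ S : Submodule K V, (∀ g, ∀ v ∈ S, ρ g v ∈ S) → S = ⊥ ∨ S = ⊤) (hne : ρ u ≠ 1)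
    {d : ℕ} (hd : Module.finrank K V ≤ d) (hdp : d + d + 1 ≤ p) (hp5 : 5 ≤ p) :
    ∃ (H : Subgroup G) (E F : Module.End K V), Trip (p := p) ρ u d H E F :=
  exists_trip_of_nilpotent ρ hu hsyl hirr hne (pow_eq_zero_of_finrank ρ hu hd) (by omega) (by omega) hp5

end Cfsg.Agent.Block.HalfDeg
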