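import Mathlib
import Cfsg.Agent.Lib.Block.HalfDeg.Triple

/-!
The endomorphism algebra of a small irreducible representation in characteristic `p` has a
three-dimensional non-degenerate submodule on which the element of order `p` is a regular unipotent.
-/

set_option autoImplicit false
set_option linter.unusedSectionVars false
set_option linter.style.haveILetI false
set_option maxHeartbeats 800000

namespace Cfsg.Agent.Block.HalfDeg

open Finset

variable {G : Type*} [Group G] {p : ℕ} [hp : Fact p.Prime]
variable {K : Type*} [Field K] [CharP K p] {V : Type*} [AddCommGroup V] [Module K V]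

/-- Conjugation on endomorphisms. -/
def conjRep (ρ : Representation K G V) : Representation K G (Module.End K V) where
  toFun g := LinearMap.mulLeft K (ρ g) ∘ₗ LinearMap.mulRight K (ρ g⁻¹)
  map_one' := LinearMap.ext fun X => by
    simp
  map_mul' g h := LinearMap.ext fun X => by
    simp [map_mul, mul_assoc]

theorem conjRep_apply (ρ : Representation K G V) (g : G) (X : Module.End K V) :
    conjRep ρ g X = ρ g * (X * ρ g⁻¹) := rfl

theorem ex_sub_one {A : Type*} [Ring A] [Algebra K A] {e : A} {n : ℕ} (he : e ^ n = 0) :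
    ∃ q : A, Commute q (ex p K e) ∧ IsUnit q ∧ ex p K e - 1 = e * q := by
  have h2 := hp.out.two_le
  set q := ∑ j ∈ range (p - 1), (((j + 1).factorial : K))⁻¹ • e ^ j with hq
  have hqe : Commute q e := Commute.sum_left _ _ _ fun j _ => ((Commute.refl e).pow_left j).smul_left _
  refine ⟨q, commute_ex hqe, ?_, ?_⟩
  · set r := ∑ j ∈ range (p - 2), (((j + 1 + 1).factorial : K))⁻¹ • e ^ j with hr
    have e1 : q = e * r + 1 := by
      rw [hq, show p - 1 = p - 2 + 1 by omega, sum_range_succ', hr, mul_sum]
      simp [pow_succ']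
    rw [e1]
    refine IsNilpotent.isUnit_add_one (Commute.isNilpotent_mul_right ?_ ⟨n, he⟩)
    exact Commute.sum_right _ _ _ fun j _ => ((Commute.refl e).pow_right j).smul_right _
  · rw [ex, show range p = range (p - 1 + 1) by congr 1; omega, sum_range_succ', hq, mul_sum]
    simp only [Nat.factorial_zero, Nat.cast_one, inv_one, pow_zero, one_smul, add_sub_cancel_right,
      mul_smul_comm, ← pow_succ']

variable [FiniteDimensional K V]

/-- The trace form. -/
noncomputable def trForm : LinearMap.BilinForm K (Module.End K V) :=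
  (LinearMap.mul K (Module.End K V)).compr₂ (LinearMap.trace K V)

theorem trForm_apply (X Y : Module.End K V) : trForm X Y = LinearMap.trace K V (X * Y) := rfl

theorem trForm_comm (X Y : Module.End K V) : trForm X Y = trForm Y X :=
  LinearMap.trace_mul_comm K X Y

theorem trForm_nondeg {X : Module.End K V} (h : ∀ Y, trForm X Y = 0) : X = 0 := by
  refine LinearMap.ext fun v => (Module.forall_dual_apply_eq_zero_iff K (X v)).1 fun φ => ?_
  have h1 := h (φ.smulRight v)
  rw [trForm_apply, show X * φ.smulRight v = φ.smulRight (X v) from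
    LinearMap.ext fun w => by simp, LinearMap.trace_smulRight] at h1
  exact h1

theorem trForm_conj (ρ : Representation K G V) (g : G) (X Y : Module.End K V) :
    trForm (conjRep ρ g X) (conjRep ρ g Y) = trForm X Y := by
  rw [trForm_apply, trForm_apply, conjRep_apply, conjRep_apply,
    show ρ g * (X * ρ g⁻¹) * (ρ g * (Y * ρ g⁻¹)) = ρ g * ((X * (ρ g⁻¹ * ρ g) * Y) * ρ g⁻¹) by
      simp only [mul_assoc],
    ← map_mul, inv_mul_cancel, map_one, mul_one, LinearMap.trace_mul_comm, mul_assoc (X * Y),
    ← map_mul, inv_mul_cancel, map_one, mul_one]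

theorem exists_three [Finite G] {ρ : Representation K G V} {u : G} (hu : orderOf u = p)
    (hsyl : ¬ p ∣ (Subgroup.zpowers u).index) {d : ℕ} {H : Subgroup G} {E F : Module.End K V}
    (T : Trip (p := p) ρ u d H E F) (hdd : d + d + 1 ≤ p) :
    ∃ (W : Submodule K (Module.End K V)) (r : Representation K G W),
      (∀ g (X : W), (r g X : Module.End K V) = conjRep ρ g X) ∧ Module.finrank K W = 3 ∧
      (∀ X : W, (∀ Y : W, trForm (X : Module.End K V) Y = 0) → X = 0) ∧
      (r u - 1) ^ 2 ≠ 0 := by
  classical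
  have hp2 := hp.out.two_le
  set σ := conjRep ρ with hσ
  have hEne : E ≠ 0 := fun h => T.trace_ne (by rw [h, zero_mul, map_zero])
  have hd1 : 1 ≤ d := by
    by_contra h
    have hd0 : d = 0 := by omega
    refine hEne ?_
    have h1 := T.nil
    rw [hd0, pow_zero] at h1
    rw [← one_mul E, h1, zero_mul]
  have hp3 : 3 ≤ p := by omega
  have h2 : (2 : K) ≠ 0 := by
    intro h
    have h' : ((2 : ℕ) : K) = 0 := by exact_mod_cast h
    rw [CharP.cast_eq_zero_iff K p] at h'
    have := Nat.le_of_dvd (by norm_num) h'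
    omega
  set L : Module.End K (Module.End K V) := LinearMap.mulLeft K E
  set R : Module.End K (Module.End K V) := LinearMap.mulRight K E
  set ad := L - R with had
  have had_apply : ∀ X, ad X = E * X - X * E := fun X => rfl
  have hLR : Commute L R := LinearMap.commute_mulLeft_right E E
  have hLd : L ^ d = 0 := by rw [LinearMap.pow_mulLeft, T.nil]; ext X; simp
  have hRd : R ^ d = 0 := by rw [LinearMap.pow_mulRight, T.nil]; ext X; simp
  have hadnil : ad ^ (p - 1) = 0 := by
    rw [had, sub_eq_add_neg, hLR.neg_right.add_pow]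
    refine sum_eq_zero fun i hi => ?_
    have hdeg := hdd
    rcases le_or_gt d i with h | h
    · rw [pow_eq_zero_of_le h hLd, zero_mul, zero_mul]
    · rw [neg_pow R, pow_eq_zero_of_le (show d ≤ p - 1 - i by omega) hRd, mul_zero, mul_zero,
        zero_mul]
  have hEneg : (-E) ^ d = 0 := by rw [neg_pow, T.nil, mul_zero]
  have hinv : ρ u⁻¹ = ex p K (-E) := by
    have h1 : ρ u * ex p K (-E) = 1 := by
      rw [← T.exp, ex_add ((Commute.refl E).neg_right) T.nil hEneg (by have := T.deg; omega),
        add_neg_cancel, ex_zero]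
    calc ρ u⁻¹ = ρ u⁻¹ * (ρ u * ex p K (-E)) := by rw [h1, mul_one]
      _ = _ := by rw [← mul_assoc, ← map_mul, inv_mul_cancel, map_one, one_mul]
  have hσu : σ u = ex p K ad := by
    have eL : ex p K L = LinearMap.mulLeft K (ρ u) := by
      refine LinearMap.ext fun X => ?_
      simp only [ex, L, LinearMap.sum_apply, LinearMap.smul_apply, LinearMap.pow_mulLeft,
        LinearMap.mulLeft_apply, ← T.exp, sum_mul, smul_mul_assoc]
    have eR : ex p K (-R) = LinearMap.mulRight K (ρ u⁻¹) := by
      rw [hinv]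
      refine LinearMap.ext fun X => ?_
      have hR : -R = LinearMap.mulRight K (-E) := by ext Y; simp [R]
      simp only [ex, hR, LinearMap.sum_apply, LinearMap.smul_apply, LinearMap.pow_mulRight,
        LinearMap.mulRight_apply, mul_sum, mul_smul_comm]
    rw [had, sub_eq_add_neg, ← ex_add hLR.neg_right hLd
      (show (-R) ^ d = 0 from (neg_pow R d).trans (by rw [hRd, mul_zero])) (by have := T.deg; omega), eL, eR]
    rfl
  obtain ⟨qa, hqa, hqau, hqad⟩ := ex_sub_one (p := p) (K := K) hadnil
  rw [← hσu] at hqad hqa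
  have hqae : Commute ad qa := by
    have h1 : Commute (ex p K ad) ad := (commute_ex (Commute.refl ad)).symm
    rw [← hσu] at h1
    have h2' : Commute (σ u - 1) ad := h1.sub_left (Commute.one_left _)
    rw [hqad] at h2'
    obtain ⟨w, hw⟩ := hqau
    show ad * qa = qa * ad
    have h3 : qa * (σ u - 1) = (σ u - 1) * qa := (hqa.sub_right (Commute.one_right _)).eq
    rw [hqad, ← mul_assoc, mul_assoc ad qa qa] at h3
    have h4 := congrArg (fun y => y * (↑w⁻¹ : Module.End K (Module.End K V))) h3
    simp only [mul_assoc, ← hw, Units.mul_inv, mul_one] at h4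
    rw [← hw]
    exact h4.symm
  have hDp : (σ u - 1) ^ (p - 1) = 0 := by rw [hqad, hqae.mul_pow, hadnil, zero_mul]
  -- the triple
  set c := LinearMap.trace K V (E * F) with hc
  have hc0 : c ≠ 0 := T.trace_ne
  set t := LinearMap.trace K V (F * F) / (2 * c) with ht
  set F' := F - t • E with hF'
  set M := E * F - F * E with hM
  have hadE : ad E = 0 := by rw [had_apply, sub_self]
  have hadM : ad M = -((2 : K) • E) := by
    rw [had_apply, hM, ← T.double, two_smul]
    noncomm_ring
  have hadF : ad F' = M := by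
    rw [had_apply, hF', hM, mul_sub, sub_mul, mul_smul_comm, smul_mul_assoc]
    abel
  have hEE : trForm E E = 0 :=
    (LinearMap.isNilpotent_trace_of_isNilpotent (f := E * E) ⟨d, by
      rw [(Commute.refl E).mul_pow, T.nil, zero_mul]⟩).eq_zero
  have hEM : trForm E M = 0 := by
    rw [trForm_apply, hM, mul_sub, map_sub, ← mul_assoc, ← mul_assoc, LinearMap.trace_mul_comm K (E * F) E,
      ← mul_assoc, sub_self]
  have hMM : trForm M M = 2 * c := by
    have h1 : M * E - E * M = (2 : K) • E := by
      rw [← neg_sub (E * M) (M * E), ← had_apply M, hadM, neg_neg]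
    rw [trForm_apply]
    nth_rewrite 2 [hM]
    rw [mul_sub, map_sub, ← mul_assoc, ← mul_assoc, LinearMap.trace_mul_comm K (M * F) E, ← mul_assoc,
      ← map_sub, ← sub_mul, h1, smul_mul_assoc, map_smul, smul_eq_mul, hc]
  have hMF : trForm M F' = 0 := by
    rw [hF', map_sub, map_smul, trForm_comm M E, hEM, smul_zero, sub_zero, trForm_apply, hM, sub_mul,
      map_sub, LinearMap.trace_mul_comm K (E * F) F, ← mul_assoc, sub_self]
  have hEF' : trForm E F' = c := by
    rw [hF', map_sub, map_smul, hEE, smul_zero, sub_zero, trForm_apply]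
  have hFF : trForm F' F' = 0 := by
    rw [hF']
    simp only [map_sub, map_smul, LinearMap.sub_apply, LinearMap.smul_apply, smul_eq_mul]
    rw [hEE, trForm_comm F E, trForm_apply F F, trForm_apply E F, ← hc, ht]
    field_simp
    ring
  set W₀ : Submodule K (Module.End K V) := Submodule.span K {E, M, F'} with hW₀
  have hEW : E ∈ W₀ := Submodule.subset_span (by simp)
  have hMW : M ∈ W₀ := Submodule.subset_span (by simp)
  have hFW : F' ∈ W₀ := Submodule.subset_span (by simp)
  have hspan : ∀ f : Module.End K (Module.End K V), f E ∈ W₀ → f M ∈ W₀ → f F' ∈ W₀ →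
      ∀ X ∈ W₀, f X ∈ W₀ := by
    intro f h1 h2' h3 X hX
    refine (Submodule.span_le (p := W₀.comap f)).2 ?_ hX
    rintro Y (rfl | rfl | rfl)
    · exact h1
    · exact h2'
    · exact h3
  obtain ⟨π, hπ_apply⟩ : ∃ π : Module.End K (Module.End K V), ∀ X, π X =
      (c⁻¹ * trForm F' X) • E + (c⁻¹ * trForm E X) • F' + ((2 * c)⁻¹ * trForm M X) • M :=
    ⟨c⁻¹ • ((trForm F').smulRight E) + c⁻¹ • ((trForm E).smulRight F') +
      (2 * c)⁻¹ • ((trForm M).smulRight M), fun X => by simp [smul_smul]⟩
  have hπW : ∀ X, π X ∈ W₀ := fun X => by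
    rw [hπ_apply]
    exact add_mem (add_mem (W₀.smul_mem _ hEW) (W₀.smul_mem _ hFW)) (W₀.smul_mem _ hMW)
  have hπE : π E = E := by
    rw [hπ_apply, trForm_comm F' E, hEF', trForm_comm M E, hEM, hEE]
    simp [hc0]
  have hπF : π F' = F' := by
    rw [hπ_apply, hFF, hEF', hMF]
    simp [hc0]
  have hπM : π M = M := by
    rw [hπ_apply, trForm_comm F' M, hMF, hEM, hMM, inv_mul_cancel₀ (mul_ne_zero h2 hc0)]
    simp
  have hπid : ∀ X ∈ W₀, π X = X := by
    intro X hX
    have : W₀ ≤ LinearMap.eqLocus π LinearMap.id := by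
      rw [hW₀, Submodule.span_le]
      rintro Y (rfl | rfl | rfl)
      · exact hπE
      · exact hπM
      · exact hπF
    exact this hX
  have hππ : π * π = π := LinearMap.ext fun X => hπid _ (hπW X)
  have hπB : ∀ X Y, trForm (π X) Y = trForm X (π Y) := by
    intro X Y
    simp only [hπ_apply, map_add, map_smul, LinearMap.add_apply, LinearMap.smul_apply, smul_eq_mul]
    rw [trForm_comm X E, trForm_comm X F', trForm_comm X M]
    ring
  have hker : ∀ X ∈ W₀, (∀ Y ∈ W₀, trForm X Y = 0) → X = 0 := by
    intro X hX h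
    rw [← hπid X hX, hπ_apply, trForm_comm F' X, trForm_comm E X, trForm_comm M X, h _ hFW, h _ hEW,
      h _ hMW]
    simp
  have hcommW : ∀ g : G, (∀ X ∈ W₀, σ g X ∈ W₀) → (∀ X ∈ W₀, σ g⁻¹ X ∈ W₀) → Commute π (σ g) := by
    intro g hg hg'
    refine LinearMap.ext fun X => ?_
    rw [Module.End.mul_apply, Module.End.mul_apply, ← sub_eq_zero]
    refine hker _ (sub_mem (hπW _) (hg _ (hπW _))) fun Y hY => ?_
    rw [map_sub, LinearMap.sub_apply, sub_eq_zero, hπB, hπid Y hY]
    conv_rhs => rw [← Representation.self_inv_apply σ g Y, hσ, trForm_conj, hπB,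
      hπid _ (hg' Y hY)]
    conv_lhs => rw [← Representation.self_inv_apply σ g Y, hσ, trForm_conj]
  have hadW : ∀ X ∈ W₀, ad X ∈ W₀ := hspan ad (by rw [hadE]; exact W₀.zero_mem)
    (by rw [hadM]; exact neg_mem (W₀.smul_mem _ hEW)) (by rw [hadF]; exact hMW)
  have huW : ∀ X ∈ W₀, σ u X ∈ W₀ := by
    intro X hX
    have hpow : ∀ j : ℕ, (ad ^ j) X ∈ W₀ := by
      intro j
      induction j with
      | zero => simpa using hX
      | succ j ih => rw [pow_succ', Module.End.mul_apply]; exact hadW _ ih
    simp only [hσu, ex, LinearMap.sum_apply, LinearMap.smul_apply]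
    exact W₀.sum_mem fun j _ => W₀.smul_mem _ (hpow j)
  have hupow : ∀ i : ℕ, ∀ X ∈ W₀, σ (u ^ i) X ∈ W₀ := by
    intro i
    induction i with
    | zero => intro X hX; simpa using hX
    | succ i ih => intro X hX; rw [pow_succ, map_mul]; exact ih _ (huW X hX)
  have hHW : ∀ h ∈ H, ∀ X ∈ W₀, σ h X ∈ W₀ := by
    intro h hh
    obtain ⟨k, hk0, hkE, hkF⟩ := T.weight h hh
    have h1 : ρ h * ρ h⁻¹ = 1 := by rw [← map_mul, mul_inv_cancel, map_one]
    have h3 : ρ h⁻¹ * ρ h = 1 := by rw [← map_mul, inv_mul_cancel, map_one]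
    have eE : σ h E = k • E := by
      rw [hσ, conjRep_apply, ← mul_assoc, hkE, smul_mul_assoc, mul_assoc, h1, mul_one]
    have eF : σ h F = k⁻¹ • F := by
      have e : ρ h * F = k⁻¹ • (F * ρ h) := by rw [← hkF, smul_smul, inv_mul_cancel₀ hk0, one_smul]
      rw [hσ, conjRep_apply, ← mul_assoc, e, smul_mul_assoc, mul_assoc, h1, mul_one]
    have hmul : ∀ X Y, σ h (X * Y) = σ h X * σ h Y := fun X Y => by
      rw [hσ, conjRep_apply, conjRep_apply, conjRep_apply]
      simp only [mul_assoc]
      rw [← mul_assoc (ρ h⁻¹) (ρ h), h3, one_mul]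
    refine hspan _ (by rw [eE]; exact W₀.smul_mem _ hEW) ?_ ?_
    · rw [hM, map_sub, hmul, hmul, eE, eF, smul_mul_smul_comm, smul_mul_smul_comm, mul_inv_cancel₀ hk0,
        inv_mul_cancel₀ hk0, one_smul, one_smul, ← hM]
      exact hMW
    · rw [hF', map_sub, map_smul, eE, eF, show F = F' + t • E by rw [hF', sub_add_cancel], smul_add]
      refine sub_mem (add_mem (W₀.smul_mem _ hFW) (W₀.smul_mem _ (W₀.smul_mem _ hEW))) ?_
      exact W₀.smul_mem _ (W₀.smul_mem _ hEW)
  have hπu : Commute π (σ u) := by
    refine hcommW u huW fun X hX => ?_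
    obtain ⟨i, hi⟩ : ∃ i : ℕ, u⁻¹ = u ^ i := ⟨p - 1, by
      rw [inv_eq_iff_mul_eq_one, ← pow_succ', Nat.sub_add_cancel hp.out.one_le, ← hu, pow_orderOf_eq_one]⟩
    rw [hi]
    exact hupow i X hX
  have hπN : ∀ n ∈ Subgroup.normalizer (Subgroup.zpowers u : Set G), Commute π (σ n) := by
    intro n hn
    obtain ⟨i, h, hh, rfl⟩ := T.split n hn
    rw [map_mul, map_pow]
    exact (hπu.pow_right i).mul_right (hcommW h (hHW h hh) (hHW _ (inv_mem hh)))
  obtain ⟨e, hee, heg, hlow, heB⟩ := lift_idem hu hsyl hDp π hππ hπN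
  have heB' := heB trForm (trForm_conj ρ) hπB
  -- the comparison map
  set v := e * π + (1 - e) * (1 - π) with hv
  have hπu' : Commute π (σ u) := hπu
  have hv1 : v = 1 + (e - π) * (π + π - 1) := by
    rw [hv]
    simp only [sub_mul, mul_sub, mul_add, one_mul, mul_one, hππ]
    abel
  have hvu : IsUnit v := by
    rw [hv1]
    refine IsNilpotent.isUnit_one_add ((hlow.mul_right ?_).isNilpotent hDp)
    exact (hπu'.add_left hπu').sub_left (Commute.one_left _)
  have hvπ : v * π = e * v := by
    rw [hv, add_mul, mul_add, mul_assoc, hππ, ← mul_assoc e e, hee, mul_assoc (1 - e), sub_mul 1 π,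
      hππ, one_mul, sub_self, mul_zero, add_zero, ← mul_assoc e (1 - e), mul_sub e, mul_one, hee,
      sub_self, zero_mul, add_zero]
  have hvinj : Function.Injective v := ((Module.End.isUnit_iff v).1 hvu).1
  have hvsur : Function.Surjective v := ((Module.End.isUnit_iff v).1 hvu).2
  set W := LinearMap.range e with hW
  have hWmap : W = W₀.map v := by
    refine le_antisymm ?_ ?_
    · rintro _ ⟨X, rfl⟩
      obtain ⟨Y, rfl⟩ := hvsur X
      exact ⟨π Y, hπW Y, LinearMap.congr_fun hvπ Y⟩
    · rintro _ ⟨X, hX, rfl⟩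
      refine ⟨v X, ?_⟩
      rw [← Module.End.mul_apply, ← hvπ, Module.End.mul_apply, hπid X hX]
  have hinvW : ∀ g, ∀ X ∈ W, σ g X ∈ W := by
    rintro g _ ⟨X, rfl⟩
    exact ⟨σ g X, LinearMap.congr_fun (heg g).eq X⟩
  let r : Representation K G W :=
    { toFun := fun g => (σ g).restrict (hinvW g)
      map_one' := LinearMap.ext fun X => Subtype.ext (by simp)
      map_mul' := fun g h => LinearMap.ext fun X => Subtype.ext (by simp) }
  have hr : ∀ g (X : W), (r g X : Module.End K V) = σ g X := fun g X => rfl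
  refine ⟨W, r, hr, ?_, ?_, ?_⟩
  · rw [hWmap, ← LinearEquiv.finrank_eq (Submodule.equivMapOfInjective v hvinj W₀)]
    have hli : LinearIndependent K ![E, M, F'] := by
      rw [Fintype.linearIndependent_iff]
      intro g hg
      simp only [Fin.sum_univ_three, Matrix.cons_val_zero, Matrix.cons_val_one, Matrix.cons_val] at hg
      have hE' := congrArg (fun X => trForm X F') hg
      have hM' := congrArg (fun X => trForm X M) hg
      have hF'' := congrArg (fun X => trForm X E) hg
      simp only [map_add, map_smul, LinearMap.add_apply, LinearMap.smul_apply, map_zero,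
        LinearMap.zero_apply, smul_eq_mul, hEF', hMF, hFF, hMM, hEM, hEE, trForm_comm F' E,
        trForm_comm F' M, trForm_comm M E, mul_zero, add_zero, zero_add] at hE' hM' hF''
      intro i
      fin_cases i
      · exact (mul_eq_zero.1 hE').resolve_right hc0
      · exact (mul_eq_zero.1 hM').resolve_right (mul_ne_zero h2 hc0)
      · exact (mul_eq_zero.1 hF'').resolve_right hc0
    have hrange : Set.range ![E, M, F'] = {E, M, F'} := by
      rw [Matrix.range_cons, Matrix.range_cons, Matrix.range_cons, Matrix.range_empty]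
      ext X
      simp only [Set.union_empty, Set.mem_union, Set.mem_singleton_iff, Set.mem_insert_iff]
    rw [hW₀, ← hrange, finrank_span_eq_card hli, Fintype.card_fin]
  · rintro ⟨X, hX⟩ h
    apply Subtype.ext
    refine trForm_nondeg fun Z => ?_
    obtain ⟨Y, hY⟩ := id hX
    have hX' : e X = X := by rw [← hY, ← Module.End.mul_apply, hee]
    show trForm X Z = 0
    conv_lhs => rw [← hX']
    rw [heB']
    exact h ⟨e Z, ⟨Z, rfl⟩⟩
  · intro h
    have hmem : v F' ∈ W := hWmap ▸ ⟨F', hFW, rfl⟩
    have hsq := congrArg Subtype.val (LinearMap.congr_fun h ⟨v F', hmem⟩)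
    simp only [LinearMap.zero_apply, Submodule.coe_zero] at hsq
    have e2 : ((((r u - 1) ^ 2 : Module.End K W)) ⟨v F', hmem⟩ : Module.End K V) =
        ((σ u - 1) ^ 2 : Module.End K (Module.End K V)) (v F') := by
      simp only [pow_two, Module.End.mul_apply, LinearMap.sub_apply, Module.End.one_apply,
        Submodule.coe_sub, hr, map_sub]
    have hvc : Commute ((σ u - 1) ^ 2) v := by
      refine ((Commute.sub_left ?_ (Commute.one_left _))).pow_left 2
      rw [hv]
      exact ((heg u).symm.mul_right hπu'.symm).add_right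
        (((Commute.one_right _).sub_right (heg u).symm).mul_right
          ((Commute.one_right _).sub_right hπu'.symm))
    rw [e2, ← Module.End.mul_apply, hvc.eq, Module.End.mul_apply, ← map_zero v] at hsq
    have h4 := hvinj hsq
    rw [hqad, hqae.mul_pow, (hqae.pow_pow 2 2).eq, Module.End.mul_apply, pow_two ad,
      Module.End.mul_apply, hadF, hadM] at h4
    have hqinj : Function.Injective ⇑(qa ^ 2) := ((Module.End.isUnit_iff _).1 (hqau.pow 2)).1
    have h5 := hqinj (h4.trans (map_zero _).symm)
    rw [neg_eq_zero, smul_eq_zero] at h5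
    exact hEne (h5.resolve_left h2)

end Cfsg.Agent.Block.HalfDeg
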