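import Mathlib
import Cfsg.Agent.Lib.Classical.DicksonGeneration
import Cfsg.Agent.Lib.Classical.DicksonSmallQ
import Cfsg.Agent.Lib.Fus.SLTwoAdjoinBasic

/-!
The three-dimensional representation of `SL(2)` on symmetric matrices, the isometries of its form
fixing an isotropic vector, and the parameters of finite subgroups with Sylow subgroups of order `p`.
-/

set_option autoImplicit false
set_option linter.unusedSectionVars false
set_option linter.style.haveILetI false
set_option linter.unusedSimpArgs false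
set_option linter.unreachableTactic false
set_option linter.unusedTactic false

namespace Cfsg.Agent.Block.HalfDeg

open Matrix Cfsg.Agent.Grp.SL2

variable {L : Type*} [Field L]

local notation "SL₂" => Matrix.SpecialLinearGroup (Fin 2) L
local notation "M₃" => Matrix (Fin 3) (Fin 3) L

/-- The action on symmetric matrices. -/
def symMat (g : Matrix (Fin 2) (Fin 2) L) : M₃ :=
  !![g 0 0 * g 0 0, 2 * (g 0 0 * g 0 1), g 0 1 * g 0 1;
    g 0 0 * g 1 0, g 0 0 * g 1 1 + g 0 1 * g 1 0, g 0 1 * g 1 1;
    g 1 0 * g 1 0, 2 * (g 1 0 * g 1 1), g 1 1 * g 1 1]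

theorem symMat_one : symMat (1 : Matrix (Fin 2) (Fin 2) L) = 1 := by
  ext i j
  fin_cases i <;> fin_cases j <;> simp [symMat]

theorem symMat_mul (g h : Matrix (Fin 2) (Fin 2) L) : symMat (g * h) = symMat g * symMat h := by
  ext i j
  fin_cases i <;> fin_cases j <;>
    simp [symMat, Matrix.mul_apply, Fin.sum_univ_two, Fin.sum_univ_three] <;> ring

/-- The representation on symmetric matrices. -/
def symHom : SL₂ →* M₃ where
  toFun g := symMat (g : Matrix (Fin 2) (Fin 2) L)
  map_one' := symMat_one
  map_mul' g h := by rw [Matrix.SpecialLinearGroup.coe_mul, symMat_mul]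

theorem symHom_apply (g : SL₂) : symHom g = symMat (g : Matrix (Fin 2) (Fin 2) L) := rfl

/-- The form, doubled. -/
def symForm : M₃ := !![0, 0, -1; 0, 2, 0; -1, 0, 0]

/-- The isometries of the form. -/
def IsIso (M : M₃) : Prop := Mᵀ * symForm * M = symForm

theorem IsIso.mul {M N : M₃} (hM : IsIso M) (hN : IsIso N) : IsIso (M * N) := by
  show (M * N)ᵀ * symForm * (M * N) = symForm
  rw [Matrix.transpose_mul, show Nᵀ * Mᵀ * symForm * (M * N) = Nᵀ * (Mᵀ * symForm * M) * N by
    simp only [Matrix.mul_assoc], hM, hN]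

theorem isIso_sym (g : SL₂) : IsIso (symHom g) := by
  have hd := det_eq g
  show (symHom g)ᵀ * symForm * symHom g = symForm
  ext i j
  fin_cases i <;> fin_cases j <;>
    simp [symHom_apply, symMat, symForm, Matrix.mul_apply, Fin.sum_univ_three] <;>
    (try ring1) <;>
    first
      | linear_combination (g.1 0 0 * g.1 1 1 - g.1 0 1 * g.1 1 0 + 1) * hd
      | linear_combination -(g.1 0 0 * g.1 1 1 - g.1 0 1 * g.1 1 0 + 1) * hd
      | linear_combination 2 * (g.1 0 0 * g.1 1 1 - g.1 0 1 * g.1 1 0 + 1) * hd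

theorem coe_up (t : L) : ((up t : SL₂) : Matrix (Fin 2) (Fin 2) L) = !![1, t; 0, 1] := rfl

theorem coe_low (t : L) : ((low t : SL₂) : Matrix (Fin 2) (Fin 2) L) = !![1, 0; t, 1] := rfl

theorem symHom_up (t : L) : symHom (up t) = !![1, 2 * t, t * t; 0, 1, t; 0, 0, 1] := by
  ext i j
  fin_cases i <;> fin_cases j <;> simp [symHom_apply, symMat, coe_up]

theorem symHom_low (t : L) : symHom (low t) = !![1, 0, 0; t, 1, 0; t * t, 2 * t, 1] := by
  ext i j
  fin_cases i <;> fin_cases j <;> simp [symHom_apply, symMat, coe_low]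

theorem det_sym_up (t : L) : (symHom (up t)).det = 1 := by
  rw [symHom_up, Matrix.det_fin_three]
  simp

/-- The element swapping the two isotropic lines. -/
def swap : SL₂ := ⟨!![0, 1; -1, 0], by simp [Matrix.det_fin_two]⟩

theorem coe_swap : ((swap : SL₂) : Matrix (Fin 2) (Fin 2) L) = !![0, 1; -1, 0] := rfl

theorem swap_up (t : L) : swap * up t * swap⁻¹ = low (-t) := by
  rw [mul_inv_eq_iff_eq_mul]
  refine Subtype.ext ?_
  ext i j
  fin_cases i <;> fin_cases j <;> simp [coe_swap, coe_up, coe_low, Matrix.mul_apply, Fin.sum_univ_two]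

theorem swap_low (t : L) : swap * low t * swap⁻¹ = up (-t) := by
  rw [mul_inv_eq_iff_eq_mul]
  refine Subtype.ext ?_
  ext i j
  fin_cases i <;> fin_cases j <;> simp [coe_swap, coe_up, coe_low, Matrix.mul_apply, Fin.sum_univ_two]

theorem IsIso.fix_up (h2 : (2 : L) ≠ 0) {M : M₃} (hM : IsIso M)
    (h0 : M *ᵥ ![1, 0, 0] = ![1, 0, 0]) (hu : (M - 1) ^ 3 = 0) : ∃ t, M = symHom (up t) := by
  have a0 : M 0 0 = 1 := by simpa [Matrix.mulVec, dotProduct, Fin.sum_univ_three] using congrFun h0 0
  have a1 : M 1 0 = 0 := by simpa [Matrix.mulVec, dotProduct, Fin.sum_univ_three] using congrFun h0 1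
  have a2 : M 2 0 = 0 := by simpa [Matrix.mulVec, dotProduct, Fin.sum_univ_three] using congrFun h0 2
  have hM' : Mᵀ * symForm * M = symForm := hM
  have e01 := congrFun (congrFun hM' 0) 1
  have e11 := congrFun (congrFun hM' 1) 1
  have e02 := congrFun (congrFun hM' 0) 2
  have e12 := congrFun (congrFun hM' 1) 2
  have e22 := congrFun (congrFun hM' 2) 2
  simp [symForm, Matrix.mul_apply, Fin.sum_univ_three, a0, a1, a2] at e01 e11 e02 e12 e22
  have h11 := congrFun (congrFun hu 1) 1
  have b21 : M 2 1 = 0 := by linear_combination e01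
  rw [b21] at e11 e12
  simp [pow_succ, Matrix.mul_apply, Fin.sum_univ_three, a1, a2, b21] at h11
  have b11 : M 1 1 = 1 := sub_eq_zero.1 h11
  have b22 : M 2 2 = 1 := by linear_combination e02
  rw [b11, b22] at e12
  rw [b22] at e22
  refine ⟨M 1 2, ?_⟩
  rw [symHom_up]
  ext i j
  fin_cases i <;> fin_cases j <;> simp [a0, a1, a2, b21, b11, b22]
  · linear_combination -e12
  · refine mul_left_cancel₀ h2 ?_
    linear_combination -e22

theorem IsIso.fix_low (h2 : (2 : L) ≠ 0) {M : M₃} (hM : IsIso M)
    (h0 : M *ᵥ ![0, 0, 1] = ![0, 0, 1]) (hu : (M - 1) ^ 3 = 0) : ∃ t, M = symHom (low t) := by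
  set W : M₃ := symHom (swap : SL₂)
  set W' : M₃ := symHom (swap : SL₂)⁻¹
  have hWW : W * W' = 1 := by simp only [W, W', ← map_mul, mul_inv_cancel, map_one]
  have hW'W : W' * W = 1 := by simp only [W, W', ← map_mul, inv_mul_cancel, map_one]
  have hW : W *ᵥ ![0, 0, 1] = ![1, 0, 0] := by
    funext i
    fin_cases i <;>
      simp [W, symHom_apply, symMat, coe_swap, Matrix.mulVec, dotProduct, Fin.sum_univ_three]
  obtain ⟨t, ht⟩ := IsIso.fix_up h2 (M := W * M * W') (((isIso_sym _).mul hM).mul (isIso_sym _))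
    (by rw [← hW, Matrix.mulVec_mulVec, Matrix.mul_assoc (W * M), hW'W, Matrix.mul_one,
      ← Matrix.mulVec_mulVec, h0]) (by
      have e : W * M * W' - 1 = W * (M - 1) * W' := by
        rw [Matrix.mul_sub, Matrix.mul_one, Matrix.sub_mul, hWW]
      have key : ∀ n : ℕ, (W * (M - 1) * W') ^ (n + 1) = W * (M - 1) ^ (n + 1) * W' := by
        intro n
        induction n with
        | zero => simp
        | succ n ih =>
          rw [pow_succ, ih, pow_succ (M - 1) (n + 1)]
          simp only [Matrix.mul_assoc]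
          rw [← Matrix.mul_assoc W' W, hW'W, Matrix.one_mul]
      rw [e, key 2, hu, Matrix.mul_zero, Matrix.zero_mul])
  refine ⟨-t, ?_⟩
  have e2 : M = W' * symHom (up t) * W := by
    rw [← ht]
    simp only [← Matrix.mul_assoc]
    rw [hW'W, Matrix.one_mul, Matrix.mul_assoc, hW'W, Matrix.mul_one]
  rw [e2]
  simp only [W, W', ← map_mul]
  congr 1
  have h3 := swap_low (L := L) (-t)
  rw [neg_neg] at h3
  rw [← h3]
  group

theorem IsIso.commute_up (h2 : (2 : L) ≠ 0) {M : M₃} (hM : IsIso M) (hdet : M.det = 1)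
    (hc : Commute M (symHom (up 1))) : ∃ t, M = symHom (up t) := by
  have hc' := hc.eq
  rw [symHom_up] at hc'
  have c00 := congrFun (congrFun hc' 0) 0
  have c01 := congrFun (congrFun hc' 0) 1
  have c10 := congrFun (congrFun hc' 1) 0
  have c11 := congrFun (congrFun hc' 1) 1
  have c21 := congrFun (congrFun hc' 2) 1
  have c22 := congrFun (congrFun hc' 2) 2
  have c12 := congrFun (congrFun hc' 1) 2
  simp [Matrix.mul_apply, Fin.sum_univ_three] at c00 c01 c10 c11 c21 c22 c12
  have m20 : M 2 0 = 0 := c10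
  have m10 : M 1 0 = 0 := by
    refine mul_left_cancel₀ h2 ?_
    linear_combination -c00 - m20
  have m21 : M 2 1 = 0 := by linear_combination 2 * m10 - c11
  have m11 : M 1 1 = M 0 0 := by
    refine mul_left_cancel₀ h2 ?_
    linear_combination -c01 - m21
  have m22 : M 2 2 = M 1 1 := by linear_combination m10 - c12
  rw [Matrix.det_fin_three] at hdet
  have hM' : Mᵀ * symForm * M = symForm := hM
  have e11 := congrFun (congrFun hM' 1) 1
  simp [symForm, Matrix.mul_apply, Fin.sum_univ_three, m21] at e11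
  rw [m20, m10, m21, m22, m11] at hdet
  rw [m11] at e11
  have hsq : M 0 0 * M 0 0 = 1 := by
    refine mul_left_cancel₀ h2 ?_
    linear_combination e11
  have m00 : M 0 0 = 1 := by linear_combination hdet - M 0 0 * hsq
  refine IsIso.fix_up h2 hM ?_ ?_
  · funext i
    fin_cases i <;> simp [Matrix.mulVec, dotProduct, Fin.sum_univ_three, m00, m10, m20]
  · ext i j
    fin_cases i <;> fin_cases j <;>
      simp [pow_succ, Matrix.mul_apply, Fin.sum_univ_three, m00, m10, m20, m21, m11, m22]

theorem up_injective {s t : L} (h : symHom (up s) = symHom (up t)) : s = t := by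
  have := congrFun (congrFun h 1) 2
  simpa [symHom_up] using this

theorem low_injective {s t : L} (h : symHom (low s) = symHom (low t)) : s = t := by
  have := congrFun (congrFun h 1) 0
  simpa [symHom_low] using this

theorem sym_eq_one {g : SL₂} (h : symHom g = 1) :
    g.1 0 1 = 0 ∧ g.1 1 0 = 0 ∧ g.1 1 1 = g.1 0 0 ∧ g.1 0 0 * g.1 0 0 = 1 := by
  have h00 := congrFun (congrFun h 0) 0
  have h02 := congrFun (congrFun h 0) 2
  have h20 := congrFun (congrFun h 2) 0
  have hd := det_eq g
  simp [symHom_apply, symMat] at h00 h02 h20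
  refine ⟨h02, h20, ?_, h00⟩
  rw [h02, zero_mul, sub_zero] at hd
  linear_combination g.1 0 0 * hd - g.1 1 1 * h00

section Prime

variable {p : ℕ} [hp : Fact p.Prime] [CharP L p]

/-- The word `up 1 * low k` has finite order only for algebraic `k`. -/
theorem isAlgebraic_of_pow {k : L} {n : ℕ} (hn : n ≠ 0) (h : (up (1 : L) * low k) ^ n = 1) :
    letI := ZMod.algebra L p
    IsAlgebraic (ZMod p) k := by
  letI := ZMod.algebra L p
  let A : Matrix (Fin 2) (Fin 2) (Polynomial (ZMod p)) := !![1 + Polynomial.X, 1; Polynomial.X, 1]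
  have key : ∀ m : ℕ, ((A ^ (m + 1)) 0 0).natDegree = m + 1 ∧ ((A ^ (m + 1)) 0 1).natDegree ≤ m ∧
      (A ^ (m + 1)) 0 0 ≠ 0 := by
    intro m
    induction m with
    | zero =>
      have e : ((1 : Polynomial (ZMod p)) + Polynomial.X).natDegree = 1 := by
        rw [add_comm, ← map_one Polynomial.C, Polynomial.natDegree_X_add_C]
      refine ⟨by simpa [A] using e, by simp [A], fun h0 => ?_⟩
      simp [A] at h0
      rw [h0] at e
      simp at e
    | succ m ih =>
      obtain ⟨h0, h1, hne⟩ := ih
      have e00 : (A ^ (m + 1 + 1)) 0 0 =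
          (A ^ (m + 1)) 0 0 * (1 + Polynomial.X) + (A ^ (m + 1)) 0 1 * Polynomial.X := by
        rw [pow_succ A (m + 1), Matrix.mul_apply, Fin.sum_univ_two]; simp [A]
      have e01 : (A ^ (m + 1 + 1)) 0 1 = (A ^ (m + 1)) 0 0 + (A ^ (m + 1)) 0 1 := by
        rw [pow_succ A (m + 1), Matrix.mul_apply, Fin.sum_univ_two]; simp [A]
      have hX : ((1 : Polynomial (ZMod p)) + Polynomial.X).natDegree = 1 := by
        rw [add_comm, ← map_one Polynomial.C, Polynomial.natDegree_X_add_C]
      have hX0 : (1 : Polynomial (ZMod p)) + Polynomial.X ≠ 0 := fun h0 => by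
        rw [h0] at hX; simp at hX
      have hmain : ((A ^ (m + 1)) 0 0 * (1 + Polynomial.X)).natDegree = m + 2 := by
        rw [Polynomial.natDegree_mul hne hX0, h0, hX]
      have hsmall : ((A ^ (m + 1)) 0 1 * Polynomial.X).natDegree <
          ((A ^ (m + 1)) 0 0 * (1 + Polynomial.X)).natDegree := by
        rw [hmain]
        refine lt_of_le_of_lt Polynomial.natDegree_mul_le ?_
        rw [Polynomial.natDegree_X]
        omega
      refine ⟨?_, ?_, ?_⟩
      · rw [e00, Polynomial.natDegree_add_eq_left_of_natDegree_lt hsmall, hmain]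
      · rw [e01]
        exact le_trans (Polynomial.natDegree_add_le _ _) (max_le h0.le (by omega))
      · intro h00
        have := congrArg Polynomial.natDegree h00
        rw [e00, Polynomial.natDegree_add_eq_left_of_natDegree_lt hsmall, hmain,
          Polynomial.natDegree_zero] at this
        omega
  obtain ⟨m, rfl⟩ : ∃ m, n = m + 1 := ⟨n - 1, by omega⟩
  refine ⟨(A ^ (m + 1)) 0 0 - 1, fun h0 => ?_, ?_⟩
  · have := congrArg Polynomial.natDegree (sub_eq_zero.1 h0)
    rw [(key m).1, Polynomial.natDegree_one] at this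
    omega
  · let φ : Polynomial (ZMod p) →+* L := (Polynomial.aeval k).toRingHom
    have hmap : φ.mapMatrix (A ^ (m + 1)) = 1 := by
      rw [map_pow]
      have e : φ.mapMatrix A = ((up (1 : L) * low k : SL₂) : Matrix (Fin 2) (Fin 2) L) := by
        ext i j
        fin_cases i <;> fin_cases j <;> simp [A, φ, coe_up, coe_low, Matrix.mul_apply, Fin.sum_univ_two]
      rw [e, ← Matrix.SpecialLinearGroup.coe_pow, h, Matrix.SpecialLinearGroup.coe_one]
    have h00 := congrFun (congrFun hmap 0) 0
    simp [φ] at h00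
    rw [map_sub, h00, map_one, sub_self]

/-- The parameter of a finite group containing two opposite transvections lies in the prime field
when the Sylow subgroups have order at most `p`. -/
theorem mem_prime (hp5 : 5 ≤ p) (Γ : Subgroup SL₂) [Finite Γ] (hΓ : ¬ p ^ 2 ∣ Nat.card Γ) {k : L}
    (hk : k ≠ 0) (hu : up (1 : L) ∈ Γ) (hl : low k ∈ Γ) :
    ∃ m : ZMod p, ZMod.castHom (dvd_refl p) L m = k := by
  classical
  letI := ZMod.algebra L p
  obtain ⟨n, hn0, hn⟩ : ∃ n, n ≠ 0 ∧ (up (1 : L) * low k) ^ n = 1 := by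
    set x : Γ := ⟨up (1 : L) * low k, mul_mem hu hl⟩
    exact ⟨orderOf x, (orderOf_pos x).ne', congrArg Subtype.val (pow_orderOf_eq_one x)⟩
  have halg := isAlgebraic_of_pow (p := p) hn0 hn
  set L' := Subfield.closure ({k} : Set L) with hL'
  haveI : FiniteDimensional (ZMod p) (IntermediateField.adjoin (ZMod p) ({k} : Set L)) :=
    IntermediateField.adjoin.finiteDimensional halg.isIntegral
  haveI : Finite (IntermediateField.adjoin (ZMod p) ({k} : Set L)) := Module.finite_of_finite (ZMod p)
  haveI : Finite L' := Finite.of_injective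
    (fun x : L' => (⟨(x : L), (Subfield.closure_le.2 (fun y hy =>
      IntermediateField.subset_adjoin (ZMod p) _ hy) :
        L' ≤ (IntermediateField.adjoin (ZMod p) ({k} : Set L)).toSubfield) x.2⟩ :
      IntermediateField.adjoin (ZMod p) ({k} : Set L)))
    fun a b h => Subtype.ext (congrArg Subtype.val h :)
  letI : Fintype L' := Fintype.ofFinite L'
  haveI : CharP L' p := charP_of_injective_ringHom (f := RingHom.id L') Function.injective_id p
  have hkL : k ∈ L' := Subfield.subset_closure rfl
  set lam : L' := ⟨k, hkL⟩ with hlam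
  have hgen : Subfield.closure ({lam} : Set L') = ⊤ := by
    refine eq_top_iff.2 fun x _ => ?_
    have hx : (x : L) ∈ (Subfield.closure ({lam} : Set L')).map L'.subtype := by
      rw [RingHom.map_field_closure]
      simpa [hlam] using x.2
    obtain ⟨y, hy, hyx⟩ := hx
    exact (Subtype.ext hyx : y = x) ▸ hy
  have h2 : (2 : L') ≠ 0 := two_ne_zero' p (by omega)
  have hlam0 : lam ≠ 0 := fun h => hk (congrArg Subtype.val h)
  set S' := Matrix.SpecialLinearGroup (Fin 2) L'
  let f : S' →* SL₂ := (MulAut.conj (swap : SL₂)).toMonoidHom.comp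
    (Matrix.SpecialLinearGroup.map L'.subtype)
  have hf : Function.Injective f := by
    refine (MulAut.conj (swap : SL₂)).injective.comp ?_
    intro x y h
    refine Subtype.ext (Matrix.ext fun i j => ?_)
    exact L'.subtype.injective (congrFun (congrFun (congrArg Subtype.val h) i) j)
  have hfup : f (up lam) = (low k)⁻¹ := by
    have e : Matrix.SpecialLinearGroup.map L'.subtype (up lam) = up k := by
      refine Subtype.ext ?_
      ext i j
      rw [Matrix.SpecialLinearGroup.map_apply_coe]
      fin_cases i <;> fin_cases j <;> simp [coe_up, hlam]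
    show swap * Matrix.SpecialLinearGroup.map L'.subtype (up lam) * swap⁻¹ = _
    rw [e, swap_up]
    exact (inv_eq_of_mul_eq_one_left (by rw [low_mul, neg_add_cancel, low_zero])).symm
  have hflow : f (low (1 : L')) = (up (1 : L))⁻¹ := by
    have e : Matrix.SpecialLinearGroup.map L'.subtype (low (1 : L')) = low (1 : L) := by
      refine Subtype.ext ?_
      ext i j
      rw [Matrix.SpecialLinearGroup.map_apply_coe]
      fin_cases i <;> fin_cases j <;> simp [coe_low]
    show swap * Matrix.SpecialLinearGroup.map L'.subtype (low (1 : L')) * swap⁻¹ = _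
    rw [e, swap_low]
    exact (inv_eq_of_mul_eq_one_left (by rw [up_mul, neg_add_cancel, up_zero])).symm
  set C := Subgroup.closure ({low 1, up lam} : Set S') with hC
  have hCΓ : C.map f ≤ Γ := by
    rw [hC, MonoidHom.map_closure, Subgroup.closure_le]
    rintro _ ⟨y, (rfl | rfl), rfl⟩
    · rw [hflow]; exact inv_mem hu
    · rw [hfup]; exact inv_mem hl
  rcases Dickson.Gen.classify (F := L') (p := p) h2 hlam0 hgen with htop | ⟨h3, -, -⟩
  · have hd1 : Nat.card (Matrix.ProjectiveSpecialLinearGroup (Fin 2) L') ∣ Nat.card C := by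
      have h := Subgroup.card_map_dvd C (PSL2Spec.proj (F := L'))
      rw [htop, Subgroup.card_top] at h
      exact h
    have hd2 : Nat.card C ∣ Nat.card Γ := by
      rw [← Subgroup.card_map_of_injective hf]
      exact Subgroup.card_dvd_of_le hCΓ
    obtain ⟨e, hep, he⟩ := FiniteField.card L' p
    have he1 : (e : ℕ) = 1 := by
      by_contra hne
      refine hΓ ?_
      have hcp := Dickson.card_psl_odd (F := L') (by
        rw [he]; exact (hep.odd_of_ne_two (by omega)).pow)
      have hdiv : p ^ 2 ∣ Nat.card (Matrix.ProjectiveSpecialLinearGroup (Fin 2) L') * 2 := by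
        rw [hcp, he]
        exact Dvd.dvd.mul_right (pow_dvd_pow p (by have := e.pos; omega)) _
      exact ((Nat.Coprime.pow_left 2 (hep.coprime_iff_not_dvd.2 fun h => by
        have := Nat.le_of_dvd two_pos h; omega)).dvd_of_dvd_mul_right hdiv).trans (hd1.trans hd2)
    rw [he1, pow_one] at he
    have hsur : Function.Surjective (ZMod.castHom (dvd_refl p) L') :=
      ((Fintype.bijective_iff_injective_and_card _).2 ⟨ZMod.castHom_injective L', by
        rw [ZMod.card, he]⟩).2
    obtain ⟨m, hm⟩ := hsur lam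
    refine ⟨m, ?_⟩
    have h1 := congrArg Subtype.val hm
    rw [← show (L'.subtype.comp (ZMod.castHom (dvd_refl p) L')) = ZMod.castHom (dvd_refl p) L from
      Subsingleton.elim _ _]
    exact h1
  · omega

end Prime

end Cfsg.Agent.Block.HalfDeg
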