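import Mathlib
import Cfsg.Agent.Lib.Block.HalfDeg.Sym

/-!
Groups of isometries of determinant one of a three-dimensional form in which a Sylow subgroup of
order `p` is a regular unipotent group and not normal: the group is `PSL(2, p)`.
-/

set_option autoImplicit false
set_option linter.unusedSectionVars false
set_option linter.style.haveILetI false
set_option linter.unusedSimpArgs false
set_option maxHeartbeats 800000

namespace Cfsg.Agent.Block.HalfDeg

open Matrix Cfsg.Agent.Grp.SL2

variable {G : Type*} [Group G] [Finite G] {p : ℕ} [hp : Fact p.Prime]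
variable {L : Type*} [Field L] [CharP L p]

local notation "SL₂" => Matrix.SpecialLinearGroup (Fin 2) L
local notation "SLp" => Matrix.SpecialLinearGroup (Fin 2) (ZMod p)
local notation "M₃" => Matrix (Fin 3) (Fin 3) L
local notation "Fp" => RingHom.fieldRange (ZMod.castHom (dvd_refl p) L)

/-- The data of a representation. -/
structure Three (p : ℕ) (R : G →* M₃) (u : G) : Prop where
  five : 5 ≤ p
  ord : orderOf u = p
  syl : ¬ p ∣ (Subgroup.zpowers u).index
  iso : ∀ g, IsIso (R g)
  det : ∀ g, (R g).det = 1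
  std : R u = symHom (up 1)

/-- The elements of `SL(2)` acting as elements of the group. -/
def pre (R : G →* M₃) : Subgroup SL₂ := R.toHomUnits.range.comap (symHom (L := L)).toHomUnits

theorem mem_pre {R : G →* M₃} {g : SL₂} : g ∈ pre R ↔ ∃ x, R x = symHom g := by
  constructor
  · rintro ⟨x, hx⟩
    exact ⟨x, congrArg Units.val hx⟩
  · rintro ⟨x, hx⟩
    exact ⟨x, Units.ext hx⟩

namespace Three

variable {R : G →* Matrix (Fin 3) (Fin 3) L} {u : G}

theorem two_ne (T : Three p R u) : (2 : L) ≠ 0 :=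
  two_ne_zero' p (by have := T.five; omega)

theorem sq_ndvd (T : Three p R u) : ¬ p ^ 2 ∣ Nat.card G := by
  rw [← Subgroup.card_mul_index (Subgroup.zpowers u), Nat.card_zpowers, T.ord, pow_two,
    Nat.mul_dvd_mul_iff_left hp.out.pos]
  exact T.syl

/-- The part of `pre R` acting trivially. -/
theorem kernel_small (R : G →* M₃) :
    ∃ f : pre R →* R.toHomUnits.range, Finite f.ker ∧ Nat.card f.ker ≤ 2 := by
  classical
  refine ⟨((symHom (L := L)).toHomUnits.comp (pre R).subtype).codRestrict R.toHomUnits.range fun g => g.2, ?_⟩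
  set f := ((symHom (L := L)).toHomUnits.comp (pre R).subtype).codRestrict R.toHomUnits.range fun g => g.2
  let ι : f.ker → ({1, -1} : Set L) := fun x => ⟨((x : pre R) : SL₂).1 0 0, by
    have h1 : symHom ((x : pre R) : SL₂) = 1 := congrArg (fun y => (y : R.toHomUnits.range).1.val) x.2
    have h2 := (sym_eq_one h1).2.2.2
    rcases mul_self_eq_one_iff.1 h2 with h | h <;> simp [h]⟩
  have hι : Function.Injective ι := by
    intro x y h
    have hx : symHom ((x : pre R) : SL₂) = 1 := congrArg (fun y => (y : R.toHomUnits.range).1.val) x.2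
    have hy : symHom ((y : pre R) : SL₂) = 1 := congrArg (fun y => (y : R.toHomUnits.range).1.val) y.2
    obtain ⟨a1, a2, a3, -⟩ := sym_eq_one hx
    obtain ⟨b1, b2, b3, -⟩ := sym_eq_one hy
    have h00 : ((x : pre R) : SL₂).1 0 0 = ((y : pre R) : SL₂).1 0 0 := congrArg Subtype.val h
    refine Subtype.ext (Subtype.ext (Subtype.ext ?_))
    ext i j
    fin_cases i <;> fin_cases j
    · exact h00
    · exact a1.trans b1.symm
    · exact a2.trans b2.symm
    · exact a3.trans (h00.trans b3.symm)
  haveI : Finite f.ker := Finite.of_injective ι hι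
  refine ⟨inferInstance, (Nat.card_le_card_of_injective ι hι).trans ?_⟩
  rw [Nat.card_coe_set_eq]
  exact (Set.ncard_insert_le _ _).trans (by simp)

theorem finite_pre (R : G →* M₃) : Finite (pre R) := by
  obtain ⟨f, hf, -⟩ := kernel_small R
  haveI := hf
  haveI : Finite R.toHomUnits.range := Finite.of_surjective _ R.toHomUnits.rangeRestrict_surjective
  haveI : Finite (pre R ⧸ f.ker) := Finite.of_equiv _ (QuotientGroup.quotientKerEquivRange f).symm.toEquiv
  exact Finite.of_subgroup_quotient f.ker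

theorem pre_ndvd (T : Three p R u) : ¬ p ^ 2 ∣ Nat.card (pre R) := by
  classical
  haveI := finite_pre R
  obtain ⟨f, hf, hker⟩ := kernel_small R
  haveI := hf
  intro h
  refine T.sq_ndvd ?_
  rw [← f.ker.card_mul_index] at h
  have hcop : Nat.Coprime (p ^ 2) (Nat.card f.ker) := by
    refine Nat.Coprime.pow_left 2 (hp.out.coprime_iff_not_dvd.2 fun hd => ?_)
    have := Nat.le_of_dvd Nat.card_pos hd
    have := T.five
    omega
  have h2 := hcop.dvd_of_dvd_mul_left h
  rw [Subgroup.index_ker] at h2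
  exact (h2.trans (Subgroup.card_subgroup_dvd_card f.range)).trans (Subgroup.card_range_dvd _)

theorem up_one_mem (T : Three p R u) : up (1 : L) ∈ pre R := mem_pre.2 ⟨u, T.std⟩

theorem prime_of_low (T : Three p R u) (Γ : Subgroup SL₂) (c : SL₂)
    (hΓ : Γ = (pre R).map (MulAut.conj c).toMonoidHom) {k : L} (hk : k ≠ 0)
    (h1 : up (1 : L) ∈ Γ) (h2 : low k ∈ Γ) : k ∈ Fp := by
  haveI := finite_pre R
  subst hΓ
  haveI : Finite ((pre R).map (MulAut.conj c).toMonoidHom) :=
    Finite.of_equiv _ ((pre R).equivMapOfInjective (MulAut.conj c).toMonoidHom (MulAut.conj c).injective).toEquiv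
  obtain ⟨m, hm⟩ := mem_prime T.five _ (by
    rw [Subgroup.card_map_of_injective (MulEquiv.injective _)]; exact T.pre_ndvd) hk h1 h2
  exact ⟨m, hm⟩

theorem prime_of_up (T : Three p R u) {t : L} (ht : up t ∈ pre R) : t ∈ Fp := by
  classical
  haveI := finite_pre R
  by_contra hnot
  refine T.pre_ndvd ?_
  let φ : Multiplicative (ZMod p × ZMod p) →* pre R :=
    MonoidHom.mk' (fun x => ⟨up ((ZMod.castHom (dvd_refl p) L) x.toAdd.1 +
        (ZMod.castHom (dvd_refl p) L) x.toAdd.2 * t), by
      have e1 : ∀ a : ZMod p, up ((ZMod.castHom (dvd_refl p) L) a) ∈ pre R := fun a => by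
        rw [← ZMod.natCast_zmod_val a, map_natCast]
        have := pow_mem T.up_one_mem a.val
        rwa [up_pow, mul_one] at this
      have e2 : ∀ a : ZMod p, up ((ZMod.castHom (dvd_refl p) L) a * t) ∈ pre R := fun a => by
        rw [← ZMod.natCast_zmod_val a, map_natCast]
        have := pow_mem ht a.val
        rwa [up_pow] at this
      rw [← up_mul]
      exact mul_mem (e1 _) (e2 _)⟩)
      (fun x y => Subtype.ext (by
        show up _ = up _ * up _
        rw [up_mul, toAdd_mul, Prod.fst_add, Prod.snd_add, map_add, map_add]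
        congr 1
        ring))
  have hφ : Function.Injective φ := by
    rw [injective_iff_map_eq_one]
    intro x hx
    have h0 : (ZMod.castHom (dvd_refl p) L) x.toAdd.1 + (ZMod.castHom (dvd_refl p) L) x.toAdd.2 * t = 0 := by
      have := congrArg (fun z : SL₂ => (z : Matrix (Fin 2) (Fin 2) L) 0 1) (congrArg Subtype.val hx)
      simpa [φ, coe_up] using this
    by_cases h2 : x.toAdd.2 = 0
    · rw [h2, map_zero, zero_mul, add_zero] at h0
      exact Multiplicative.toAdd.injective (Prod.ext (ZMod.castHom_injective L (h0.trans (map_zero _).symm)) h2)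
    · exfalso
      refine hnot ⟨-x.toAdd.1 / x.toAdd.2, ?_⟩
      have hne : (ZMod.castHom (dvd_refl p) L) x.toAdd.2 ≠ 0 := by
        rwa [Ne, map_eq_zero_iff _ (ZMod.castHom_injective L)]
      rw [map_div₀, map_neg, div_eq_iff hne]
      linear_combination -h0
  have h := Subgroup.card_subgroup_dvd_card φ.range
  rw [← Nat.card_congr (MonoidHom.ofInjective hφ).toEquiv, Nat.card_congr Multiplicative.toAdd,
    Nat.card_prod, Nat.card_zmod, ← pow_two] at h
  exact h

theorem unipotent (T : Three p R u) (g : G) : (R (g * u * g⁻¹) - 1) ^ 3 = 0 := by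
  have h1 : R g * R g⁻¹ = 1 := by rw [← map_mul, mul_inv_cancel, map_one]
  have h2 : R g⁻¹ * R g = 1 := by rw [← map_mul, inv_mul_cancel, map_one]
  have hu3 : (R u - 1) ^ 3 = 0 := by
    rw [T.std, symHom_up]
    ext i j
    fin_cases i <;> fin_cases j <;> simp [pow_succ, Matrix.mul_apply, Fin.sum_univ_three]
  have e : R (g * u * g⁻¹) - 1 = R g * (R u - 1) * R g⁻¹ := by
    rw [map_mul, map_mul, Matrix.mul_sub, Matrix.mul_one, Matrix.sub_mul, h1]
  have key : ∀ n : ℕ, (R g * (R u - 1) * R g⁻¹) ^ (n + 1) = R g * (R u - 1) ^ (n + 1) * R g⁻¹ := by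
    intro n
    induction n with
    | zero => simp
    | succ n ih =>
      rw [pow_succ, ih, pow_succ (R u - 1) (n + 1)]
      simp only [Matrix.mul_assoc]
      rw [← Matrix.mul_assoc (R g⁻¹) (R g), h2, Matrix.one_mul]
  rw [e, key 2, hu3, Matrix.mul_zero, Matrix.zero_mul]

/-- The conjugates of `u`. -/
theorem conj_cases (T : Three p R u) (g : G) :
    (∃ t : L, R (g * u * g⁻¹) = symHom (up t)) ∨
      ∃ c r : L, R (g * u * g⁻¹) = symHom (up c * low r * up (-c)) ∧ r ≠ 0 := by
  classical
  set v := R (g * u * g⁻¹) with hv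
  set q := R g *ᵥ ![(1 : L), 0, 0] with hq
  have h1 : R g⁻¹ * R g = 1 := by rw [← map_mul, inv_mul_cancel, map_one]
  have hue : R u *ᵥ ![(1 : L), 0, 0] = ![1, 0, 0] := by
    rw [T.std, symHom_up]
    funext i
    fin_cases i <;> simp [Matrix.mulVec, dotProduct, Fin.sum_univ_three]
  have hvq : v *ᵥ q = q := by
    rw [hv, hq, map_mul, map_mul, Matrix.mulVec_mulVec, Matrix.mul_assoc _ (R g⁻¹), h1, Matrix.mul_one,
      ← Matrix.mulVec_mulVec, hue]
  have hqi : ∀ i, q i = R g i 0 := fun i => by
    simp [hq, Matrix.mulVec, dotProduct, Fin.sum_univ_three]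
  have hiso := T.iso g
  have e00 := congrFun (congrFun (show (R g)ᵀ * symForm * R g = symForm from hiso) 0) 0
  simp [symForm, Matrix.mul_apply, Fin.sum_univ_three] at e00
  rw [← hqi, ← hqi, ← hqi] at e00
  have hq0 : q ≠ 0 := fun h => by
    have h2 := congrArg (R g⁻¹ *ᵥ ·) h
    simp only [hq, Matrix.mulVec_mulVec, h1, Matrix.one_mulVec, Matrix.mulVec_zero] at h2
    simpa using congrFun h2 0
  by_cases hz : q 2 = 0
  · left
    have hy : q 1 = 0 := by
      rw [hz] at e00
      have : (2 : L) * (q 1 * q 1) = 0 := by linear_combination e00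
      exact mul_self_eq_zero.1 ((mul_eq_zero.1 this).resolve_left T.two_ne)
    have hx : q 0 ≠ 0 := fun h => hq0 (funext fun i => by fin_cases i <;> assumption)
    have hqe : q = q 0 • ![(1 : L), 0, 0] := by
      funext i; fin_cases i <;> simp [hy, hz]
    rw [hqe, Matrix.mulVec_smul] at hvq
    exact (T.iso _).fix_up T.two_ne (smul_right_injective _ hx hvq) (T.unipotent g)
  · right
    set c := q 1 / q 2 with hc
    have hqe : q = q 2 • (symHom (up c) *ᵥ ![(0 : L), 0, 1]) := by
      funext i
      fin_cases i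
      · simp [symHom_up, Matrix.mulVec, dotProduct, Fin.sum_univ_three, hc]
        refine mul_left_cancel₀ T.two_ne ?_
        field_simp
        linear_combination -e00
      · simp [symHom_up, Matrix.mulVec, dotProduct, Fin.sum_univ_three, hc]
        field_simp
      · simp [symHom_up, Matrix.mulVec, dotProduct, Fin.sum_univ_three]
    have hUU : symHom (up c : SL₂) * symHom (up (-c)) = 1 := by
      rw [← map_mul, up_mul, add_neg_cancel, up_zero, map_one]
    have hUU' : symHom (up (-c) : SL₂) * symHom (up c) = 1 := by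
      rw [← map_mul, up_mul, neg_add_cancel, up_zero, map_one]
    set v' := symHom (up (-c) : SL₂) * v * symHom (up c) with hv'
    have hve : v' *ᵥ ![(0 : L), 0, 1] = ![0, 0, 1] := by
      rw [hqe, Matrix.mulVec_smul] at hvq
      have h3 := congrArg (symHom (up (-c) : SL₂) *ᵥ ·) (smul_right_injective _ hz hvq)
      simpa only [Matrix.mulVec_mulVec, ← Matrix.mul_assoc, hUU', Matrix.one_mulVec, hv'] using h3
    have hvu : (v' - 1) ^ 3 = 0 := by
      have e : v' - 1 = symHom (up (-c) : SL₂) * (v - 1) * symHom (up c) := by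
        rw [hv', Matrix.mul_sub, Matrix.mul_one, Matrix.sub_mul, hUU']
      have key : ∀ n : ℕ, (symHom (up (-c) : SL₂) * (v - 1) * symHom (up c)) ^ (n + 1) =
          symHom (up (-c) : SL₂) * (v - 1) ^ (n + 1) * symHom (up c) := by
        intro n
        induction n with
        | zero => simp
        | succ n ih =>
          rw [pow_succ, ih, pow_succ (v - 1) (n + 1)]
          simp only [Matrix.mul_assoc]
          rw [← Matrix.mul_assoc (symHom (up c : SL₂)) (symHom (up (-c))), hUU, Matrix.one_mul]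
      rw [e, key 2, T.unipotent g, Matrix.mul_zero, Matrix.zero_mul]
    obtain ⟨r, hr⟩ := (((isIso_sym _).mul (T.iso _)).mul (isIso_sym _)).fix_low T.two_ne hve hvu
    have hvr : v = symHom (up c * low r * up (-c)) := by
      rw [map_mul, map_mul, ← hr, ← hv]
      simp only [← Matrix.mul_assoc]
      rw [hUU, Matrix.one_mul, Matrix.mul_assoc, hUU, Matrix.mul_one]
    refine ⟨c, r, hvr, fun h0 => ?_⟩
    have hv1 : v = 1 := by rw [hvr, h0, low_zero, mul_one, up_mul, add_neg_cancel, up_zero, map_one]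
    have h4 : R u = 1 := by
      have e : u = g⁻¹ * (g * u * g⁻¹) * g := by group
      rw [e, map_mul, map_mul, ← hv, hv1, Matrix.mul_one, h1]
    rw [T.std, ← map_one (symHom (L := L)), ← up_zero] at h4
    exact one_ne_zero (up_injective h4)

/-- In a frame in which another conjugate is lower unitriangular, the image is the prime group. -/
theorem frame_main (T : Three p R u) {g₀ : G} {k : L} (hk : k ≠ 0)
    (hlow : R (g₀ * u * g₀⁻¹) = symHom (low k))
    (hexp : ¬ ∀ j : ℕ, ¬ p ∣ j → ∃ g, R (g * u * g⁻¹) = R (u ^ j)) :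
    Nonempty (G ⧸ R.ker ≃* Matrix.ProjectiveSpecialLinearGroup (Fin 2) (ZMod p)) := by
  classical
  set Γ := pre R
  have hup : up (1 : L) ∈ Γ := T.up_one_mem
  have hlk : low k ∈ Γ := mem_pre.2 ⟨_, hlow⟩
  have hΓid : Γ = (pre R).map (MulAut.conj (1 : SL₂)).toMonoidHom := by
    ext x; simp [Γ]
  have hkF : k ∈ Fp := T.prime_of_low Γ 1 hΓid hk hup hlk
  set ψ : SLp →* SL₂ := primeHom L p
  have hψup : ∀ m : ZMod p, ψ (up m) = up ((ZMod.castHom (dvd_refl p) L) m) := fun m => by
    refine Subtype.ext ?_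
    ext i j
    show ((ZMod.castHom (dvd_refl p) L).mapMatrix (up m : SLp).1) i j = _
    fin_cases i <;> fin_cases j <;> simp [coe_up, up]
  have hψlow : ∀ m : ZMod p, ψ (low m) = low ((ZMod.castHom (dvd_refl p) L) m) := fun m => by
    refine Subtype.ext ?_
    ext i j
    show ((ZMod.castHom (dvd_refl p) L).mapMatrix (low m : SLp).1) i j = _
    fin_cases i <;> fin_cases j <;> simp [coe_low, low]
  obtain ⟨k', hk'⟩ := hkF
  have hk'0 : k' ≠ 0 := fun h => hk (by rw [← hk', h, map_zero])
  have hψΓ : ψ.range ≤ Γ := by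
    rw [MonoidHom.range_eq_map, Subgroup.map_le_iff_le_comap,
      ← Fus.AdjoinSL.eq_top_of_up_low (H := Γ.comap ψ) (fun m => ?_) (fun m => ?_)]
    · rw [Subgroup.mem_comap, hψup, ← ZMod.natCast_zmod_val m, map_natCast]
      simpa [up_pow] using pow_mem hup m.val
    · rw [Subgroup.mem_comap, hψlow]
      have e : m = ((m / k').val : ZMod p) * k' := by
        rw [ZMod.natCast_zmod_val, div_mul_cancel₀ _ hk'0]
      rw [e, map_mul, map_natCast, hk', ← low_pow]
      exact pow_mem hlk _
  have hΨ : ∀ g : G, ∃ x : SLp, R (g * u * g⁻¹) = symHom (ψ x) := by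
    intro g
    rcases T.conj_cases g with ⟨t, ht⟩ | ⟨c, r, hcr, hr⟩
    · obtain ⟨m, hm⟩ := T.prime_of_up (mem_pre.2 ⟨_, ht⟩)
      exact ⟨up m, by rw [hψup, hm, ht]⟩
    · have hz : up c * low r * up (-c) ∈ Γ := mem_pre.2 ⟨_, hcr⟩
      have key : ∀ c' r' : L, r' ≠ 0 → up c' * low r' * up (-c') ∈ Γ → r' ∈ Fp := by
        intro c' r' hr' hmem
        refine T.prime_of_low (Γ.map (MulAut.conj (up (-c') : SL₂)).toMonoidHom) (up (-c')) rfl hr'
          ⟨up 1, hup, ?_⟩ ⟨_, hmem, ?_⟩
        · show up (-c') * up 1 * (up (-c'))⁻¹ = up (1 : L)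
          rw [mul_inv_eq_iff_eq_mul, up_mul, up_mul, add_comm]
        · show up (-c') * (up c' * low r' * up (-c')) * (up (-c'))⁻¹ = low r'
          rw [← mul_assoc, ← mul_assoc, up_mul, neg_add_cancel, up_zero, one_mul, mul_inv_cancel_right]
      have hrF := key c r hr hz
      have hswap : (swap : SL₂) ∈ Γ := hψΓ ⟨swap, by
        refine Subtype.ext ?_
        ext i j
        show ((ZMod.castHom (dvd_refl p) L).mapMatrix (swap : SLp).1) i j = _
        fin_cases i <;> fin_cases j <;> simp [coe_swap, swap]⟩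
      have hsq : ∀ c' : L, up c' * low r * up (-c') ∈ Γ → r * (c' * c') ∈ Fp := by
        intro c' hmem
        rcases eq_or_ne c' 0 with rfl | hc'
        · simp
        refine key (-c'⁻¹) (r * (c' * c')) (mul_ne_zero hr (mul_ne_zero hc' hc')) ?_
        have e : up (-c'⁻¹) * low (r * (c' * c')) * up (-(-c'⁻¹)) =
            swap * (up c' * low r * up (-c')) * swap⁻¹ := by
          rw [eq_mul_inv_iff_mul_eq]
          refine Subtype.ext ?_
          ext i j
          fin_cases i <;> fin_cases j <;>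
            simp [coe_swap, coe_up, coe_low, Matrix.mul_apply, Fin.sum_univ_two] <;> field_simp <;> ring
        rw [e]
        exact mul_mem (mul_mem hswap hmem) (inv_mem hswap)
      have h1 := hsq c hz
      have h2 := hsq (1 + c) (by
        have hmem := mul_mem (mul_mem hup hz) (inv_mem hup)
        have e : up (1 : L) * (up c * low r * up (-c)) * (up 1)⁻¹ =
            up (1 + c) * low r * up (-(1 + c)) := by
          rw [mul_inv_eq_iff_eq_mul, ← mul_assoc, ← mul_assoc, up_mul, mul_assoc (up (1 + c) * low r),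
            up_mul]
          congr 2
          ring
        rwa [e] at hmem)
      have hcF : c ∈ Fp := by
        have h3 : ((r * ((1 + c) * (1 + c)) - r * (c * c)) / r - 1) / 2 ∈ Fp :=
          div_mem (sub_mem (div_mem (sub_mem h2 h1) hrF) (one_mem _)) (by
            rw [← one_add_one_eq_two]; exact add_mem (one_mem _) (one_mem _))
        convert h3 using 1
        have := T.two_ne
        field_simp
        ring
      obtain ⟨c', hc'⟩ := hcF
      obtain ⟨r', hr'⟩ := hrF
      exact ⟨up c' * low r' * up (-c'), by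
        rw [hcr, map_mul ψ, map_mul ψ, hψup, hψlow, hψup, map_neg, hc', hr']⟩
  set Ψ := (symHom (L := L)).toHomUnits.comp ψ with hΨdef
  set G₁ := Ψ.range.comap R.toHomUnits with hG₁
  have hconj : ∀ g, g * u * g⁻¹ ∈ G₁ := fun g => by
    obtain ⟨x, hx⟩ := hΨ g
    exact ⟨x, Units.ext hx.symm⟩
  have hlift : ∀ x : SLp, ∃ h ∈ G₁, R h = symHom (ψ x) := fun x => by
    obtain ⟨h, hh⟩ := mem_pre.1 (hψΓ ⟨x, rfl⟩)
    exact ⟨h, ⟨x, Units.ext hh.symm⟩, hh⟩
  have hpow : ∀ j : ℕ, R (u ^ j) = symHom (up (j : L)) := fun j => by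
    rw [map_pow, T.std, ← map_pow, up_pow, mul_one]
  have hsq : ∀ s : ZMod p, s ≠ 0 → ∃ h ∈ G₁, ∀ t : L,
      R h * symHom (up t) * R h⁻¹ = symHom (up ((ZMod.castHom (dvd_refl p) L) (s * s) * t)) := by
    intro s hs
    let D : SLp := ⟨!![s, 0; 0, s⁻¹], by simp [Matrix.det_fin_two, hs]⟩
    obtain ⟨h, hh, hRh⟩ := hlift D
    refine ⟨h, hh, fun t => ?_⟩
    have hRi : R h⁻¹ = symHom (ψ D)⁻¹ := by
      calc R h⁻¹ = R h⁻¹ * (symHom (ψ D) * symHom (ψ D)⁻¹) := by
            rw [← map_mul, mul_inv_cancel, map_one, Matrix.mul_one]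
        _ = _ := by rw [← Matrix.mul_assoc, ← hRh, ← map_mul, inv_mul_cancel, map_one, Matrix.one_mul]
    rw [hRh, hRi, ← map_mul, ← map_mul]
    congr 1
    rw [mul_inv_eq_iff_eq_mul]
    have hD : ((ψ D : SL₂) : Matrix (Fin 2) (Fin 2) L) =
        !![(ZMod.castHom (dvd_refl p) L) s, 0; 0, ((ZMod.castHom (dvd_refl p) L) s)⁻¹] := by
      ext i j
      show ((ZMod.castHom (dvd_refl p) L).mapMatrix D.1) i j = _
      fin_cases i <;> fin_cases j <;> simp [D, -ZMod.castHom_apply, map_inv₀]
    have hs' : (ZMod.castHom (dvd_refl p) L) s ≠ 0 := by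
      rwa [Ne, map_eq_zero_iff _ (ZMod.castHom_injective L)]
    refine Subtype.ext ?_
    rw [Matrix.SpecialLinearGroup.coe_mul, Matrix.SpecialLinearGroup.coe_mul, hD, map_mul]
    generalize (ZMod.castHom (dvd_refl p) L) s = s' at hs' ⊢
    ext i j
    fin_cases i <;> fin_cases j <;> simp [coe_up, Matrix.mul_apply, Fin.sum_univ_two] <;> field_simp
  have hnorm : ∀ n : G, n ∈ Subgroup.normalizer (Subgroup.zpowers u : Set G) → n ∈ G₁ := by
    intro n hn
    have hmem : n * u * n⁻¹ ∈ Subgroup.zpowers u :=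
      (Subgroup.mem_normalizer_iff.1 hn u).1 (Subgroup.mem_zpowers u)
    obtain ⟨j, hj⟩ := (mem_powers_iff_mem_zpowers.2 hmem : n * u * n⁻¹ ∈ Submonoid.powers u)
    have hj' : n * u * n⁻¹ = u ^ j := hj.symm
    have hj0 : (j : ZMod p) ≠ 0 := fun h => by
      obtain ⟨m, rfl⟩ := (ZMod.natCast_eq_zero_iff j p).1 h
      rw [pow_mul, ← T.ord, pow_orderOf_eq_one, one_pow] at hj'
      have : u = 1 := by simpa using hj'
      have h5 := T.ord
      rw [this, orderOf_one] at h5
      exact hp.out.one_lt.ne h5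
    by_cases hsqr : IsSquare (j : ZMod p)
    · obtain ⟨s, hs⟩ := hsqr
      obtain ⟨h, hh, hact⟩ := hsq s (fun h => hj0 (by rw [hs, h, zero_mul]))
      have hu_eq : R (h * u * h⁻¹) = R (n * u * n⁻¹) := by
        rw [hj', hpow, map_mul, map_mul, T.std, hact, mul_one, ← hs, map_natCast]
      have hcomm : Commute (R (h⁻¹ * n)) (symHom (up 1)) := by
        rw [← T.std]
        show R (h⁻¹ * n) * R u = R u * R (h⁻¹ * n)
        rw [← map_mul, ← map_mul]
        have e1 : h⁻¹ * n * u = h⁻¹ * (n * u * n⁻¹) * n := by group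
        have e2 : u * (h⁻¹ * n) = h⁻¹ * (h * u * h⁻¹) * n := by group
        rw [e1, e2]
        simp only [map_mul R h⁻¹, map_mul R (h⁻¹ * _), map_mul R _ n]
        rw [hu_eq]
      obtain ⟨t, ht⟩ := (T.iso _).commute_up T.two_ne (T.det _) hcomm
      obtain ⟨m, hm⟩ := T.prime_of_up (mem_pre.2 ⟨_, ht⟩)
      have h1 : h⁻¹ * n ∈ G₁ := ⟨up m, Units.ext (by
        show symHom (ψ (up m)) = R (h⁻¹ * n)
        rw [hψup, hm, ht])⟩
      have := mul_mem hh h1
      rwa [mul_inv_cancel_left] at this
    · exfalso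
      refine hexp fun i hi => ?_
      have hi0 : (i : ZMod p) ≠ 0 := fun h => hi ((ZMod.natCast_eq_zero_iff i p).1 h)
      by_cases hisq : IsSquare (i : ZMod p)
      · obtain ⟨s, hs⟩ := hisq
        obtain ⟨h, -, hact⟩ := hsq s (fun h => hi0 (by rw [hs, h, zero_mul]))
        exact ⟨h, by rw [hpow, map_mul, map_mul, T.std, hact, mul_one, ← hs, map_natCast]⟩
      · have hq : IsSquare ((i : ZMod p) / (j : ZMod p)) := by
          have hcp : ringChar (ZMod p) ≠ 2 := by
            rw [ZMod.ringChar_zmod_n]; have := T.five; omega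
          have h1 : quadraticChar (ZMod p) ((i : ZMod p) / (j : ZMod p)) *
              quadraticChar (ZMod p) (j : ZMod p) = quadraticChar (ZMod p) (i : ZMod p) := by
            rw [← map_mul, div_mul_cancel₀ _ hj0]
          rw [quadraticChar_neg_one_iff_not_isSquare.2 hsqr,
            quadraticChar_neg_one_iff_not_isSquare.2 hisq] at h1
          refine (quadraticChar_one_iff_isSquare (div_ne_zero hi0 hj0)).1 ?_
          omega
        obtain ⟨s, hs⟩ := hq
        have hs0 : s ≠ 0 := fun h => div_ne_zero hi0 hj0 (by rw [hs, h, zero_mul])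
        obtain ⟨h, -, hact⟩ := hsq s hs0
        refine ⟨h * n, ?_⟩
        rw [show h * n * u * (h * n)⁻¹ = h * (n * u * n⁻¹) * h⁻¹ by group, hj', hpow, map_mul, map_mul,
          hpow, hact, ← map_natCast (ZMod.castHom (dvd_refl p) L) j, ← map_mul, ← hs,
          div_mul_cancel₀ _ hj0, map_natCast]
  have htop : ∀ g : G, g ∈ G₁ := by
    intro g
    have hu₁ : u ∈ G₁ := by simpa using hconj 1
    set a : G₁ := ⟨u, hu₁⟩
    set b : G₁ := ⟨g * u * g⁻¹, hconj g⟩
    have hoa : orderOf a = p := by rw [← Subgroup.orderOf_coe]; exact T.ord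
    have hob : orderOf b = p := by
      rw [← Subgroup.orderOf_coe]
      show orderOf (g * u * g⁻¹) = p
      rw [← T.ord]
      exact (SemiconjBy.orderOf_eq g (SemiconjBy.conj_mk g u)).symm
    have hcard : ∀ y : G₁, orderOf y = p → Nat.card (Subgroup.zpowers y) =
        p ^ (Nat.card G₁).factorization p := by
      intro y hy
      rw [Nat.card_zpowers, hy]
      conv_lhs => rw [← pow_one p]
      congr 1
      refine le_antisymm ((hp.out.dvd_iff_one_le_factorization Nat.card_pos.ne').1
        (hy ▸ orderOf_dvd_natCard y)) ?_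
      by_contra h2
      refine T.sq_ndvd (((pow_dvd_pow p (show 2 ≤ _ by omega)).trans
        (Nat.ordProj_dvd _ p)).trans (Subgroup.card_subgroup_dvd_card G₁))
    let Pa := Sylow.ofCard (Subgroup.zpowers a) (hcard a hoa)
    let Pb := Sylow.ofCard (Subgroup.zpowers b) (hcard b hob)
    obtain ⟨h, hh⟩ := MulAction.exists_smul_eq G₁ Pa Pb
    have hmem : h * a * h⁻¹ ∈ Subgroup.zpowers b := by
      have h1 : (h * a * h⁻¹) ∈ ((h • Pa : Sylow p G₁) : Subgroup G₁) := by
        rw [Sylow.coe_subgroup_smul]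
        exact Subgroup.smul_mem_pointwise_smul _ _ _ (Subgroup.mem_zpowers a)
      rwa [hh] at h1
    obtain ⟨i, hi⟩ := Subgroup.mem_zpowers_iff.1 hmem
    have hi' : (g * u * g⁻¹) ^ i = (h : G) * u * (h : G)⁻¹ := congrArg Subtype.val hi
    rw [conj_zpow] at hi'
    have hn : g⁻¹ * (h : G) ∈ Subgroup.normalizer (Subgroup.zpowers u : Set G) := by
      have e : g⁻¹ * (h : G) * u * (g⁻¹ * (h : G))⁻¹ = u ^ i := by
        calc _ = g⁻¹ * ((h : G) * u * (h : G)⁻¹) * g := by group
          _ = _ := by rw [← hi']; group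
      have hle : (Subgroup.zpowers u).map (MulAut.conj (g⁻¹ * (h : G))).toMonoidHom ≤ Subgroup.zpowers u := by
        rw [MonoidHom.map_zpowers, Subgroup.zpowers_le]
        exact ⟨i, e.symm⟩
      have heq := Subgroup.eq_of_le_of_card_ge hle
        (Subgroup.card_map_of_injective (MulEquiv.injective _)).ge
      refine Subgroup.mem_normalizer_iff.2 fun x => ⟨fun hx => heq ▸ ⟨x, hx, rfl⟩, fun hx => ?_⟩
      rw [← heq] at hx
      obtain ⟨y, hy, hyx⟩ := hx
      exact (MulEquiv.injective (MulAut.conj (g⁻¹ * (h : G))) hyx) ▸ hy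
    have h4 := mul_mem h.2 (inv_mem (hnorm _ hn))
    rwa [_root_.mul_inv_rev, inv_inv, mul_inv_cancel_left] at h4
  have hrange : R.toHomUnits.range = Ψ.range := by
    refine le_antisymm ?_ ?_
    · rintro _ ⟨g, rfl⟩; exact htop g
    · rintro _ ⟨x, rfl⟩
      obtain ⟨h, -, hh⟩ := hlift x
      exact ⟨h, Units.ext hh⟩
  have hkerR : R.ker = R.toHomUnits.ker := by
    ext g
    simp only [MonoidHom.mem_ker]
    exact ⟨fun h => Units.ext h, fun h => congrArg Units.val h⟩
  have hkerΨ : Ψ.ker = Subgroup.center SLp := by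
    ext x
    rw [MonoidHom.mem_ker, Matrix.SpecialLinearGroup.mem_center_iff]
    constructor
    · intro hx
      have hx' : symHom (ψ x) = 1 := congrArg Units.val hx
      obtain ⟨a1, a2, a3, a4⟩ := sym_eq_one hx'
      have inj := ZMod.castHom_injective (n := p) L
      refine ⟨x.1 0 0, ?_, ?_⟩
      · rw [Fintype.card_fin, pow_two]
        exact inj (by rw [map_mul, map_one]; exact a4)
      · ext i j
        fin_cases i <;> fin_cases j
        · simp
        · simpa using (inj (by rw [map_zero]; exact a1) : x.1 0 1 = 0).symm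
        · simpa using (inj (by rw [map_zero]; exact a2) : x.1 1 0 = 0).symm
        · simpa using (inj a3 : x.1 1 1 = x.1 0 0).symm
    · rintro ⟨r, hr, hx⟩
      rw [Fintype.card_fin, pow_two] at hr
      refine Units.ext ?_
      show symMat ((ZMod.castHom (dvd_refl p) L).mapMatrix x.1) = 1
      rw [← hx]
      have hr' : (ZMod.castHom (dvd_refl p) L) r * (ZMod.castHom (dvd_refl p) L) r = 1 := by
        rw [← map_mul, hr, map_one]
      ext i j
      fin_cases i <;> fin_cases j <;> simp [symMat, -ZMod.castHom_apply, hr']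
  exact ⟨(QuotientGroup.quotientMulEquivOfEq hkerR).trans
    ((QuotientGroup.quotientKerEquivRange R.toHomUnits).trans
      ((MulEquiv.subgroupCongr hrange).trans
        ((QuotientGroup.quotientKerEquivRange Ψ).symm.trans
          (QuotientGroup.quotientMulEquivOfEq hkerΨ))))⟩

/-- The group is `PSL(2, p)`. -/
theorem main (T : Three p R u) (hnn : ∃ g, ¬ Commute (R (g * u * g⁻¹)) (R u))
    (hexp : ¬ ∀ j : ℕ, ¬ p ∣ j → ∃ g, R (g * u * g⁻¹) = R (u ^ j)) :
    Nonempty (G ⧸ R.ker ≃* Matrix.ProjectiveSpecialLinearGroup (Fin 2) (ZMod p)) := by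
  classical
  obtain ⟨g₀, hg₀⟩ := hnn
  rcases T.conj_cases g₀ with ⟨t, ht⟩ | ⟨c, k, hck, hk⟩
  · refine absurd ?_ hg₀
    show _ * _ = _ * _
    rw [ht, T.std, ← map_mul, ← map_mul, up_mul, up_mul, add_comm]
  have h1 : symHom (up c : SL₂) * symHom (up (-c)) = 1 := by
    rw [← map_mul, up_mul, add_neg_cancel, up_zero, map_one]
  have h2 : symHom (up (-c) : SL₂) * symHom (up c) = 1 := by
    rw [← map_mul, up_mul, neg_add_cancel, up_zero, map_one]
  let R' : G →* M₃ :=
    { toFun := fun g => symHom (up (-c)) * R g * symHom (up c)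
      map_one' := by rw [map_one, Matrix.mul_one, h2]
      map_mul' := fun a b => by
        simp only [← Matrix.mul_assoc]
        rw [Matrix.mul_assoc (symHom (up (-c)) * R a) (symHom (up c)), h1, Matrix.mul_one,
          map_mul, ← Matrix.mul_assoc] }
  have hR' : ∀ g, R' g = symHom (up (-c)) * R g * symHom (up c) := fun g => rfl
  have hR'inj : ∀ a b, R' a = R' b ↔ R a = R b := fun a b => by
    refine ⟨fun h => ?_, fun h => by rw [hR', hR', h]⟩
    have h3 := congrArg (fun M => symHom (up c : SL₂) * M * symHom (up (-c))) h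
    simp only [hR', ← Matrix.mul_assoc, h1, Matrix.one_mul] at h3
    simpa only [Matrix.mul_assoc, h1, Matrix.mul_one] using h3
  have T' : Three p R' u := by
    refine ⟨T.five, T.ord, T.syl, fun g => ((isIso_sym _).mul (T.iso g)).mul (isIso_sym _), fun g => ?_, ?_⟩
    · show (_ * R g * _).det = 1
      rw [Matrix.det_mul, Matrix.det_mul, T.det, det_sym_up, det_sym_up, mul_one, mul_one]
    · show symHom (up (-c)) * R u * symHom (up c) = _
      rw [T.std, ← map_mul, ← map_mul, up_mul, up_mul]
      congr 2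
      ring
  obtain ⟨e⟩ := T'.frame_main (g₀ := g₀) hk (by
    show symHom (up (-c)) * R (g₀ * u * g₀⁻¹) * symHom (up c) = _
    rw [hck, ← map_mul, ← map_mul, ← mul_assoc, ← mul_assoc, up_mul, neg_add_cancel, up_zero, one_mul,
      mul_assoc, up_mul, neg_add_cancel, up_zero, mul_one])
    (fun h => hexp fun j hj => by
      obtain ⟨g, hg⟩ := h j hj
      exact ⟨g, (hR'inj _ _).1 hg⟩)
  have hker : R.ker = R'.ker := by
    ext g
    simp only [MonoidHom.mem_ker]
    simpa only [map_one] using (hR'inj g 1).symm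
  exact ⟨(QuotientGroup.quotientMulEquivOfEq hker).trans e⟩

end Three

end Cfsg.Agent.Block.HalfDeg
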