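import Mathlib
import Cfsg.Agent.Lib.Block.HalfDeg.Three

/-!
An adapted frame of a three-dimensional non-degenerate orthogonal representation in which an element
of order `p` is a regular unipotent, and the twist of the representation to determinant one.
-/

set_option autoImplicit false
set_option linter.unusedSectionVars false
set_option linter.style.haveILetI false
set_option linter.unusedSimpArgs false
set_option maxHeartbeats 800000

namespace Cfsg.Agent.Block.HalfDeg

open Matrix Cfsg.Agent.Grp.SL2

variable {G : Type*} [Group G] {p : ℕ} [hp : Fact p.Prime]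
variable {K : Type*} [Field K] [CharP K p] {W : Type*} [AddCommGroup W] [Module K W]
  [FiniteDimensional K W]

/-- An adapted frame. -/
theorem exists_frame {u : G} (hu : orderOf u = p) (hp3 : 3 ≤ p) (hW : Module.finrank K W = 3)
    (r : Representation K G W) (B : LinearMap.BilinForm K W) (hsym : ∀ X Y, B X Y = B Y X)
    (hinv : ∀ g X Y, B (r g X) (r g Y) = B X Y) (hnd : ∀ X, (∀ Y, B X Y = 0) → X = 0)
    (hsq : (r u - 1) ^ 2 ≠ 0) :
    ∃ R : G →* Matrix (Fin 3) (Fin 3) K,
      (∀ g, IsIso (R g)) ∧ (∀ g, (R g).det = 1) ∧ R u = symHom (up 1) := by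
  classical
  have h2 : (2 : K) ≠ 0 := two_ne_zero' p (by omega)
  haveI : Nontrivial W := Module.nontrivial_of_finrank_pos (R := K) (by omega)
  haveI : CharP (Module.End K W) p :=
    charP_of_injective_algebraMap (algebraMap K (Module.End K W)).injective p
  set D : Module.End K W := r u - 1 with hD
  have hDnil : IsNilpotent D := ⟨p, by
    rw [hD, sub_pow_char_of_commute p (Commute.one_right (r u)), ← map_pow, ← hu, pow_orderOf_eq_one,
      map_one, one_pow, sub_self]⟩
  have hD3 : D ^ 3 = 0 := by
    have h := LinearMap.aeval_self_charpoly D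
    rw [hDnil.charpoly_eq_X_pow_finrank, map_pow, Polynomial.aeval_X, hW] at h
    exact h
  obtain ⟨w, hw⟩ : ∃ w, (D ^ 2) w ≠ 0 := by
    by_contra! h
    exact hsq (LinearMap.ext h)
  set b := D w with hb
  set a := D b with ha
  have hab : (D ^ 2) w = a := by rw [pow_two]; rfl
  have hDa : D a = 0 := by
    have h := LinearMap.congr_fun hD3 w
    rwa [pow_succ', Module.End.mul_apply, hab] at h
  have hru : ∀ X, r u X = X + D X := fun X => by
    rw [hD, LinearMap.sub_apply, Module.End.one_apply, add_sub_cancel]
  have ha0 : a ≠ 0 := hab ▸ hw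
  have eba := hinv u b a
  rw [hru, hru, ← ha, hDa, add_zero, map_add, LinearMap.add_apply] at eba
  have hBaa : B a a = 0 := by linear_combination eba
  have ewa := hinv u w a
  rw [hru, hru, ← hb, hDa, add_zero, map_add, LinearMap.add_apply] at ewa
  have hBba : B b a = 0 := by linear_combination ewa
  have ewb := hinv u w b
  rw [hru, hru, ← hb, ← ha] at ewb
  simp only [map_add, LinearMap.add_apply] at ewb
  have eww := hinv u w w
  rw [hru, ← hb] at eww
  simp only [map_add, LinearMap.add_apply] at eww
  rw [hsym b w] at eww
  have hbb : B b b = -B a w := by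
    linear_combination ewb - hBba - hsym w a
  have hwb : B w b = B a w / 2 := by
    rw [eq_div_iff h2]
    linear_combination eww - hbb
  have hli : LinearIndependent K ![a, b, w] := by
    rw [Fintype.linearIndependent_iff]
    intro g hg
    simp only [Fin.sum_univ_three, Matrix.cons_val_zero, Matrix.cons_val_one, Matrix.cons_val] at hg
    have h1 := congrArg D hg
    simp only [map_add, map_smul, hDa, ← ha, ← hb, map_zero, smul_zero, zero_add] at h1
    have h0 := congrArg D h1
    simp only [map_add, map_smul, hDa, ← ha, ← hb, map_zero, smul_zero, zero_add] at h0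
    have g2 : g 2 = 0 := (smul_eq_zero.1 h0).resolve_right ha0
    rw [g2, zero_smul, add_zero] at h1 hg
    have g1 : g 1 = 0 := (smul_eq_zero.1 h1).resolve_right ha0
    rw [g1, zero_smul, add_zero] at hg
    have g0 : g 0 = 0 := (smul_eq_zero.1 hg).resolve_right ha0
    intro i
    fin_cases i <;> assumption
  have hc0 : B a w ≠ 0 := fun hc => ha0 (hnd a (by
    intro Y
    have hle : (⊤ : Submodule K W) ≤ LinearMap.ker (B a) := by
      rw [← hli.span_eq_top_of_card_eq_finrank (by rw [Fintype.card_fin, hW]), Submodule.span_le]
      rintro _ ⟨i, rfl⟩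
      fin_cases i
      · exact hBaa
      · show B a b = 0
        rw [hsym]; exact hBba
      · exact hc
    exact hle trivial))
  -- the frame
  set s : K := -(B w w + B a w / 4) / (2 * B a w) with hs
  set e2 := w + s • a + (1 / 2 : K) • b with he2
  set e0 := (1 / 2 : K) • a with he0
  have hBaw' : B w a = B a w := hsym w a
  have hBab : B a b = 0 := by rw [hsym]; exact hBba
  have hBbw : B b w = B a w / 2 := by rw [hsym]; exact hwb
  set μ : K := -(B a w) / 2 with hμ
  have hμ0 : μ ≠ 0 := div_ne_zero (neg_ne_zero.2 hc0) h2
  set f : Fin 3 → W := ![e0, b, e2] with hf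
  have hgram : ∀ i j, B (f i) (f j) = μ * symForm (L := K) i j := by
    have h4 : (4 : K) ≠ 0 := by
      rw [show (4 : K) = 2 * 2 by norm_num]; exact mul_ne_zero h2 h2
    intro i j
    fin_cases i <;> fin_cases j <;>
      simp [hf, he0, he2, symForm, map_add, map_smul, LinearMap.add_apply, LinearMap.smul_apply,
        hBaa, hBba, hBab, hBaw', hBbw, hwb, hbb, hμ, hs] <;>
      field_simp <;> ring
  have hfli : LinearIndependent K f := by
    rw [Fintype.linearIndependent_iff]
    intro g hg
    have h := fun j => congrArg (fun X => B X (f j)) hg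
    simp only [Fin.sum_univ_three, map_add, map_smul, LinearMap.add_apply, LinearMap.smul_apply, map_zero,
      LinearMap.zero_apply, smul_eq_mul] at h
    have h0 := h 0
    have h1 := h 1
    have h2' := h 2
    rw [hgram, hgram, hgram] at h0 h1 h2'
    simp [symForm, hμ0, h2] at h0 h1 h2'
    intro i
    fin_cases i <;> assumption
  set bas : Module.Basis (Fin 3) K W :=
    basisOfLinearIndependentOfCardEqFinrank hfli (by rw [Fintype.card_fin, hW]) with hbas
  have hbf : ⇑bas = f := coe_basisOfLinearIndependentOfCardEqFinrank _ _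
  let M : G →* Matrix (Fin 3) (Fin 3) K :=
    (LinearMap.toMatrixAlgEquiv bas).toMonoidHom.comp r
  have hM : ∀ g, M g = LinearMap.toMatrix bas bas (r g) := fun g => rfl
  have hS : LinearMap.BilinForm.toMatrix bas B = μ • symForm := by
    ext i j
    rw [LinearMap.BilinForm.toMatrix_apply, hbf, hgram, Matrix.smul_apply, smul_eq_mul]
  have hiso : ∀ g, IsIso (M g) := by
    intro g
    have e := LinearMap.BilinForm.toMatrix_comp (b := bas) bas B (r g) (r g)
    rw [show B.comp (r g) (r g) = B from LinearMap.ext fun X => LinearMap.ext fun Y => hinv g X Y,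
      hS, ← hM, Matrix.mul_smul, Matrix.smul_mul] at e
    exact (smul_right_injective _ hμ0 e).symm
  have hMu : M u = symHom (up 1) := by
    have k0 : r u e0 = e0 := by rw [hru, he0, map_smul, hDa, smul_zero, add_zero]
    have k1 : r u b = (2 : K) • e0 + b := by
      rw [hru, ← ha, he0, smul_smul, mul_one_div, div_self h2, one_smul, add_comm]
    have k2 : r u e2 = e0 + b + e2 := by
      rw [hru, he2, map_add, map_add, map_smul, map_smul, hDa, ← hb, ← ha, ← he0]
      simp only [smul_zero, add_zero]
      abel
    rw [hM]
    rw [← LinearMap.toMatrix_toLin bas bas (symHom (up 1))]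
    congr 1
    refine bas.ext fun j => ?_
    rw [Matrix.toLin_self, hbf, Fin.sum_univ_three, symHom_up]
    fin_cases j
    · simpa [hf] using k0
    · simpa [hf] using k1
    · simpa [hf] using k2
  have hdet : ∀ g, (M g).det * (M g).det = 1 := by
    intro g
    have hS0 : (symForm (L := K)).det ≠ 0 := by
      rw [symForm, Matrix.det_fin_three]
      simp [h2]
    have h := congrArg Matrix.det (show (M g)ᵀ * symForm * M g = symForm from hiso g)
    rw [Matrix.det_mul, Matrix.det_mul, Matrix.det_transpose] at h
    refine mul_right_cancel₀ hS0 ?_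
    linear_combination h
  let R : G →* Matrix (Fin 3) (Fin 3) K :=
    { toFun := fun g => (M g).det • M g
      map_one' := by rw [map_one, Matrix.det_one, one_smul]
      map_mul' := fun g h => by
        rw [map_mul, Matrix.det_mul, Matrix.smul_mul, Matrix.mul_smul, smul_smul] }
  have hR : ∀ g, R g = (M g).det • M g := fun g => rfl
  refine ⟨R, fun g => ?_, fun g => ?_, ?_⟩
  · show (R g)ᵀ * symForm * R g = symForm
    rw [hR, Matrix.transpose_smul, Matrix.smul_mul, Matrix.smul_mul, Matrix.mul_smul, smul_smul,
      hdet, one_smul]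
    exact hiso g
  · rw [hR, Matrix.det_smul, Fintype.card_fin]
    linear_combination ((M g).det * (M g).det + 1) * hdet g
  · rw [hR, hMu, det_sym_up, one_smul]

end Cfsg.Agent.Block.HalfDeg
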