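import Mathlib
import Cfsg.Agent.Lib.Block.TIFixed
import Cfsg.Agent.Lib.Char.Basic
import Cfsg.Agent.Lib.Char.Constituent
import Cfsg.Agent.Lib.Char.SmallDegreeTools

/-!
Reduction modulo `p` of a faithful character of a group without normal `p`-subgroups: some
irreducible subquotient is non-trivial on a given element.
-/

set_option autoImplicit false
set_option linter.unusedSectionVars false
set_option linter.style.haveILetI false

namespace Cfsg.Agent.Block.HalfDeg

open Cfsg Cfsg.Agent.Char Cfsg.Agent.Char.DefectOne Matrix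

universe w

variable {G : Type w} [Group G]

section Simple

variable {k : Type} [Field k]

/-- If no irreducible subquotient moves `u`, the normal closure of `u` acts unipotently. -/
theorem unipotent_of_no_simple_pow {u : G} {d a : ℕ}
    (hno : ∀ (V : Type) [AddCommGroup V] [Module k V] [FiniteDimensional k V]
      (σ : Representation k G V), (∀ S : Submodule k V, (∀ g, ∀ v ∈ S, σ g v ∈ S) → S = ⊥ ∨ S = ⊤) →
        Module.finrank k V ≤ d → (σ u - 1) ^ a = 0 → σ u = 1) (n : ℕ) :
    ∀ (V : Type) [AddCommGroup V] [Module k V] [FiniteDimensional k V] (σ : Representation k G V),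
      (σ u - 1) ^ a = 0 → Module.finrank k V ≤ n → n ≤ d →
        ∀ g ∈ Subgroup.normalClosure ({u} : Set G), (σ g - 1) ^ n = 0 := by
  induction n using Nat.strong_induction_on with
  | _ n ih =>
  intro V _ _ _ σ hau hV hn g hg
  classical
  by_cases hirr : ∀ S : Submodule k V, (∀ g, ∀ v ∈ S, σ g v ∈ S) → S = ⊥ ∨ S = ⊤
  · rcases Nat.eq_zero_or_pos n with rfl | hpos
    · haveI : Subsingleton V := Module.finrank_zero_iff.1 (Nat.le_zero.1 hV)
      exact LinearMap.ext fun x => Subsingleton.elim _ _
    have hσu : σ u = 1 := hno V σ hirr (hV.trans hn) hau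
    have hle : Subgroup.normalClosure ({u} : Set G) ≤ MonoidHom.ker σ :=
      Subgroup.normalClosure_le_normal (Set.singleton_subset_iff.2 hσu)
    rw [show σ g = 1 from hle hg, sub_self, zero_pow hpos.ne']
  push Not at hirr
  obtain ⟨S, hS, hS0, hS1⟩ := hirr
  let r : Representation k G S :=
    { toFun := fun g => (σ g).restrict (hS g)
      map_one' := LinearMap.ext fun x => Subtype.ext (by simp)
      map_mul' := fun g h => LinearMap.ext fun x => Subtype.ext (by simp) }
  let q : Representation k G (V ⧸ S) :=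
    { toFun := fun g => S.mapQ S (σ g) (hS g)
      map_one' := Submodule.linearMap_qext S (LinearMap.ext fun x => by simp)
      map_mul' := fun g h => Submodule.linearMap_qext S (LinearMap.ext fun x => by simp) }
  have hsum := S.finrank_quotient_add_finrank
  have hpS : 0 < Module.finrank k S := by
    rw [Nat.pos_iff_ne_zero, Ne, Submodule.finrank_eq_zero]; exact hS0
  have hlt : Module.finrank k S < Module.finrank k V := Submodule.finrank_lt hS1
  have hq : ∀ (y : G) (j : ℕ) (x : V), ((q y - 1) ^ j) (Submodule.Quotient.mk x) =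
      Submodule.Quotient.mk (((σ y - 1) ^ j) x) := by
    intro y j
    induction j with
    | zero => simp
    | succ j ihj =>
      intro x
      rw [pow_succ, pow_succ, Module.End.mul_apply, Module.End.mul_apply, ← ihj]
      rfl
  have hr : ∀ (y : G) (j : ℕ) (x : S), (((r y - 1) ^ j) x : V) = ((σ y - 1) ^ j) x := by
    intro y j
    induction j with
    | zero => simp
    | succ j ihj =>
      intro x
      rw [pow_succ, pow_succ, Module.End.mul_apply, Module.End.mul_apply, ihj]
      rfl
  have h1 := ih (Module.finrank k S) (by omega) S r (LinearMap.ext fun x => Subtype.ext (by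
    rw [hr, hau]; rfl)) le_rfl (by omega) g hg
  have h2 := ih (Module.finrank k (V ⧸ S)) (by omega) (V ⧸ S) q
    (Submodule.linearMap_qext S (LinearMap.ext fun x => by
      rw [LinearMap.comp_apply, LinearMap.comp_apply, Submodule.mkQ_apply, hq, hau]; rfl))
    le_rfl (by omega) g hg
  set D := σ g - 1
  refine pow_eq_zero_of_le (show Module.finrank k S + Module.finrank k (V ⧸ S) ≤ n by omega) ?_
  refine LinearMap.ext fun x => ?_
  have hmem : (D ^ Module.finrank k (V ⧸ S)) x ∈ S := by
    rw [← Submodule.Quotient.mk_eq_zero, ← hq, h2, LinearMap.zero_apply]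
  rw [pow_add, Module.End.mul_apply, LinearMap.zero_apply]
  exact (hr g _ ⟨_, hmem⟩).symm.trans (by rw [h1]; rfl)

end Simple

/-- An endomorphism annihilated on the idempotents, reduced modulo `p`. -/
theorem exists_annihilator {V : ValuationSubring ℂ} {n : ℕ} {p : ℕ} [hp : Fact p.Prime]
    (hV : V.valuation (p : ℂ) < 1) (M : Matrix (Fin n) (Fin n) V)
    (e : ZMod p → Matrix (Fin n) (Fin n) ℂ)
    (hcomm : ∀ l, Commute (e l) (M.map V.subtype))
    (heig : ∀ l, M.map V.subtype * e l = ψc l • e l) (S : Finset (ZMod p)) :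
    ∃ Q : Matrix (Fin n) (Fin n) V, (∀ l ∈ S, Q.map V.subtype * e l = 0) ∧
      (IsLocalRing.residue V).mapMatrix Q =
        ((IsLocalRing.residue V).mapMatrix M - 1) ^ S.card := by
  classical
  haveI : CharP (IsLocalRing.ResidueField V) p :=
    (CharP.charP_iff_prime_eq_zero hp.out).2 (by
      rw [← map_natCast (IsLocalRing.residue V)]
      refine (IsLocalRing.residue_eq_zero_iff _).2 ?_
      rw [V.valuation_lt_one_iff]
      simpa using hV)
  induction S using Finset.induction_on with
  | empty => exact ⟨1, by simp, by rw [map_one, Finset.card_empty, pow_zero]⟩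
  | @insert a S ha ih =>
    obtain ⟨Q, hQ, hQr⟩ := ih
    have hap : ψc a ^ p = 1 := by
      rw [← AddChar.map_nsmul_eq_pow, nsmul_eq_mul, ZMod.natCast_self, zero_mul,
        AddChar.map_zero_eq_one]
    have hmem : ψc a ∈ V := by
      rcases V.mem_or_inv_mem (ψc a) with h | h
      · exact h
      · have e1 : ψc a = (ψc a)⁻¹ ^ (p - 1) := by
          rw [inv_pow]
          refine eq_inv_of_mul_eq_one_left ?_
          rw [← pow_succ', Nat.sub_add_cancel hp.out.one_le, hap]
        rw [e1]
        exact pow_mem h _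
    set c : V := ⟨ψc a, hmem⟩
    have hc : IsLocalRing.residue V c = 1 := by
      have h1 : (IsLocalRing.residue V c - 1) ^ p = 0 := by
        rw [sub_pow_char, one_pow, ← map_pow, show c ^ p = 1 from Subtype.ext hap, map_one, sub_self]
      exact sub_eq_zero.1 (pow_eq_zero_iff hp.out.ne_zero |>.1 h1)
    refine ⟨Q * (M - Matrix.scalar (Fin n) c), fun l hl => ?_, ?_⟩
    · rw [Matrix.map_mul, Matrix.map_sub (f := V.subtype) (by simp), mul_assoc,
        show (Matrix.scalar (Fin n) c).map V.subtype = Matrix.scalar (Fin n) (ψc a) by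
          simp [Matrix.scalar_apply, c]]
      rcases Finset.mem_insert.1 hl with rfl | hl
      · rw [sub_mul, heig, Matrix.scalar_apply, ← Matrix.smul_eq_diagonal_mul, sub_self, mul_zero]
      · rw [((hcomm l).sub_right (Matrix.scalar_commute (ψc a) (fun r => Commute.all _ r) _).symm).eq.symm,
          ← mul_assoc, hQ l hl, zero_mul]
    · rw [Finset.card_insert_of_notMem ha, map_mul, hQr, map_sub, pow_succ]
      congr 2
      simp [Matrix.scalar_apply, hc]

/-- A faithful character with few exponents gives an irreducible modular representation moving `u`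
with a small nilpotency index. -/
theorem exists_simple_pow [Finite G] {p : ℕ} [hp : Fact p.Prime] (hsq : ¬ p ^ 2 ∣ Nat.card G)
    (hnn : ∀ H : Subgroup G, H.Normal → Nat.card H ≠ p) {χ : G → ℂ} (hχ : IsCharacter G χ)
    (hfaith : ∀ g, χ g = χ 1 → g = 1) {e : ℕ} (he : χ 1 = e) {u : G} (hup : orderOf u = p)
    {m : ZMod p → ℕ} (hm : ∀ i, χ (pw u i) = ∑ l, (m l : ℂ) * ψc (i * l)) {a : ℕ}
    (ha : (Finset.univ.filter fun l => m l ≠ 0).card ≤ a) :
    ∃ (k : Type) (_ : Field k) (_ : CharP k p) (V : Type) (_ : AddCommGroup V) (_ : Module k V)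
      (_ : FiniteDimensional k V) (σ : Representation k G V),
      (∀ S : Submodule k V, (∀ g, ∀ v ∈ S, σ g v ∈ S) → S = ⊥ ∨ S = ⊤) ∧
        Module.finrank k V ≤ e ∧ σ u ≠ 1 ∧ (σ u - 1) ^ a = 0 := by
  classical
  have hu : u ≠ 1 := fun h => hp.out.ne_one (by rw [← hup, h, orderOf_one])
  have hpn : ∀ X : Subgroup G, X.Normal → IsPGroup p X → X = ⊥ := by
    intro X hX hXp
    obtain ⟨m, hm⟩ := IsPGroup.iff_card.1 hXp
    have hm1 : m ≤ 1 := by
      by_contra h
      exact hsq ((pow_dvd_pow p (show 2 ≤ m by omega)).trans (hm ▸ Subgroup.card_subgroup_dvd_card X))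
    interval_cases m
    · exact Subgroup.eq_bot_of_card_eq X (by simpa using hm)
    · exact absurd (by simpa using hm) (hnn X hX)
  obtain ⟨n, ρ₀, rfl⟩ := hχ
  have hne : n = e := by
    rw [Representation.char_one, Module.finrank_fin_fun] at he
    exact_mod_cast he
  subst hne
  obtain ⟨V, hV⟩ := TIFixed.exists_valuation hp.out
  let R0 : G →* Matrix (Fin n) (Fin n) ℂ :=
    (LinearMap.toMatrixAlgEquiv' (R := ℂ) (n := Fin n)).toMonoidHom.comp ρ₀
  obtain ⟨A, hA, htr⟩ := TIFixed.exists_integral V R0
  let π : V →+* IsLocalRing.ResidueField V := IsLocalRing.residue V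
  haveI hchar : CharP (IsLocalRing.ResidueField V) p :=
    (CharP.charP_iff_prime_eq_zero (Fact.out : p.Prime)).2 (by
      rw [← map_natCast π]
      refine (IsLocalRing.residue_eq_zero_iff _).2 ?_
      rw [V.valuation_lt_one_iff]
      simpa using hV)
  let A' : G →* Matrix (Fin n) (Fin n) V :=
    { toFun := fun g => Matrix.of fun i j => ⟨A g i j, hA g i j⟩
      map_one' := by
        ext i j
        simp [Matrix.one_apply]
        split_ifs <;> simp
      map_mul' := fun a b => by
        ext i j
        simp [Matrix.mul_apply] }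
  have hA'one : ∀ g, A' g = 1 → g = 1 := fun g hg => by
    refine hfaith g ?_
    have e1 : A g = 1 := by
      ext i j
      have := congrArg (fun M : Matrix (Fin n) (Fin n) V => ((M i j : V) : ℂ)) hg
      simp [A', Matrix.one_apply] at this
      rw [this, Matrix.one_apply]
      split_ifs <;> simp
    have h0 : ∀ x, ρ₀.character x = (A x).trace := fun x => by
      rw [htr, Representation.character]
      exact (LinearMap.trace_eq_matrix_trace ℂ (Pi.basisFun ℂ (Fin n)) (ρ₀ x)).trans
        (congrArg Matrix.trace (by rw [LinearMap.toMatrix_eq_toMatrix']; rfl))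
    rw [h0, h0, e1, map_one]
  let Ab : G →* Matrix (Fin n) (Fin n) (IsLocalRing.ResidueField V) :=
    (RingHom.mapMatrix π).toMonoidHom.comp A'
  have hker : IsPGroup p Ab.ker := by
    refine IsPGroup.of_card (Nat.eq_prime_pow_of_unique_prime_dvd Nat.card_pos.ne' fun {q} hqp hqd => ?_)
    by_contra hq
    haveI := Fact.mk hqp
    obtain ⟨g, hg⟩ := exists_prime_orderOf_dvd_card' q hqd
    have hg1 : (g : G) = 1 := by
      refine hA'one _ ?_
      set M := A' (g : G)
      have hπM : π.mapMatrix M = 1 := g.2
      have hMq : M ^ q = 1 := by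
        rw [← map_pow, ← SubmonoidClass.coe_pow, ← hg, pow_orderOf_eq_one]
        exact map_one A'
      have hS : π.mapMatrix (∑ i ∈ Finset.range q, M ^ i) = (q : IsLocalRing.ResidueField V) • 1 := by
        rw [map_sum, Finset.sum_congr rfl (g := fun _ => 1) fun i _ => by rw [map_pow, hπM, one_pow],
          Finset.sum_const, Finset.card_range, Nat.cast_smul_eq_nsmul]
      have hq0 : (q : IsLocalRing.ResidueField V) ≠ 0 := by
        rw [Ne, CharP.cast_eq_zero_iff _ p]
        exact fun h => hq ((Nat.prime_dvd_prime_iff_eq hp.out hqp).1 h).symm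
      have hunit : IsUnit (∑ i ∈ Finset.range q, M ^ i) := by
        rw [Matrix.isUnit_iff_isUnit_det]
        refine (IsLocalRing.residue_ne_zero_iff_isUnit _).1 ?_
        show π _ ≠ 0
        rw [RingHom.map_det, hS, Matrix.det_smul, Matrix.det_one, mul_one]
        exact pow_ne_zero _ hq0
      have h := mul_geom_sum M q
      rw [hMq, sub_self] at h
      exact sub_eq_zero.1 (hunit.mul_left_eq_zero.1 h)
    rw [Subtype.ext hg1 |>.trans (rfl : (1 : Ab.ker) = 1), orderOf_one] at hg
    exact hqp.one_lt.ne hg
  have hinj : Ab.ker = ⊥ := hpn _ inferInstance hker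
  let σ : Representation (IsLocalRing.ResidueField V) G (Fin n → IsLocalRing.ResidueField V) :=
    (Matrix.toLinAlgEquiv' (R := IsLocalRing.ResidueField V) (n := Fin n)).toMonoidHom.comp Ab
  have hσ1 : ∀ g, σ g = 1 → g = 1 := fun g hg => by
    have h : Ab g = 1 := (Matrix.toLinAlgEquiv' (R := IsLocalRing.ResidueField V) (n := Fin n)).injective
      (hg.trans (map_one _).symm)
    have h' : g ∈ Ab.ker := h
    rwa [hinj, Subgroup.mem_bot] at h'
  -- the nilpotency index on the powers of `u`
  have hσa : (σ u - 1) ^ a = 0 := by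
    letI := Fintype.ofFinite G
    have hu1 : u ≠ 1 := fun h => hp.out.ne_one (by rw [← hup, h, orderOf_one])
    have hPp : Nat.card (Subgroup.zpowers u) = p := by rw [Nat.card_zpowers, hup]
    have hu₀ : u ∈ Subgroup.zpowers u := Subgroup.mem_zpowers u
    have hpw : ∀ i j : ZMod p, pw u i * pw u j = pw u (i + j) := fun i j => by
      rw [pw, pw, ← pow_add, ← pw_natCast hPp hu₀ hu1]
      simp
    have hp0 : (p : ℂ) ≠ 0 := Nat.cast_ne_zero.2 hp.out.ne_zero
    let el : ZMod p → Matrix (Fin n) (Fin n) ℂ := fun l =>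
      (p : ℂ)⁻¹ • ∑ i : ZMod p, ψc (-(i * l)) • A (pw u i)
    have hAel : ∀ l (j : ZMod p), A (pw u j) * el l = ψc (j * l) • el l := by
      intro l j
      simp only [el, Matrix.mul_smul, Finset.mul_sum, ← map_mul, hpw, smul_comm (ψc (j * l))]
      congr 1
      rw [Finset.smul_sum]
      refine Fintype.sum_equiv (Equiv.addLeft j) _ _ fun i => ?_
      rw [Equiv.coe_addLeft, smul_smul, ← AddChar.map_add_eq_mul]
      congr 2
      ring
    have helA : ∀ l (j : ZMod p), Commute (el l) (A (pw u j)) := fun l j => by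
      refine Commute.smul_left (Commute.sum_left _ _ _ fun i _ => Commute.smul_left ?_ _) _
      show _ = _
      rw [← map_mul, ← map_mul, hpw, hpw, add_comm]
    have hidem : ∀ l, el l * el l = el l := by
      intro l
      calc el l * el l = ((p : ℂ)⁻¹ • ∑ i : ZMod p, ψc (-(i * l)) • A (pw u i)) * el l := rfl
        _ = _ := by
          rw [Matrix.smul_mul, Finset.sum_mul, Finset.sum_congr rfl (g := fun _ => el l) fun i _ => by
            rw [Matrix.smul_mul, hAel, smul_smul, ← AddChar.map_add_eq_mul, neg_add_cancel,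
              AddChar.map_zero_eq_one, one_smul],
            Finset.sum_const, Finset.card_univ, ZMod.card, ← Nat.cast_smul_eq_nsmul ℂ, smul_smul,
            inv_mul_cancel₀ hp0, one_smul]
    have htrA : ∀ x, (A x).trace = ρ₀.character x := fun x => by
      rw [htr, Representation.character]
      exact ((LinearMap.trace_eq_matrix_trace ℂ (Pi.basisFun ℂ (Fin n)) (ρ₀ x)).trans
        (congrArg Matrix.trace (by rw [LinearMap.toMatrix_eq_toMatrix']; rfl))).symm
    have htrel : ∀ l, (el l).trace = m l := by
      intro l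
      simp only [el, Matrix.trace_smul, Matrix.trace_sum, htrA, hm, smul_eq_mul, Finset.mul_sum]
      rw [Finset.sum_comm, Finset.sum_eq_single l]
      · rw [Finset.sum_congr rfl (g := fun _ => (p : ℂ)⁻¹ * (m l : ℂ)) fun i _ => by
          rw [← mul_assoc (ψc _), mul_comm (ψc _), mul_assoc (m l : ℂ), ← AddChar.map_add_eq_mul,
            neg_add_cancel, AddChar.map_zero_eq_one, mul_one], Finset.sum_const, Finset.card_univ,
          ZMod.card, nsmul_eq_mul, mul_inv_cancel_left₀ hp0]
      · intro b _ hb
        rw [Finset.sum_congr rfl (g := fun i => (p : ℂ)⁻¹ * (m b : ℂ) * ψc (i * (b - l))) fun i _ => by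
          rw [show i * (b - l) = -(i * l) + i * b by ring, AddChar.map_add_eq_mul]; ring,
          ← Finset.mul_sum, ψc_sum, if_neg (sub_ne_zero.2 hb), mul_zero]
      · exact fun h => absurd (Finset.mem_univ _) h
    set S := Finset.univ.filter fun l => m l ≠ 0
    have hzero : ∀ l, l ∉ S → el l = 0 := fun l hl => by
      have h1 : IsIdempotentElem (Matrix.toLin' (el l)) := by
        show _ * _ = _
        rw [Module.End.mul_eq_comp, ← Matrix.toLin'_mul, hidem]
      have h2 := LinearMap.IsIdempotentElem.eq_zero_of_trace_eq_zero h1 (by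
        rw [Matrix.trace_toLin'_eq, htrel, show m l = 0 by simpa [S] using hl, Nat.cast_zero])
      exact Matrix.toLin'.map_eq_zero_iff.1 h2
    have hone : ∑ l, el l = 1 := by
      simp only [el, ← Finset.smul_sum]
      rw [Finset.sum_comm, Finset.sum_eq_single (0 : ZMod p)]
      · rw [Finset.sum_congr rfl (g := fun _ => (1 : Matrix (Fin n) (Fin n) ℂ)) fun l _ => by
          simp [pw], Finset.sum_const, Finset.card_univ, ZMod.card, ← Nat.cast_smul_eq_nsmul ℂ,
          smul_smul, inv_mul_cancel₀ hp0, one_smul]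
      · intro i _ hi
        rw [← Finset.sum_smul, Finset.sum_congr rfl (g := fun l => ψc (l * (-i))) fun l _ => by ring_nf,
          ψc_sum, if_neg (neg_ne_zero.2 hi), zero_smul]
      · exact fun h => absurd (Finset.mem_univ _) h
    have hMA : (A' u).map V.subtype = A (pw u (1 : ZMod p)) := by
      rw [pw_one hPp hu₀ hu1]
      rfl
    obtain ⟨Q, hQ, hQr⟩ := exists_annihilator hV (A' u) el (fun l => hMA ▸ helA l 1)
      (fun l => by rw [hMA, hAel, one_mul]) S
    have hQ0 : Q = 0 := by
      refine Matrix.map_injective (f := V.subtype) Subtype.val_injective ?_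
      beta_reduce
      rw [← mul_one (Q.map V.subtype), ← hone, Finset.mul_sum, Matrix.map_zero _ (by simp)]
      refine Finset.sum_eq_zero fun l _ => ?_
      by_cases hl : l ∈ S
      · exact hQ l hl
      · rw [hzero l hl, mul_zero]
    rw [hQ0, map_zero] at hQr
    refine pow_eq_zero_of_le ha ?_
    have h := congrArg (Matrix.toLinAlgEquiv' (R := IsLocalRing.ResidueField V) (n := Fin n)) hQr
    rw [map_zero, map_pow, map_sub, map_one] at h
    exact h.symm
  by_contra hno
  push Not at hno
  refine hu ?_
  have hno' : ∀ (W : Type) [AddCommGroup W] [Module (IsLocalRing.ResidueField V) W]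
      [FiniteDimensional (IsLocalRing.ResidueField V) W]
      (τ : Representation (IsLocalRing.ResidueField V) G W),
      (∀ S : Submodule (IsLocalRing.ResidueField V) W, (∀ g, ∀ v ∈ S, τ g v ∈ S) → S = ⊥ ∨ S = ⊤) →
        Module.finrank (IsLocalRing.ResidueField V) W ≤ n → (τ u - 1) ^ a = 0 → τ u = 1 :=
    fun W i1 i2 i3 τ h1 h2 h3 => by
      by_contra h4
      exact hno _ _ hchar W i1 i2 i3 τ h1 h2 h4 h3
  set X := Subgroup.normalClosure ({u} : Set G)
  have hX : IsPGroup p X := fun g => by
    rcases Nat.eq_zero_or_pos n with rfl | hn0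
    · refine ⟨0, Subtype.ext ?_⟩
      rw [pow_zero, pow_one]
      exact hσ1 _ (Subsingleton.elim _ _)
    obtain ⟨m, hm⟩ := pow_unbounded_of_one_lt n hp.out.one_lt
    refine ⟨m, Subtype.ext (hσ1 _ ?_)⟩
    haveI : Nontrivial (Fin n → IsLocalRing.ResidueField V) :=
      Module.nontrivial_of_finrank_pos (R := IsLocalRing.ResidueField V)
        (by rwa [Module.finrank_fin_fun])
    haveI : CharP (Module.End (IsLocalRing.ResidueField V) (Fin n → IsLocalRing.ResidueField V)) p :=
      charP_of_injective_algebraMap (algebraMap (IsLocalRing.ResidueField V) _).injective p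
    have h := unipotent_of_no_simple_pow hno' n _ σ hσa (le_of_eq (Module.finrank_fin_fun _)) le_rfl
      (g : G) g.2
    have h' := pow_eq_zero_of_le hm.le h
    rw [sub_pow_char_pow_of_commute p m (Commute.one_right _), one_pow, sub_eq_zero, ← map_pow] at h'
    exact h'
  have := hpn X inferInstance hX
  have hu' : u ∈ X := Subgroup.subset_normalClosure rfl
  rwa [this, Subgroup.mem_bot] at hu'

/-- A faithful character gives an irreducible modular representation moving `u`. -/
theorem exists_simple [Finite G] {p : ℕ} [hp : Fact p.Prime] (hsq : ¬ p ^ 2 ∣ Nat.card G)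
    (hnn : ∀ H : Subgroup G, H.Normal → Nat.card H ≠ p) {χ : G → ℂ} (hχ : IsCharacter G χ)
    (hfaith : ∀ g, χ g = χ 1 → g = 1) {e : ℕ} (he : χ 1 = e) {u : G} (hu : orderOf u = p) :
    ∃ (k : Type) (_ : Field k) (_ : CharP k p) (V : Type) (_ : AddCommGroup V) (_ : Module k V)
      (_ : FiniteDimensional k V) (σ : Representation k G V),
      (∀ S : Submodule k V, (∀ g, ∀ v ∈ S, σ g v ∈ S) → S = ⊥ ∨ S = ⊤) ∧
        Module.finrank k V ≤ e ∧ σ u ≠ 1 := by
  classical
  letI := Fintype.ofFinite G
  obtain ⟨m, hm⟩ := SmallDeg.exists_pmult (p := p) (P := Subgroup.zpowers u)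
    (by rw [Nat.card_zpowers, hu]) (Subgroup.mem_zpowers u)
    (fun h => hp.out.ne_one (by rw [← hu, h, orderOf_one])) hχ
  obtain ⟨k, ik, ic, V, i1, i2, i3, σ, h1, h2, h3, -⟩ :=
    exists_simple_pow hsq hnn hχ hfaith he hu hm le_rfl
  exact ⟨k, ik, ic, V, i1, i2, i3, σ, h1, h2, h3⟩

end Cfsg.Agent.Block.HalfDeg
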