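import Mathlib
import Cfsg.Agent.Lib.Block.HalfDeg.Frame
import Cfsg.Agent.Lib.Block.HalfDeg.Adjoint
import Cfsg.Agent.Lib.Block.HalfDeg.Reduction
import Cfsg.Agent.Lib.Char.SmallDegreeMain
import Cfsg.Agent.Lib.Char.PSolvableSmallDegree

/-!
A group with a Sylow subgroup of order `p` that is not normal and a faithful character of degree
`(p - 1) / 2` is `PSL(2, p)` modulo its centre.
-/

set_option autoImplicit false
set_option linter.unusedSectionVars false
set_option linter.style.haveILetI false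
set_option maxHeartbeats 800000

namespace Cfsg.Agent.Block.HalfDeg

open Cfsg Cfsg.Agent.Char

universe w

variable {G : Type w} [Group G] [Finite G] {p : ℕ} [hp : Fact p.Prime]

/-- An element of order dividing `p` lies in a normal subgroup of order `p`. -/
theorem mem_of_normal_card (hsq : ¬ p ^ 2 ∣ Nat.card G) {Q : Subgroup G} [Q.Normal]
    (hQ : Nat.card Q = p) {x : G} (hx : x ^ p = 1) : x ∈ Q := by
  rw [← QuotientGroup.eq_one_iff]
  refine orderOf_eq_one_iff.1 (((Nat.dvd_prime hp.out).1 (orderOf_dvd_of_pow_eq_one (n := p) ?_)).resolve_right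
    fun h => hsq ?_)
  · rw [← QuotientGroup.mk_pow, hx, QuotientGroup.mk_one]
  · rw [Q.card_eq_card_quotient_mul_card_subgroup, hQ, pow_two]
    exact mul_dvd_mul_right (h.symm.dvd.trans (orderOf_dvd_natCard _)) p

/-- A normal subgroup of order divisible by `p` contains every element of order `p`. -/
theorem mem_of_dvd (hsq : ¬ p ^ 2 ∣ Nat.card G) {N : Subgroup G} [N.Normal] (hN : p ∣ Nat.card N)
    {x : G} (hx : x ^ p = 1) : x ∈ N := by
  rw [← QuotientGroup.eq_one_iff]
  refine orderOf_eq_one_iff.1 (((Nat.dvd_prime hp.out).1 (orderOf_dvd_of_pow_eq_one (n := p) ?_)).resolve_right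
    fun h => hsq ?_)
  · rw [← QuotientGroup.mk_pow, hx, QuotientGroup.mk_one]
  · rw [N.card_eq_card_quotient_mul_card_subgroup, pow_two]
    exact mul_dvd_mul (h.symm.dvd.trans (orderOf_dvd_natCard _)) hN

/-- Below degree `(p + 1) / 2` only irreducible characters are faithful. -/
theorem irr_of_degree (hdiv : p ∣ Nat.card G) (hsq : ¬ p ^ 2 ∣ Nat.card G)
    (hnn : ∀ H : Subgroup G, H.Normal → Nat.card H ≠ p) {χ : G → ℂ} (hχ : IsCharacter G χ)
    (hfaith : ∀ g, χ g = χ 1 → g = 1) {e : ℕ} (he : χ 1 = e) (hep : 2 * e + 1 = p) :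
    IsIrrCharacter G χ := by
  classical
  letI := Fintype.ofFinite G
  obtain ⟨a, ha, hdec⟩ := IsChar.exists_decomp_inner hχ
  choose d hd0 hd using fun φ : IrrCharacter G => IsIrr.one_eq_pos φ.2
  have hsum : ∑ φ : IrrCharacter G, a φ * d φ = e := by
    have h := congrFun hdec 1
    rw [sum_irr_apply, he] at h
    simp only [hd] at h
    exact_mod_cast h.symm
  by_cases hbig : ∃ φ, a φ ≠ 0 ∧ e ≤ d φ
  · obtain ⟨φ, hφ, hle⟩ := hbig
    rw [← Finset.add_sum_erase _ _ (Finset.mem_univ φ)] at hsum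
    have hle1 : d φ ≤ a φ * d φ := Nat.le_mul_of_pos_left _ (Nat.pos_of_ne_zero hφ)
    have hrest : ∑ ψ ∈ Finset.univ.erase φ, a ψ * d ψ = 0 := by omega
    have ha1 : a φ = 1 := by
      have : a φ * d φ = d φ := by omega
      exact Nat.eq_of_mul_eq_mul_right (hd0 φ) (by rw [one_mul]; exact this)
    have ha0 : ∀ ψ, ψ ≠ φ → a ψ = 0 := fun ψ hψ =>
      (Nat.mul_eq_zero.1 ((Finset.sum_eq_zero_iff.1 hrest) ψ (by simp [hψ]))).resolve_right (hd0 ψ).ne'
    have hχφ : χ = (φ : G → ℂ) := funext fun g => by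
      have h := congrFun hdec g
      rw [sum_irr_apply, Finset.sum_eq_single φ (fun ψ _ hψ => by rw [ha0 ψ hψ, Nat.cast_zero, zero_mul])
        (fun h => absurd (Finset.mem_univ φ) h), ha1, Nat.cast_one, one_mul] at h
      exact h
    rw [hχφ]; exact φ.2
  push Not at hbig
  exfalso
  have key : ∀ φ : IrrCharacter G, a φ ≠ 0 → ∃ N : Subgroup G, N.Normal ∧ p ∣ Nat.card N ∧
      ∀ g ∈ N, g ^ p ≠ 1 → (orderOf g).Prime → (φ : G → ℂ) g = (φ : G → ℂ) 1 := by
    intro φ hφ
    set K := charKer (IsIrr.isCharacter φ.2) with hK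
    haveI : K.Normal := charKer_normal _
    by_cases hpK : p ∣ Nat.card K
    · exact ⟨K, inferInstance, hpK, fun g hg _ _ => (mem_charKer _).1 hg⟩
    obtain ⟨ψ, hψ, hψeq⟩ := IsIrr.exists_factor_quotient φ.2 K fun x hx => (mem_charKer _).1 hx
    letI : Fintype (G ⧸ K) := Fintype.ofFinite _
    have hcard : Nat.card G = Nat.card (G ⧸ K) * Nat.card K :=
      K.card_eq_card_quotient_mul_card_subgroup
    have hpQ : p ∣ Nat.card (G ⧸ K) :=
      (hp.out.coprime_iff_not_dvd.2 hpK).dvd_of_dvd_mul_right (hcard ▸ hdiv)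
    have hψ1 : ψ 1 = (φ : G → ℂ) 1 := hψeq 1
    obtain ⟨Hb, hHb, hHbp⟩ := SmallDeg.exists_normal (p := p) _ (G ⧸ K) rfl hpQ
      (fun h => hsq (h.trans (hcard ▸ dvd_mul_right _ _))) ψ (IsIrr.isCharacter hψ) (fun q hq => by
        induction q using QuotientGroup.induction_on with
        | _ x =>
          rw [hψeq, hψ1] at hq
          exact (QuotientGroup.eq_one_iff x).2 ((mem_charKer _).2 hq))
      (by
        have h1 := hbig φ hφ
        have h2 : charDegree ψ = d φ := Nat.cast_injective (R := ℂ) (by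
          rw [← charDeg_spec (IsIrr.isCharacter hψ), hψ1, hd])
        omega)
    refine ⟨Hb.comap (QuotientGroup.mk' K), hHb.comap _, ?_, fun g hg hgp hgo => ?_⟩
    · rw [← hHbp]
      have hsurj : Function.Surjective ((QuotientGroup.mk' K).subgroupComap Hb) := by
        rintro ⟨z, hz⟩
        obtain ⟨x, rfl⟩ := QuotientGroup.mk'_surjective K z
        exact ⟨⟨x, hz⟩, rfl⟩
      exact Subgroup.card_dvd_of_surjective _ hsurj
    · refine (mem_charKer _).1 ((QuotientGroup.eq_one_iff g).1 ?_)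
      have h1 : orderOf (g : G ⧸ K) ∣ p := hHbp ▸ Subgroup.orderOf_dvd_natCard Hb hg
      have h2 : orderOf (g : G ⧸ K) ∣ orderOf g := orderOf_map_dvd (QuotientGroup.mk' K) g
      refine orderOf_eq_one_iff.1 (Nat.dvd_one.1 ?_)
      have hcop : Nat.Coprime p (orderOf g) := (Nat.coprime_primes hp.out hgo).2 fun h =>
        hgp (h ▸ pow_orderOf_eq_one g)
      exact hcop ▸ Nat.dvd_gcd h1 h2
  choose N hNn hNp hNk using key
  set M : Subgroup G := ⨅ (φ : IrrCharacter G) (h : a φ ≠ 0), N φ h with hM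
  haveI : M.Normal := Subgroup.normal_iInf_normal fun φ => Subgroup.normal_iInf_normal fun h => hNn φ h
  obtain ⟨u, hu⟩ := exists_prime_orderOf_dvd_card' p hdiv
  have hu' : u ^ p = 1 := hu ▸ pow_orderOf_eq_one u
  have huM : u ∈ M := Subgroup.mem_iInf.2 fun φ => Subgroup.mem_iInf.2 fun h => by
    haveI := hNn φ h
    exact mem_of_dvd hsq (hNp φ h) hu'
  have hpow : ∀ q : ℕ, q.Prime → q ∣ Nat.card M → q = p := by
    intro q hq hqd
    by_contra hqp
    haveI := Fact.mk hq
    obtain ⟨g, hg⟩ := exists_prime_orderOf_dvd_card' q hqd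
    have hgG : orderOf (g : G) = q := by rw [Subgroup.orderOf_coe, hg]
    have hg1 : (g : G) = 1 := hfaith _ (by
      have h1 := congrFun hdec (g : G)
      have h2 := congrFun hdec 1
      rw [sum_irr_apply] at h1 h2
      rw [h1, h2]
      refine Finset.sum_congr rfl fun φ _ => ?_
      rcases eq_or_ne (a φ) 0 with h | h
      · rw [h, Nat.cast_zero, zero_mul, zero_mul]
      · rw [hNk φ h g (Subgroup.mem_iInf.1 (Subgroup.mem_iInf.1 g.2 φ) h) (fun hgp => hqp ?_)
          (hgG.symm ▸ hq)]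
        exact (Nat.prime_dvd_prime_iff_eq hq hp.out).1 (hgG ▸ orderOf_dvd_of_pow_eq_one hgp))
    rw [hg1, orderOf_one] at hgG
    exact hq.one_lt.ne hgG
  obtain ⟨m, hm⟩ : ∃ m, Nat.card M = p ^ m :=
    ⟨_, Nat.eq_prime_pow_of_unique_prime_dvd Nat.card_pos.ne' fun {q} hq hqd => hpow q hq hqd⟩
  have hm1 : m ≤ 1 := by
    by_contra h
    exact hsq ((pow_dvd_pow p (show 2 ≤ m by omega)).trans (hm ▸ Subgroup.card_subgroup_dvd_card M))
  interval_cases m
  · have := Subgroup.eq_bot_of_card_eq M (by simpa using hm)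
    rw [this, Subgroup.mem_bot] at huM
    rw [huM, orderOf_one] at hu
    exact hp.out.one_lt.ne hu
  · exact hnn M inferInstance (by simpa using hm)

/-- A normal subgroup of order prime to `p` centralizes the elements of order `p`. -/
theorem commute_kernel (hsq : ¬ p ^ 2 ∣ Nat.card G) {χ : G → ℂ} (hχ : IsCharacter G χ)
    (hfaith : ∀ g, χ g = χ 1 → g = 1) {e : ℕ} (he : χ 1 = e) (hep : e + 2 ≤ p)
    {K : Subgroup G} [hKn : K.Normal] (hK : ¬ p ∣ Nat.card K) {u : G} (hu : orderOf u = p) {z : G}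
    (hz : z ∈ K) : Commute z u := by
  classical
  set H := K ⊔ Subgroup.zpowers u with hH
  letI : Fintype H := Fintype.ofFinite H
  set K' := K.subgroupOf H with hK'
  haveI : K'.Normal := inferInstance
  have hidx : K'.index = p ^ 1 ∨ K'.index = p ^ 0 := by
    rw [pow_one, pow_zero, or_comm, ← Nat.dvd_prime hp.out, hK']
    show K.relIndex H ∣ p
    rw [hH, sup_comm, Subgroup.relIndex_sup_right, ← hu, ← Nat.card_zpowers]
    exact Subgroup.relIndex_dvd_card _ _
  have hsolv : Cfsg.IsPSolvable p H := by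
    refine ⟨2, ![⊥, K', ⊤], rfl, rfl, ?_, fun i => ?_, fun i => ?_⟩
    · refine Fin.monotone_iff_le_succ.2 fun i => ?_
      fin_cases i <;> simp
    · fin_cases i
      · exact Subgroup.normal_bot
      · exact inferInstanceAs K'.Normal
      · exact Subgroup.normal_top
    · fin_cases i
      · refine Or.inr ?_
        show ((⊥ : Subgroup H).relIndex K').Coprime p
        rw [Subgroup.relIndex_bot_left]
        refine ((hp.out.coprime_iff_not_dvd.2 ?_).symm)
        rwa [Nat.card_congr (Subgroup.subgroupOfEquivOfLe (show K ≤ H from le_sup_left)).toEquiv]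
      · refine Or.inl ?_
        show ∃ m, K'.relIndex (⊤ : Subgroup H) = p ^ m
        rw [Subgroup.relIndex_top_right]
        exact hidx.elim (fun h => ⟨1, h⟩) fun h => ⟨0, h⟩
  have huH : u ∈ H := (le_sup_right : _ ≤ H) (Subgroup.mem_zpowers u)
  have hzH : z ∈ H := (le_sup_left : _ ≤ H) hz
  set uH : H := ⟨u, huH⟩
  have huHo : orderOf uH = p := by rw [← Subgroup.orderOf_coe]; exact hu
  have hsqH : ¬ p ^ 2 ∣ Nat.card H := fun h => hsq (h.trans (Subgroup.card_subgroup_dvd_card H))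
  have hcard : Nat.card (Subgroup.zpowers uH) = p ^ (Nat.card H).factorization p := by
    rw [Nat.card_zpowers, huHo]
    conv_lhs => rw [← pow_one p]
    congr 1
    refine le_antisymm ((hp.out.dvd_iff_one_le_factorization Nat.card_pos.ne').1
      (huHo ▸ orderOf_dvd_natCard uH)) ?_
    by_contra h2
    exact hsqH ((pow_dvd_pow p (show 2 ≤ _ by omega)).trans (Nat.ordProj_dvd _ p))
  have hPn : (Subgroup.zpowers uH).Normal := by
    by_contra h
    obtain ⟨h1, -, -⟩ := ItoSmall.main (p := p) hsolv (IsChar.res hχ H)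
      (fun g hg => Subtype.ext (hfaith _ hg)) (n := e) he (by omega) (Sylow.ofCard _ hcard) h
    omega
  set c : G := z * (u * z⁻¹ * u⁻¹) with hc
  have hcK : c ∈ K := mul_mem hz (hKn.conj_mem _ (inv_mem hz) u)
  have hcP : c ∈ Subgroup.zpowers u := by
    have h1 : (⟨z, hzH⟩ : H) * uH * (⟨z, hzH⟩ : H)⁻¹ ∈ Subgroup.zpowers uH :=
      hPn.conj_mem _ (Subgroup.mem_zpowers _) _
    obtain ⟨i, hi⟩ := Subgroup.mem_zpowers_iff.1 h1
    have hi' : u ^ i = z * u * z⁻¹ := congrArg Subtype.val hi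
    exact ⟨i - 1, by show u ^ (i - 1) = c; rw [zpow_sub_one, hi', hc]; group⟩
  have h1 : c = 1 := by
    refine orderOf_eq_one_iff.1 (Nat.dvd_one.1 ?_)
    have hcop : Nat.Coprime p (Nat.card K) := hp.out.coprime_iff_not_dvd.2 hK
    exact hcop ▸ Nat.dvd_gcd (hu ▸ Nat.card_zpowers u ▸ Subgroup.orderOf_dvd_natCard _ hcP)
      (Subgroup.orderOf_dvd_natCard _ hcK)
  show z * u = u * z
  calc z * u = c * (u * z) := by rw [hc]; group
    _ = u * z := by rw [h1, one_mul]

/-- The exponents cannot all be fused. -/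
theorem not_all_conj {χ : G → ℂ} (hχ : IsCharacter G χ)
    (hfaith : ∀ g, χ g = χ 1 → g = 1) {e : ℕ} (he : χ 1 = e) (hep : e + 2 ≤ p) {u : G}
    (hu : orderOf u = p) : ¬ ∀ j : ℕ, ¬ p ∣ j → ∃ g, g * u * g⁻¹ = u ^ j := by
  classical
  intro hall
  letI := Fintype.ofFinite G
  have hu1 : u ≠ 1 := fun h => hp.out.one_lt.ne (by rw [← hu, h, orderOf_one])
  have hPp : Nat.card (Subgroup.zpowers u) = p := by rw [Nat.card_zpowers, hu]
  obtain ⟨m, hm⟩ := SmallDeg.exists_pmult hPp (Subgroup.mem_zpowers u) hu1 hχ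
  have hconst : ∀ i : ZMod p, i ≠ 0 → χ (DefectOne.pw u i) = χ u := by
    intro i hi
    obtain ⟨g, hg⟩ := hall i.val fun hd => hi ((ZMod.val_eq_zero i).1
      (Nat.eq_zero_of_dvd_of_lt hd (ZMod.val_lt i)))
    rw [DefectOne.pw, ← hg]
    exact IsChar.classFun hχ u g
  have hd : ∀ l : ZMod p, (m l : ℂ) - (if l = 0 then χ u else 0) = (m 0 : ℂ) - χ u := by
    intro l
    have := SmallDeg.diff_eq (p := p) (f := fun l => (m l : ℂ)) (g := fun l => if l = 0 then χ u else 0)
      (fun i hi => by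
        rw [← hm, hconst i hi, Finset.sum_eq_single (0 : ZMod p)]
        · simp
        · intro b _ hb; simp [hb]
        · exact fun h => absurd (Finset.mem_univ _) h) l
    simpa using this
  have heq : ∀ l : ZMod p, l ≠ 0 → m l = m 1 := fun l hl => by
    have h1 := hd l
    have h2 := hd 1
    rw [if_neg hl, sub_zero] at h1
    rw [if_neg one_ne_zero, sub_zero, ← h1] at h2
    exact_mod_cast h2.symm
  have hsum : ∑ l : ZMod p, m l = e := by
    have h := hm 0
    simp only [DefectOne.pw, ZMod.val_zero, pow_zero, zero_mul, AddChar.map_zero_eq_one, mul_one, he] at h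
    exact_mod_cast h.symm
  have hs : ∑ l : ZMod p, m l = m 0 + (p - 1) * m 1 := by
    rw [← Finset.add_sum_erase _ _ (Finset.mem_univ (0 : ZMod p)),
      Finset.sum_congr rfl (g := fun _ => m 1) fun l hl => heq l (Finset.ne_of_mem_erase hl),
      Finset.sum_const, Finset.card_erase_of_mem (Finset.mem_univ _), Finset.card_univ, ZMod.card,
      smul_eq_mul]
  have hm1 : m 1 = 0 := by
    by_contra h
    have : p - 1 ≤ (p - 1) * m 1 := Nat.le_mul_of_pos_right _ (Nat.pos_of_ne_zero h)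
    omega
  refine hu1 (hfaith u ?_)
  have h := hd 1
  rw [if_neg one_ne_zero, sub_zero, hm1, Nat.cast_zero, eq_comm, sub_eq_zero] at h
  rw [← h, he, ← hsum, hs, hm1, mul_zero, add_zero]

/-- From a modular representation with a small nilpotency index to `PSL(2, p)`. -/
theorem main_of_simple (hsq : ¬ p ^ 2 ∣ Nat.card G)
    (hnn : ∀ H : Subgroup G, H.Normal → Nat.card H ≠ p) {χ : G → ℂ} (hχ : IsCharacter G χ)
    (hfaith : ∀ g, χ g = χ 1 → g = 1) {e : ℕ} (he : χ 1 = e) (hep : e + 2 ≤ p) (hp5 : 5 ≤ p)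
    {u : G} (hu : orderOf u = p)
    (hXirr : IsIrrCharacter (Subgroup.normalClosure ({u} : Set G))
      (fun x : Subgroup.normalClosure ({u} : Set G) => χ x))
    {k : Type} [Field k] [CharP k p] {V : Type} [AddCommGroup V] [Module k V] [FiniteDimensional k V]
    (σ : Representation k G V)
    (hirr : ∀ S : Submodule k V, (∀ g, ∀ v ∈ S, σ g v ∈ S) → S = ⊥ ∨ S = ⊤)
    (hVp : Module.finrank k V < p) (hσu : σ u ≠ 1) {a : ℕ} (hσa : (σ u - 1) ^ a = 0)
    (ha : a + a + 1 ≤ p) :
    Nonempty ((G ⧸ Subgroup.center G) ≃* Matrix.ProjectiveSpecialLinearGroup (Fin 2) (ZMod p)) := by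
  classical
  letI := Fintype.ofFinite G
  have hu1 : u ≠ 1 := fun h => hp.out.one_lt.ne (by rw [← hu, h, orderOf_one])
  have hup : u ^ p = 1 := hu ▸ pow_orderOf_eq_one u
  have hPp : Nat.card (Subgroup.zpowers u) = p := by rw [Nat.card_zpowers, hu]
  have hsyl : ¬ p ∣ (Subgroup.zpowers u).index := fun h => hsq (by
    rw [← (Subgroup.zpowers u).card_mul_index, hPp, pow_two]
    exact mul_dvd_mul_left p h)
  have hPn : ¬ (Subgroup.zpowers u).Normal := fun h => hnn _ h hPp
  obtain ⟨H, E, F, T⟩ := exists_trip_of_nilpotent σ hu hsyl hirr hσu hσa hVp (by omega) hp5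
  obtain ⟨W, r, hr, hW3, hWnd, hru⟩ := exists_three hu hsyl T ha
  obtain ⟨R, hiso, hdet, hstd⟩ := exists_frame hu (by omega) hW3 r
    ((trForm (K := k) (V := V)).compl₁₂ W.subtype W.subtype)
    (fun X Y => trForm_comm _ _)
    (fun g X Y => by
      show trForm (r g X : Module.End k V) (r g Y : Module.End k V) = trForm (X : Module.End k V) Y
      rw [hr, hr, trForm_conj])
    hWnd hru
  have T3 : Three p R u := ⟨hp5, hu, hsyl, hiso, hdet, hstd⟩
  have hRu : R u ≠ 1 := fun h => by
    rw [hstd, ← map_one (symHom (L := k)), ← Cfsg.Agent.Grp.SL2.up_zero] at h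
    exact one_ne_zero (up_injective h)
  have hKp : ¬ p ∣ Nat.card R.ker := fun h => hRu (mem_of_dvd hsq h hup)
  set X := Subgroup.normalClosure ({u} : Set G) with hX
  have huX : u ∈ X := Subgroup.subset_normalClosure rfl
  have hKu : ∀ z ∈ R.ker, Commute z u := fun z hz =>
    commute_kernel hsq hχ hfaith he hep hKp hu hz
  have hKX : ∀ z ∈ R.ker, ∀ x ∈ X, Commute z x := by
    intro z hz x hx
    have hle : X ≤ Subgroup.centralizer (R.ker : Set G) :=
      Subgroup.normalClosure_le_normal (Set.singleton_subset_iff.2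
        (Subgroup.mem_centralizer_iff.2 fun z hz => hKu z hz))
    exact Subgroup.mem_centralizer_iff.1 (hle hx) z hz
  obtain ⟨n, ρ, hρ⟩ := id hχ
  subst hρ
  let ρX : Representation ℂ X (Fin n → ℂ) := ρ.comp X.subtype
  have hρirr : ρX.IsIrreducible :=
    irreducible_of_character ρX hXirr
  have hKle : R.ker ≤ Subgroup.center G := by
    intro z hz
    haveI := hρirr
    obtain ⟨c, hc⟩ := schur_scalar ρX (ρ z) fun x => by
      show ρ z * ρ (x : G) = ρ (x : G) * ρ z
      rw [← map_mul, ← map_mul, (hKX z hz x x.2).eq]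
    refine Subgroup.mem_center_iff.2 fun g => ?_
    have h : ρ (g * z * g⁻¹ * z⁻¹) = 1 := by
      have h1 : ρ g * ρ z = ρ z * ρ g := by
        rw [hc, ← Module.End.one_eq_id, smul_mul_assoc, mul_smul_comm, one_mul, mul_one]
      rw [map_mul, map_mul, map_mul, h1, mul_assoc (ρ z), ← map_mul, mul_inv_cancel, map_one, mul_one,
        ← map_mul, mul_inv_cancel, map_one]
    have := hfaith (g * z * g⁻¹ * z⁻¹) (by rw [Representation.character, Representation.character, h, map_one ρ])
    rwa [mul_inv_eq_one, mul_inv_eq_iff_eq_mul] at this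
  have hcomm : ∃ g, ¬ Commute (R (g * u * g⁻¹)) (R u) := by
    by_contra! hall
    refine hPn ⟨fun x hx g => ?_⟩
    obtain ⟨i, rfl⟩ := Subgroup.mem_zpowers_iff.1 hx
    have hgu : g * u * g⁻¹ ∈ Subgroup.zpowers u := by
      set x := g * u * g⁻¹
      have hxp : x ^ p = 1 := by simp only [x, conj_pow, hup, mul_one, mul_inv_cancel]
      set z := x * u * x⁻¹ * u⁻¹ with hz
      have hzK : z ∈ R.ker := by
        show R z = 1
        have h1 : R (x * u) = R (u * x) := by rw [map_mul R x u, map_mul R u x]; exact (hall g).eq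
        rw [hz, mul_assoc (x * u), map_mul, h1, ← map_mul]
        simp only [mul_assoc, mul_inv_cancel_left, mul_inv_cancel, map_one]
      have hzc := hKle hzK
      have hz1 : z = 1 := by
        have e1 : x * u * x⁻¹ = z * u := by rw [hz]; group
        have h2 : (z * u) ^ p = 1 := by rw [← e1, conj_pow, hup, mul_one, mul_inv_cancel]
        rw [(hKu z hzK).mul_pow, hup, mul_one] at h2
        refine orderOf_eq_one_iff.1 (Nat.dvd_one.1 ?_)
        exact (hp.out.coprime_iff_not_dvd.2 hKp) ▸ Nat.dvd_gcd (orderOf_dvd_of_pow_eq_one h2)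
          (Subgroup.orderOf_dvd_natCard _ hzK)
      have hxu : Commute x u := by
        show x * u = u * x
        rw [hz, mul_inv_eq_one, mul_inv_eq_iff_eq_mul] at hz1
        exact hz1
      set C := Subgroup.centralizer ({u} : Set G) with hC
      have huC : u ∈ C := Subgroup.mem_centralizer_singleton_iff.2 rfl
      have hxC : x ∈ C := Subgroup.mem_centralizer_singleton_iff.2 hxu.eq
      have hCsq : ¬ p ^ 2 ∣ Nat.card C := fun h => hsq (h.trans (Subgroup.card_subgroup_dvd_card C))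
      haveI : ((Subgroup.zpowers u).subgroupOf C).Normal := ⟨fun y hy c => by
        obtain ⟨j, hj⟩ := Subgroup.mem_zpowers_iff.1 (Subgroup.mem_subgroupOf.1 hy)
        have hcu : Commute (c : G) u := by
          exact Subgroup.mem_centralizer_singleton_iff.1 c.2
        rw [Subgroup.mem_subgroupOf, Subgroup.coe_mul, Subgroup.coe_mul, Subgroup.coe_inv, ← hj,
          (hcu.zpow_right j).eq, mul_inv_cancel_right]
        exact ⟨j, rfl⟩⟩
      have hQc : Nat.card ((Subgroup.zpowers u).subgroupOf C) = p := by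
        rw [Nat.card_congr (Subgroup.subgroupOfEquivOfLe (Subgroup.zpowers_le.2 huC)).toEquiv, hPp]
      exact Subgroup.mem_subgroupOf.1 (mem_of_normal_card hCsq hQc (x := ⟨x, hxC⟩) (Subtype.ext hxp))
    rw [← conj_zpow]
    exact zpow_mem hgu i
  have hexp : ¬ ∀ j : ℕ, ¬ p ∣ j → ∃ g, R (g * u * g⁻¹) = R (u ^ j) := by
    intro hall
    refine not_all_conj hχ hfaith he (by omega) hu fun j hj => ?_
    obtain ⟨g, hg⟩ := hall j hj
    refine ⟨g, ?_⟩
    set z := (u ^ j)⁻¹ * (g * u * g⁻¹) with hz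
    have hzK : z ∈ R.ker := by
      show R z = 1
      rw [hz, map_mul, hg, ← map_mul, inv_mul_cancel, map_one]
    have e1 : g * u * g⁻¹ = u ^ j * z := by rw [hz, mul_inv_cancel_left]
    have h2 : (u ^ j * z) ^ p = 1 := by rw [← e1, conj_pow, hup, mul_one, mul_inv_cancel]
    rw [((hKu z hzK).symm.pow_left j).mul_pow, ← pow_mul, mul_comm j p, pow_mul, hup, one_pow, one_mul] at h2
    have hz1 : z = 1 := by
      refine orderOf_eq_one_iff.1 (Nat.dvd_one.1 ?_)
      exact (hp.out.coprime_iff_not_dvd.2 hKp) ▸ Nat.dvd_gcd (orderOf_dvd_of_pow_eq_one h2)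
        (Subgroup.orderOf_dvd_natCard _ hzK)
    rw [e1, hz1, mul_one]
  have hKZ : R.ker = Subgroup.center G := by
    refine le_antisymm hKle fun z hz => ?_
    have hzu : Commute z u := (Subgroup.mem_center_iff.1 hz u).symm
    have hc : Commute (R z) (symHom (Cfsg.Agent.Grp.SL2.up 1)) := hstd ▸ hzu.map R
    obtain ⟨t, ht⟩ := (hiso z).commute_up T3.two_ne (hdet z) hc
    have hpz : ¬ p ∣ orderOf z := fun hd => by
      have h1 : Nat.card (Subgroup.zpowers (z ^ (orderOf z / p))) = p := by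
        rw [Nat.card_zpowers, orderOf_pow_orderOf_div (orderOf_pos z).ne' hd]
      refine hnn _ ⟨fun x hx g => ?_⟩ h1
      have hxc : x ∈ Subgroup.center G :=
        (Subgroup.zpowers_le.2 (pow_mem hz _) : Subgroup.zpowers (z ^ (orderOf z / p)) ≤ _) hx
      rwa [Subgroup.mem_center_iff.1 hxc g, mul_inv_cancel_right]
    show R z = 1
    refine orderOf_eq_one_iff.1 (Nat.dvd_one.1 ?_)
    refine (hp.out.coprime_iff_not_dvd.2 hpz) ▸ Nat.dvd_gcd (orderOf_dvd_of_pow_eq_one ?_)
      (orderOf_map_dvd R z)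
    rw [ht, ← map_pow, Cfsg.Agent.Grp.SL2.up_pow, CharP.cast_eq_zero k p, zero_mul,
      Cfsg.Agent.Grp.SL2.up_zero, map_one]
  obtain ⟨iso⟩ := T3.main hcomm hexp
  exact ⟨(QuotientGroup.quotientMulEquivOfEq hKZ.symm).trans iso⟩

/-- The theorem. -/
theorem main (hdiv : p ∣ Nat.card G) (hsq : ¬ p ^ 2 ∣ Nat.card G)
    (hnn : ∀ H : Subgroup G, H.Normal → Nat.card H ≠ p) {χ : G → ℂ} (hχ : IsCharacter G χ)
    (hfaith : ∀ g, χ g = χ 1 → g = 1) {e : ℕ} (he : χ 1 = e) (hep : 2 * e + 1 = p) :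
    Nonempty ((G ⧸ Subgroup.center G) ≃* Matrix.ProjectiveSpecialLinearGroup (Fin 2) (ZMod p)) := by
  classical
  letI := Fintype.ofFinite G
  obtain ⟨u, hu⟩ := exists_prime_orderOf_dvd_card' p hdiv
  have hu1 : u ≠ 1 := fun h => hp.out.one_lt.ne (by rw [← hu, h, orderOf_one])
  have hup : u ^ p = 1 := hu ▸ pow_orderOf_eq_one u
  have hPp : Nat.card (Subgroup.zpowers u) = p := by rw [Nat.card_zpowers, hu]
  have hsyl : ¬ p ∣ (Subgroup.zpowers u).index := fun h => hsq (by
    rw [← (Subgroup.zpowers u).card_mul_index, hPp, pow_two]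
    exact mul_dvd_mul_left p h)
  have hPn : ¬ (Subgroup.zpowers u).Normal := fun h => hnn _ h hPp
  have he2 : 2 ≤ e := by
    have h2 := hp.out.two_le
    by_contra h
    have he1 : e = 1 := by omega
    obtain ⟨l, hl⟩ := linearHom_of_isCharacter hχ (by rw [he, he1, Nat.cast_one])
    have hcomm : ∀ a b : G, a * b = b * a := fun a b => by
      have h1 : χ (a * b * a⁻¹ * b⁻¹) = χ 1 := by
        simp only [hl, map_mul, map_inv, map_one, mul_inv_cancel_comm, mul_inv_cancel]
      have := hfaith _ h1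
      rwa [mul_inv_eq_one, mul_inv_eq_iff_eq_mul] at this
    exact hPn ⟨fun x hx g => by rwa [hcomm g x, mul_inv_cancel_right]⟩
  have hp5 : 5 ≤ p := by omega
  obtain ⟨k, _, _, V, _, _, _, σ, hirr, hVd, hσu⟩ :=
    exists_simple hsq hnn hχ hfaith he hu
  set X := Subgroup.normalClosure ({u} : Set G) with hX
  have huX : u ∈ X := Subgroup.subset_normalClosure rfl
  have hXdiv : p ∣ Nat.card X := hu ▸ Subgroup.orderOf_dvd_natCard X huX
  have hXsq : ¬ p ^ 2 ∣ Nat.card X := fun h => hsq (h.trans (Subgroup.card_subgroup_dvd_card X))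
  have hXnn : ∀ Q : Subgroup X, Q.Normal → Nat.card Q ≠ p := by
    intro Q hQ hQp
    refine hnn (Q.map X.subtype) ⟨fun x hx g => ?_⟩
      (by rw [Subgroup.card_map_of_injective X.subtype_injective, hQp])
    obtain ⟨y, hy, rfl⟩ := hx
    have hgy : g * (y : G) * g⁻¹ ∈ X := (Subgroup.normalClosure_normal (s := ({u} : Set G))).conj_mem _ y.2 g
    refine ⟨⟨_, hgy⟩, ?_, rfl⟩
    refine mem_of_normal_card hXsq hQp (Subtype.ext ?_)
    have hy1 : y ^ p = 1 := orderOf_dvd_iff_pow_eq_one.1 (hQp ▸ Subgroup.orderOf_dvd_natCard Q hy)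
    have hyp : (y : G) ^ p = 1 := congrArg Subtype.val hy1
    rw [SubmonoidClass.coe_pow, conj_pow, hyp, mul_one, mul_inv_cancel]
    rfl
  have hXirr : IsIrrCharacter X (fun x : X => χ x) :=
    irr_of_degree hXdiv hXsq hXnn (IsChar.res hχ X) (fun g hg => Subtype.ext (hfaith _ hg)) he hep
  exact main_of_simple hsq hnn hχ hfaith he (by omega) hp5 hu hXirr σ hirr (by omega) hσu
    (pow_eq_zero_of_finrank σ hu hVd) (by omega)

end Cfsg.Agent.Block.HalfDeg
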