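import Mathlib
import Cfsg.Agent.Lib.Block.HalfDeg.Adjoint
import Cfsg.Agent.Lib.Block.HalfDeg.Lift2

/-!
An irreducible representation of degree `(p + 1) / 2` in characteristic `p` on which the element of
order `p` has a single block: its endomorphisms contain a representation of degree at most `5` in
which the element is not trivial.
-/

set_option autoImplicit false
set_option linter.unusedSectionVars false
set_option linter.style.haveILetI false
set_option maxHeartbeats 800000

namespace Cfsg.Agent.Block.HalfDeg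

open Finset

variable {G : Type*} [Group G] [Finite G] {p : ℕ} [hp : Fact p.Prime]
variable {K : Type*} [Field K] [CharP K p]

section RingLemmas

variable {A : Type*} [Ring A] [Algebra K A] {a b m : A}

theorem weight_pow (hma : m * a = a * m + (2 : K) • a) (n : ℕ) :
    m * a ^ n = a ^ n * (m + ((2 * n : ℕ) : K) • 1) := by
  induction n with
  | zero => simp
  | succ n ih =>
    rw [pow_succ, ← mul_assoc, ih, mul_assoc, mul_assoc]
    congr 1
    rw [add_mul, hma, mul_add, smul_one_mul, mul_smul_comm, mul_one, add_assoc, ← add_smul]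
    congr 2
    push_cast
    ring

theorem shift_pow (hab : a * b = b * a + m) (hma : m * a = a * m + (2 : K) • a) (n : ℕ) :
    a ^ (n + 1) * b = b * a ^ (n + 1) + ((n + 1 : ℕ) : K) • (a ^ n * (m + (n : K) • 1)) := by
  induction n with
  | zero => simp [hab]
  | succ n ih =>
    rw [pow_succ' a (n + 1), mul_assoc, ih, mul_add, ← mul_assoc, hab, add_mul, mul_assoc b a,
      mul_smul_comm, weight_pow hma, ← mul_assoc a (a ^ n), ← pow_succ', add_assoc]
    congr 1
    simp only [mul_add, mul_smul_comm, mul_one, smul_add, ← pow_succ']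
    match_scalars <;> push_cast <;> ring

theorem casimir_comm (h2 : (2 : K) ≠ 0) (hab : a * b = b * a + m)
    (hma : m * a = a * m + (2 : K) • a) :
    Commute a ((2 : K) • (b * a) + m + (2 : K)⁻¹ • (m * m)) := by
  have ham : a * m = m * a - (2 : K) • a := by rw [hma, add_sub_cancel_right]
  have e1 : a * (b * a) = b * a * a + m * a := by rw [← mul_assoc, hab, add_mul]
  have e2 : a * (m * m) = m * m * a - (4 : K) • (m * a) + (4 : K) • a := by
    rw [← mul_assoc, ham, sub_mul, mul_assoc m a m, smul_mul_assoc, ham, mul_sub, mul_smul_comm,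
      ← mul_assoc m m]
    match_scalars <;> ring
  show a * _ = _ * a
  rw [mul_add, mul_add, add_mul, add_mul, mul_smul_comm, mul_smul_comm, smul_mul_assoc,
    smul_mul_assoc, e1, e2, ham]
  match_scalars <;> field_simp <;> ring

end RingLemmas

variable {V : Type*} [AddCommGroup V] [Module K V]

/-- The bracket with an endomorphism. -/
def brk (X : Module.End K V) : Module.End K (Module.End K V) :=
  LinearMap.mulLeft K X - LinearMap.mulRight K X

theorem brk_apply (X Y : Module.End K V) : brk X Y = X * Y - Y * X := rfl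

theorem brk_leib (X A B : Module.End K V) : brk X (A * B) = brk X A * B + A * brk X B := by
  simp only [brk_apply]
  noncomm_ring

theorem brk_comm (X Y : Module.End K V) :
    brk X * brk Y = brk Y * brk X + brk (X * Y - Y * X) := by
  refine LinearMap.ext fun Z => ?_
  simp only [LinearMap.add_apply, Module.End.mul_apply, brk_apply]
  noncomm_ring

theorem brk_leib_pow {E F M Z : Module.End K V} (hF : brk E F = M) (hM : brk E M = -((2 : K) • E))
    (n : ℕ) :
    (brk E ^ (n + 2)) (Z * F) = (brk E ^ (n + 2)) Z * F +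
      ((n + 2 : ℕ) : K) • ((brk E ^ (n + 1)) Z * M) -
      (((n + 2) * (n + 1) : ℕ) : K) • ((brk E ^ n) Z * E) := by
  have hE : brk E E = 0 := sub_self _
  induction n with
  | zero =>
    simp only [zero_add, pow_two, pow_one, pow_zero, Module.End.mul_apply, Module.End.one_apply,
      brk_leib, map_add, hF, hM, mul_neg, mul_smul_comm]
    match_scalars <;> ring
  | succ n ih =>
    rw [show n + 1 + 2 = n + 2 + 1 from rfl, pow_succ' _ (n + 2), Module.End.mul_apply, ih,
      map_sub, map_add, map_smul, map_smul, brk_leib, brk_leib, brk_leib, hF, hM, hE, mul_zero,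
      add_zero, mul_neg, mul_smul_comm]
    simp only [← Module.End.mul_apply, ← pow_succ']
    match_scalars <;> push_cast <;> ring

variable [FiniteDimensional K V]

variable {N : Type*} [AddCommGroup N] [Module K N] [FiniteDimensional K N]

theorem sub_mem_range_pow {x C D : Module.End K N} (hx : Commute x D) (hC : Commute C D) {n : ℕ}
    {Z : N} (h : x Z - C Z ∈ LinearMap.range D) :
    x ((D ^ n) Z) - C ((D ^ n) Z) ∈ LinearMap.range (D ^ (n + 1)) := by
  obtain ⟨Z', hZ'⟩ := h
  refine ⟨Z', ?_⟩
  rw [← Module.End.mul_apply x, ← Module.End.mul_apply C, (hx.pow_right n).eq, (hC.pow_right n).eq,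
    Module.End.mul_apply, Module.End.mul_apply, ← map_sub, ← hZ', pow_succ, Module.End.mul_apply]

/-- A triangular map on the fixed vectors has an eigenspace which is a single short block. -/
theorem exists_eigen {d : ℕ} (hdd : d + d = p + 1) (hp7 : 7 < p) (e : ℕ → N) (D x : Module.End K N)
    (hnil : D ^ p = 0) (hxD : Commute x D)
    (hlc0 : ∀ c : ℕ → K, ∑ i ∈ range d, c i • e i = 0 → ∀ i, i < d → c i = 0)
    (hcommute : ∀ X, D X = 0 → ∃ c : ℕ → K, X = ∑ i ∈ range d, c i • e i)
    (hDe : ∀ i, D (e i) = 0)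
    (hhigh : ∀ k j : ℕ, j + k = p - 1 → ∀ c : ℕ → K,
      ∑ i ∈ range d, c i • e i ∈ LinearMap.range (D ^ j) → ∀ i, i < d → 2 * i < j → c i = 0)
    (col : ℕ → ℕ → K) (hcol_eq : ∀ i, i < d → x (e i) = ∑ l ∈ range d, col i l • e l)
    (hcol_low : ∀ i, i < d → ∀ l, l < i → col i l = 0)
    (hcol_dia : ∀ i, i < d → i + 1 < d → col i i = ((2 * i * (i + 1) : ℕ) : K)) :
    ∃ (c₀ : K) (cv : ℕ → K), cv 0 = 0 ∧ ∑ i ∈ range d, cv i • e i ≠ 0 ∧
      (∑ i ∈ range d, cv i • e i) ∈ LinearMap.ker (x - c₀ • 1) ∧
      (∀ X ∈ LinearMap.ker (x - c₀ • 1), D X = 0 → X ∈ K ∙ ∑ i ∈ range d, cv i • e i) ∧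
      Module.finrank K (LinearMap.ker (x - c₀ • 1)) ≤ 5 := by
  classical
  have hne0 : ∀ k : ℕ, 0 < k → k < p → (k : K) ≠ 0 := fun k h1 h2 h => by
    rw [CharP.cast_eq_zero_iff K p] at h
    exact absurd (Nat.le_of_dvd h1 h) (by omega)
  have h2 : (2 : K) ≠ 0 := by exact_mod_cast hne0 2 (by norm_num) (by omega)
  set lc : (ℕ → K) → N := fun c => ∑ i ∈ range d, c i • e i with hlc
  have hlc_app : ∀ (f : Module.End K N) c,
      f (lc c) = ∑ i ∈ range d, c i • f (e i) := fun f c => by simp [hlc, map_sum, map_smul]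
  have hlc_sub : ∀ c c', lc (c - c') = lc c - lc c' := fun c c' => by
    simp [hlc, sub_smul, sum_sub_distrib]
  have hlc_inj : ∀ c c', lc c = lc c' → ∀ i, i < d → c i = c' i := fun c c' h i hi =>
    sub_eq_zero.1 (hlc0 (c - c') (by
      show lc (c - c') = 0
      rw [hlc_sub, h, sub_self]) i hi)
  replace hcommute : ∀ X, D X = 0 → ∃ c, X = lc c := hcommute
  replace hhigh : ∀ k j : ℕ, j + k = p - 1 → ∀ c : ℕ → K,
      lc c ∈ LinearMap.range (D ^ j) → ∀ i, i < d → 2 * i < j → c i = 0 := hhigh
  replace hcol_eq : ∀ i, i < d → x (e i) = lc (col i) := hcol_eq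
  have hDlc : ∀ c, D (lc c) = 0 := fun c => by simp [hlc_app, hDe]
  -- the eigenvalue
  obtain ⟨i₀, hi₀1, hi₀2, hi₀⟩ : ∃ i₀, 1 ≤ i₀ ∧ i₀ ≤ 2 ∧
      ∀ l, l < d → l ≠ i₀ → col l l ≠ ((2 * i₀ * (i₀ + 1) : ℕ) : K) := by
    have hdist : ∀ i, 1 ≤ i → i ≤ 2 → ∀ l, l + 1 < d → l ≠ i →
        col l l ≠ ((2 * i * (i + 1) : ℕ) : K) := by
      intro i h1 h2' l hl hli e
      rw [hcol_dia l (by omega) hl] at e
      have e' : ((l : K) - i) * ((l + i + 1 : ℕ) : K) = 0 := by
        apply mul_left_cancel₀ h2
        push_cast at e ⊢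
        linear_combination e
      rcases mul_eq_zero.1 e' with h | h
      · rcases lt_or_gt_of_ne hli with hlt | hlt
        · refine hne0 (i - l) (by omega) (by omega) ?_
          rw [Nat.cast_sub hlt.le]
          linear_combination -h
        · refine hne0 (l - i) (by omega) (by omega) ?_
          rw [Nat.cast_sub hlt.le, h]
      · exact hne0 _ (by omega) (by omega) h
    by_cases h : col (d - 1) (d - 1) = ((2 * 1 * (1 + 1) : ℕ) : K)
    · refine ⟨2, by omega, le_rfl, fun l hl hl2 => ?_⟩
      rcases Nat.lt_or_ge (l + 1) d with hld | hld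
      · exact hdist 2 (by omega) le_rfl l hld hl2
      · rw [show l = d - 1 by omega, h]
        intro e
        refine hne0 8 (by norm_num) (by omega) ?_
        push_cast at e ⊢
        linear_combination -e
    · refine ⟨1, le_rfl, by omega, fun l hl hl1 => ?_⟩
      rcases Nat.lt_or_ge (l + 1) d with hld | hld
      · exact hdist 1 le_rfl (by omega) l hld hl1
      · rw [show l = d - 1 by omega]
        exact h
  set c₀ : K := ((2 * i₀ * (i₀ + 1) : ℕ) : K)
  set y : Module.End K N := x - c₀ • 1 with hy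
  have hdia : col i₀ i₀ = c₀ := hcol_dia i₀ (by omega) (by omega)
  have hstep : ∀ (c : ℕ → K) (l : ℕ), l ≤ d → (∀ i, i < l → c i = 0) →
      ∃ c', y (lc c) = lc c' ∧ (∀ i, i < l → c' i = 0) ∧
        (l < d → c' l = (col l l - c₀) * c l) := by
    intro c l hl hc
    refine ⟨fun j => (∑ i ∈ range d, c i * col i j) - c₀ * c j, ?_, fun j hj => ?_, fun hld => ?_⟩
    · rw [hy, LinearMap.sub_apply, LinearMap.smul_apply, Module.End.one_apply, hlc_app x]
      rw [sum_congr rfl fun i hi => by rw [hcol_eq i (mem_range.1 hi)]]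
      simp only [hlc, smul_sum, sub_smul, sum_smul, smul_smul, sum_sub_distrib]
      rw [sum_comm]
    · simp only
      rw [hc j hj, mul_zero, sub_zero]
      refine sum_eq_zero fun i hi => ?_
      rcases Nat.lt_or_ge i l with h | h
      · rw [hc i h, zero_mul]
      · rw [hcol_low i (mem_range.1 hi) j (by omega), mul_zero]
    · simp only
      rw [sum_eq_single_of_mem l (mem_range.2 hld) fun i hi hil => ?_]
      · ring
      rcases lt_or_gt_of_ne hil with h | h
      · rw [hc i h, zero_mul]
      · rw [hcol_low i (mem_range.1 hi) l h, mul_zero]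
  set W := LinearMap.ker y with hW
  have hWD : ∀ X ∈ W, D X ∈ W := fun X hX => by
    have hc : Commute y D := hxD.sub_left ((Commute.one_left _).smul_left c₀)
    rw [hW, LinearMap.mem_ker] at hX ⊢
    rw [← Module.End.mul_apply, hc.eq, Module.End.mul_apply, hX, map_zero]
  have hfix : ∀ c, lc c ∈ W → (∀ i, i < i₀ → c i = 0) ∧ (c i₀ = 0 → lc c = 0) := by
    intro c hc
    have key : ∀ l, l ≤ d → (i₀ < l → c i₀ = 0) → ∀ i, i < l → c i = 0 := by
      intro l
      induction l with
      | zero => intro _ _ i hi; omega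
      | succ l ih =>
        intro hl hz i hi
        have hlow := ih (by omega) (fun h => hz (by omega))
        rcases Nat.lt_or_ge i l with h | h
        · exact hlow i h
        rw [show i = l by omega]
        by_cases hli : l = i₀
        · subst hli; exact hz (by omega)
        obtain ⟨c', hc', -, hc'l⟩ := hstep c l (by omega) hlow
        rw [LinearMap.mem_ker.1 hc] at hc'
        have h0 := hlc0 c' hc'.symm l (by omega)
        rw [hc'l (by omega)] at h0
        exact (mul_eq_zero.1 h0).resolve_left (sub_ne_zero.2 (hi₀ l (by omega) hli))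
    refine ⟨key i₀ (by omega) (fun h => absurd h (lt_irrefl _)), fun h => ?_⟩
    have h' := key d le_rfl fun _ => h
    simp only [hlc]
    exact sum_eq_zero fun i hi => by rw [h' i (mem_range.1 hi), zero_smul]
  obtain ⟨v, hvW, hva, hv0⟩ : ∃ v ∈ W, D v = 0 ∧ v ≠ 0 := by
    by_contra! hno
    let U : Submodule K N :=
      { carrier := {X | ∃ c, X = lc c ∧ ∀ i, i < i₀ → c i = 0}
        add_mem' := by
          rintro _ _ ⟨c, rfl, hc⟩ ⟨c', rfl, hc'⟩
          exact ⟨c + c', by simp [hlc, add_smul, sum_add_distrib],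
            fun i hi => by simp [hc i hi, hc' i hi]⟩
        zero_mem' := ⟨0, by simp [hlc], fun i _ => rfl⟩
        smul_mem' := by
          rintro s _ ⟨c, rfl, hc⟩
          exact ⟨s • c, by simp [hlc, smul_sum, smul_smul], fun i hi => by simp [hc i hi]⟩ }
    have hUy : ∀ X ∈ U, y X ∈ U := by
      rintro _ ⟨c, rfl, hc⟩
      obtain ⟨c', h1, h2', -⟩ := hstep c i₀ (by omega) hc
      exact ⟨c', h1, h2'⟩
    have hinj : Function.Injective (y.restrict hUy) := by
      rw [injective_iff_map_eq_zero]
      rintro ⟨X, hX⟩ h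
      obtain ⟨c, rfl, hc⟩ := hX
      exact Subtype.ext (hno _ (congrArg Subtype.val h) (hDlc c))
    obtain ⟨⟨X, c, rfl, hc⟩, hX⟩ := LinearMap.injective_iff_surjective.1 hinj
      ⟨lc (Pi.single i₀ 1), Pi.single i₀ 1, rfl,
        fun i hi => Pi.single_eq_of_ne hi.ne _⟩
    obtain ⟨c', h1, -, h3⟩ := hstep c i₀ (by omega) hc
    have hX' : y (lc c) = lc (Pi.single i₀ 1) :=
      congrArg Subtype.val hX
    have h4 := hlc_inj _ _ (hX'.symm.trans h1) i₀ (by omega)
    rw [h3 (by omega), hdia, sub_self, zero_mul, Pi.single_eq_same] at h4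
    exact one_ne_zero h4
  obtain ⟨cv, rfl⟩ := hcommute v hva
  have hcv : cv i₀ ≠ 0 := fun h => hv0 ((hfix cv hvW).2 h)
  have hline : ∀ X ∈ W, D X = 0 → X ∈ K ∙ lc cv := by
    intro X hX hDX
    obtain ⟨c, rfl⟩ := hcommute X hDX
    refine Submodule.mem_span_singleton.2 ⟨c i₀ / cv i₀, ?_⟩
    have hmem' : lc (c - (c i₀ / cv i₀) • cv) ∈ W := by
      rw [hlc_sub, show lc ((c i₀ / cv i₀) • cv) = (c i₀ / cv i₀) • lc cv by
        simp [hlc, smul_sum, smul_smul]]
      exact sub_mem hX (W.smul_mem _ hvW)
    have h := (hfix _ hmem').2 (by simp [div_mul_cancel₀ _ hcv])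
    rw [hlc_sub, sub_eq_zero] at h
    rw [h]
    simp [hlc, smul_sum, smul_smul]
  set n₀ := 2 * i₀ + 1 with hn₀
  have hWn : ∀ X ∈ W, (D ^ n₀) X = 0 := by
    intro X hX
    by_contra hne
    have hex : ∃ k, (D ^ (n₀ + k + 1)) X = 0 := ⟨p, by
      rw [pow_eq_zero_of_le (by omega) hnil, LinearMap.zero_apply]⟩
    set k := Nat.find hex
    have hk : (D ^ (n₀ + k)) X ≠ 0 := by
      rcases Nat.eq_zero_or_pos k with h0 | h0
      · rw [h0, add_zero]; exact hne
      · intro h
        exact Nat.find_min hex (show k - 1 < k by omega)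
          (by rwa [show n₀ + (k - 1) + 1 = n₀ + k by omega])
    have hDY : D ((D ^ (n₀ + k)) X) = 0 := by
      rw [← Module.End.mul_apply, ← pow_succ']
      exact Nat.find_spec hex
    have hYW : ∀ j, (D ^ j) X ∈ W := by
      intro j
      induction j with
      | zero => simpa using hX
      | succ j ih => rw [pow_succ', Module.End.mul_apply]; exact hWD _ ih
    obtain ⟨c, hc⟩ := hcommute _ hDY
    have hr : lc c ∈ LinearMap.range (D ^ n₀) := by
      rw [← hc]
      exact ⟨(D ^ k) X, by rw [← Module.End.mul_apply, ← pow_add]⟩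
    have h0 := hhigh (p - 1 - n₀) n₀ (by omega) c hr i₀ (by omega) (by omega)
    exact hk (hc.trans ((hfix c (hc ▸ hYW _)).2 h0))
  refine ⟨c₀, cv, (hfix cv hvW).1 0 (by omega), hv0, hvW, hline, ?_⟩
  set DW : Module.End K W := D.restrict hWD
  have hDW : ∀ (j : ℕ) (X : W), ((DW ^ j) X : N) = (D ^ j) X := by
    intro j
    induction j with
    | zero => simp
    | succ j ih =>
      intro X
      rw [pow_succ, pow_succ, Module.End.mul_apply, Module.End.mul_apply, ih]
      rfl
  have hker1 : Module.finrank K (LinearMap.ker DW) ≤ 1 := by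
    refine le_trans (le_trans (le_of_eq ?_) (Submodule.finrank_mono
      (show (LinearMap.ker DW).map W.subtype ≤ K ∙ lc cv from ?_)))
      (finrank_span_singleton (K := K) hv0).le
    · exact (Submodule.equivMapOfInjective _ W.subtype_injective _).finrank_eq
    · rintro _ ⟨X, hX, rfl⟩
      exact hline _ X.2 (congrArg Subtype.val (LinearMap.mem_ker.1 hX))
  have hbound : ∀ j, Module.finrank K (LinearMap.ker (DW ^ j)) ≤ j := by
    intro j
    induction j with
    | zero => rw [pow_zero]; exact le_of_eq (by rw [Module.End.one_eq_id, LinearMap.ker_id, finrank_bot])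
    | succ j ih =>
      set Kj := LinearMap.ker (DW ^ (j + 1))
      have hf := ((DW ^ j).domRestrict Kj).finrank_range_add_finrank_ker
      have h1 : Module.finrank K (LinearMap.range ((DW ^ j).domRestrict Kj)) ≤ 1 := by
        refine le_trans (Submodule.finrank_mono ?_) hker1
        rintro _ ⟨X, rfl⟩
        rw [LinearMap.mem_ker, LinearMap.domRestrict_apply, ← Module.End.mul_apply, ← pow_succ']
        exact X.2
      have h2' : Module.finrank K (LinearMap.ker ((DW ^ j).domRestrict Kj)) ≤
          Module.finrank K (LinearMap.ker (DW ^ j)) := by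
        rw [LinearMap.ker_domRestrict]
        exact LinearMap.finrank_le_finrank_of_injective
          (f := ((Kj.subtype).restrict (p := (LinearMap.ker (DW ^ j)).submoduleOf Kj)
            (q := LinearMap.ker (DW ^ j)) fun X hX => hX))
          fun X Y h => Subtype.ext (Subtype.ext (congrArg Subtype.val h :))
      omega
  have htop : LinearMap.ker (DW ^ n₀) = ⊤ :=
    eq_top_iff.2 fun X _ => Subtype.ext ((hDW n₀ X).trans (hWn X X.2))
  have h := hbound n₀
  rw [htop, finrank_top] at h
  show Module.finrank K W ≤ 5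
  omega

theorem exists_small {ρ : Representation K G V} {u : G} (hu : orderOf u = p)
    (hsyl : ¬ p ∣ (Subgroup.zpowers u).index)
    (hirr : ∀ S : Submodule K V, (∀ g, ∀ v ∈ S, ρ g v ∈ S) → S = ⊥ ∨ S = ⊤)
    {d : ℕ} {H : Subgroup G} {E F : Module.End K V} (T : Trip (p := p) ρ u d H E F)
    (hdim : Module.finrank K V = d) (hdd : d + d = p + 1) (hp7 : 7 < p) (hEd : E ^ (d - 1) ≠ 0) :
    ∃ (W : Submodule K (Module.End K V)) (r : Representation K G W),
      Module.finrank K W ≤ 5 ∧ r u ≠ 1 := by
  classical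
  set σ := conjRep ρ with hσ
  have hne0 : ∀ k : ℕ, 0 < k → k < p → (k : K) ≠ 0 := fun k h1 h2 h => by
    rw [CharP.cast_eq_zero_iff K p] at h
    exact absurd (Nat.le_of_dvd h1 h) (by omega)
  have h2 : (2 : K) ≠ 0 := by exact_mod_cast hne0 2 (by norm_num) (by omega)
  set M := E * F - F * E with hM
  set a := brk E with ha
  set b := brk F
  set m := brk M with hm
  have hab : a * b = b * a + m := brk_comm E F
  have hME : M * E - E * M = (2 : K) • E := by
    have h := T.double
    rw [hM, ← neg_neg ((2 : K) • E), ← h, two_smul]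
    noncomm_ring
  have hma : m * a = a * m + (2 : K) • a := by
    rw [hm, ha, brk_comm, hME]
    congr 1
    refine LinearMap.ext fun Z => ?_
    simp only [LinearMap.smul_apply, brk_apply, smul_sub, smul_mul_assoc, mul_smul_comm]
  have haE : a E = 0 := sub_self _
  have haF : a F = M := rfl
  have haM : a M = -((2 : K) • E) := by rw [ha, brk_apply, ← hME, neg_sub]
  -- the action of `u`
  have hLR : Commute (LinearMap.mulLeft K E) (LinearMap.mulRight K E) :=
    LinearMap.commute_mulLeft_right E E
  have hLd : LinearMap.mulLeft K E ^ d = 0 := by rw [LinearMap.pow_mulLeft, T.nil]; ext X; simp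
  have hRd : LinearMap.mulRight K E ^ d = 0 := by rw [LinearMap.pow_mulRight, T.nil]; ext X; simp
  have hnil : a ^ p = 0 := by
    rw [ha, brk, sub_eq_add_neg, hLR.neg_right.add_pow]
    refine sum_eq_zero fun i hi => ?_
    rcases le_or_gt d i with h | h
    · rw [pow_eq_zero_of_le h hLd, zero_mul, zero_mul]
    · rw [neg_pow (LinearMap.mulRight K E), pow_eq_zero_of_le (show d ≤ p - i by omega) hRd,
        mul_zero, mul_zero, zero_mul]
  have hEneg : (-E) ^ d = 0 := by rw [neg_pow, T.nil, mul_zero]
  have hinv : ρ u⁻¹ = ex p K (-E) := by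
    have h1 : ρ u * ex p K (-E) = 1 := by
      rw [← T.exp, ex_add ((Commute.refl E).neg_right) T.nil hEneg (by omega),
        add_neg_cancel, ex_zero]
    calc ρ u⁻¹ = ρ u⁻¹ * (ρ u * ex p K (-E)) := by rw [h1, mul_one]
      _ = _ := by rw [← mul_assoc, ← map_mul, inv_mul_cancel, map_one, one_mul]
  have hσu : σ u = ex p K a := by
    have eL : ex p K (LinearMap.mulLeft K E) = LinearMap.mulLeft K (ρ u) := by
      refine LinearMap.ext fun X => ?_
      simp only [ex, LinearMap.sum_apply, LinearMap.smul_apply, LinearMap.pow_mulLeft,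
        LinearMap.mulLeft_apply, ← T.exp, sum_mul, smul_mul_assoc]
    have eR : ex p K (-LinearMap.mulRight K E) = LinearMap.mulRight K (ρ u⁻¹) := by
      rw [hinv]
      refine LinearMap.ext fun X => ?_
      have hR : -LinearMap.mulRight K E = LinearMap.mulRight K (-E) := by ext Y; simp
      simp only [ex, hR, LinearMap.sum_apply, LinearMap.smul_apply, LinearMap.pow_mulRight,
        LinearMap.mulRight_apply, mul_sum, mul_smul_comm]
    rw [ha, brk, sub_eq_add_neg, ← ex_add hLR.neg_right hLd
      (show (-LinearMap.mulRight K E) ^ d = 0 from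
        (neg_pow _ d).trans (by rw [hRd, mul_zero])) (by omega), eL, eR]
    rfl
  obtain ⟨qa, hqa, hqau, hqad⟩ := ex_sub_one (p := p) (K := K) hnil
  rw [← hσu] at hqad hqa
  set D := σ u - 1 with hD
  have hqae : Commute a qa := by
    have h2' : Commute D a := by
      have h1 : Commute (ex p K a) a := (commute_ex (Commute.refl a)).symm
      rw [← hσu] at h1
      exact h1.sub_left (Commute.one_left _)
    rw [hqad] at h2'
    obtain ⟨w, hw⟩ := hqau
    show a * qa = qa * a
    have h3 : qa * D = D * qa := (hqa.sub_right (Commute.one_right _)).eq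
    rw [hqad, ← mul_assoc, mul_assoc a qa qa] at h3
    have h4 := congrArg (fun y => y * (↑w⁻¹ : Module.End K (Module.End K V))) h3
    simp only [mul_assoc, ← hw, Units.mul_inv, mul_one] at h4
    rw [← hw]
    exact h4.symm
  have hDpow : ∀ n, D ^ n = a ^ n * qa ^ n := fun n => by rw [hqad, hqae.mul_pow]
  have hDa : ∀ n, LinearMap.range (D ^ n) = LinearMap.range (a ^ n) := fun n => by
    rw [hDpow, Module.End.mul_eq_comp, LinearMap.range_comp,
      LinearMap.range_eq_top.2 ((Module.End.isUnit_iff _).1 (hqau.pow n)).2, Submodule.map_top]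
  have hker : ∀ X, D X = 0 ↔ a X = 0 := fun X => by
    rw [hqad, hqae.eq, Module.End.mul_apply]
    exact map_eq_zero_iff _ ((Module.End.isUnit_iff _).1 hqau).1
  -- the powers of `E`
  obtain ⟨v₀, hv₀⟩ : ∃ v, (E ^ (d - 1)) v ≠ 0 := by
    by_contra! h
    exact hEd (LinearMap.ext h)
  set lc : (ℕ → K) → Module.End K V := fun c => ∑ i ∈ range d, c i • E ^ i with hlc
  have hlc_app : ∀ (f : Module.End K (Module.End K V)) c,
      f (lc c) = ∑ i ∈ range d, c i • f (E ^ i) := fun f c => by simp [hlc, map_sum, map_smul]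
  have hlc0 : ∀ c, lc c = 0 → ∀ i, i < d → c i = 0 := by
    intro c hc i
    induction i using Nat.strong_induction_on with
    | _ i ih =>
      intro hi
      have h := congrArg (fun f : Module.End K V => (E ^ (d - 1 - i)) (f v₀)) hc
      simp only [hlc, LinearMap.sum_apply, LinearMap.smul_apply, map_sum, map_smul,
        LinearMap.zero_apply, map_zero] at h
      rw [sum_eq_single_of_mem i (mem_range.2 hi) fun j hj hji => ?_] at h
      · rw [← Module.End.mul_apply, ← pow_add, show d - 1 - i + i = d - 1 by omega] at h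
        exact (smul_eq_zero.1 h).resolve_right hv₀
      · rcases lt_or_gt_of_ne hji with hlt | hlt
        · rw [ih j hlt (mem_range.1 hj), zero_smul]
        · rw [← Module.End.mul_apply, ← pow_add, pow_eq_zero_of_le (by omega) T.nil,
            LinearMap.zero_apply, smul_zero]
  have hlc_sub : ∀ c c', lc (c - c') = lc c - lc c' := fun c c' => by
    simp [hlc, sub_smul, sum_sub_distrib]
  have hlc_inj : ∀ c c', lc c = lc c' → ∀ i, i < d → c i = c' i := fun c c' h i hi =>
    sub_eq_zero.1 (hlc0 (c - c') (by rw [hlc_sub, h, sub_self]) i hi)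
  have hlc_single : ∀ i, i < d → lc (Pi.single i 1) = E ^ i := fun i hi => by
    simp only [hlc]
    rw [sum_eq_single_of_mem i (mem_range.2 hi) fun j _ hj => by rw [Pi.single_eq_of_ne hj, zero_smul],
      Pi.single_eq_same, one_smul]
  have hcommute : ∀ X, a X = 0 → ∃ c, X = lc c := by
    intro X hX
    have hXE : Commute X E := by
      rw [ha, brk_apply, sub_eq_zero] at hX
      exact hX.symm
    have hli : LinearIndependent K (fun i : Fin d => (E ^ (i : ℕ)) v₀) := by
      rw [Fintype.linearIndependent_iff]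
      intro g hg i
      obtain ⟨i, hi⟩ := i
      induction i using Nat.strong_induction_on with
      | _ i ih =>
        have h := congrArg (E ^ (d - 1 - i)) hg
        simp only [map_sum, map_smul, map_zero] at h
        rw [sum_eq_single_of_mem (⟨i, hi⟩ : Fin d) (mem_univ _) fun j _ hji => ?_] at h
        · rw [← Module.End.mul_apply, ← pow_add, show d - 1 - i + i = d - 1 by omega] at h
          exact (smul_eq_zero.1 h).resolve_right hv₀
        · rcases lt_or_gt_of_ne (fun e => hji (Fin.ext e) : (j : ℕ) ≠ i) with hlt | hlt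
          · rw [show g j = 0 from ih j hlt j.2, zero_smul]
          · rw [← Module.End.mul_apply, ← pow_add, pow_eq_zero_of_le (by omega) T.nil,
              LinearMap.zero_apply, smul_zero]
    haveI : Nonempty (Fin d) := ⟨⟨0, by omega⟩⟩
    set bas := basisOfLinearIndependentOfCardEqFinrank hli (by rw [Fintype.card_fin, hdim])
    have hbas : ∀ i, bas i = (E ^ (i : ℕ)) v₀ := fun i => by
      rw [coe_basisOfLinearIndependentOfCardEqFinrank]
    refine ⟨fun i => if h : i < d then bas.repr (X v₀) ⟨i, h⟩ else 0, bas.ext fun j => ?_⟩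
    rw [hbas, ← Module.End.mul_apply, (hXE.pow_right j).eq, Module.End.mul_apply]
    conv_lhs => rw [← bas.sum_repr (X v₀)]
    simp only [map_sum, map_smul, hbas, hlc, LinearMap.sum_apply, LinearMap.smul_apply]
    rw [← Fin.sum_univ_eq_sum_range (fun i : ℕ => (if h : i < d then bas.repr (X v₀) ⟨i, h⟩ else 0) •
      (E ^ i) ((E ^ (j : ℕ)) v₀)) d]
    refine sum_congr rfl fun i _ => ?_
    rw [dif_pos i.2, ← Module.End.mul_apply, ← Module.End.mul_apply, ← pow_add, ← pow_add, add_comm]
  have haEi : ∀ i, a (E ^ i) = 0 := fun i => by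
    rw [ha, brk_apply, ((Commute.refl E).pow_right i).eq, sub_self]
  have hmEi : ∀ i : ℕ, m (E ^ i) = ((2 * i : ℕ) : K) • E ^ i := by
    intro i
    induction i with
    | zero => simp [hm, brk_apply]
    | succ i ih =>
      rw [pow_succ, hm, brk_leib, ← hm, ih, hm, brk_apply M E, hME, smul_mul_assoc, mul_smul_comm,
        ← add_smul]
      push_cast
      ring_nf
  have hEtop : ∀ X, E * (a ^ (p - 1)) X = 0 := by
    intro X
    rw [ha, brk, sub_eq_add_neg, hLR.neg_right.add_pow, LinearMap.sum_apply, mul_sum]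
    refine sum_eq_zero fun i hi => ?_
    rw [← nsmul_eq_mul', LinearMap.smul_apply, mul_smul_comm]
    refine smul_eq_zero_of_right _ ?_
    rcases le_or_gt d (i + 1) with h | h
    · rw [Module.End.mul_apply, LinearMap.pow_mulLeft, LinearMap.mulLeft_apply, ← mul_assoc,
        ← pow_succ', pow_eq_zero_of_le h T.nil, zero_mul]
    · rw [neg_pow (LinearMap.mulRight K E), pow_eq_zero_of_le (show d ≤ p - 1 - i by omega) hRd,
        mul_zero, mul_zero, LinearMap.zero_apply, mul_zero]
  have hhigh : ∀ k j : ℕ, j + k = p - 1 → ∀ c, lc c ∈ LinearMap.range (a ^ j) →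
      ∀ i, i < d → 2 * i < j → c i = 0 := by
    intro k
    induction k with
    | zero =>
      intro j hj c hc i hi h2i
      obtain ⟨X, hX⟩ := hc
      rw [show j = p - 1 by omega] at hX h2i
      have h := hEtop X
      rw [hX] at h
      have hshift : lc (fun l => if l = 0 then 0 else c (l - 1)) = 0 := by
        rw [← h, hlc]
        simp only
        rw [mul_sum, show d = d - 1 + 1 by omega, sum_range_succ', sum_range_succ]
        simp [← pow_succ', show d - 1 + 1 = d by omega, T.nil]
      have := hlc0 _ hshift (i + 1) (by omega)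
      simpa using this
    | succ k ih =>
      intro j hj c hc i hi h2i
      obtain ⟨Z, hZ⟩ := hc
      have hY : a (lc c) = 0 := by simp [hlc_app, haEi]
      have h := LinearMap.congr_fun (shift_pow hab hma j) Z
      have e1 : (a ^ j) (m Z) = m (lc c) - ((2 * j : ℕ) : K) • lc c := by
        have h' := LinearMap.congr_fun (weight_pow hma j) Z
        simp only [Module.End.mul_apply, LinearMap.add_apply, LinearMap.smul_apply,
          Module.End.one_apply, map_add, map_smul, hZ] at h'
        rw [h', add_sub_cancel_right]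
      simp only [Module.End.mul_apply, LinearMap.add_apply, LinearMap.smul_apply, pow_succ' a j,
        Module.End.one_apply, map_add, map_smul, hZ, hY, map_zero, zero_add, e1] at h
      rw [← Module.End.mul_apply, ← pow_succ'] at h
      have h' : lc (fun l => ((j + 1 : ℕ) : K) * (((2 * l : ℕ) : K) - (j : K)) * c l) ∈
          LinearMap.range (a ^ (j + 1)) := by
        refine ⟨b Z, h.trans ?_⟩
        rw [hlc_app, hlc]
        simp only [hmEi, smul_sum, smul_sub, smul_add, ← sum_sub_distrib, ← sum_add_distrib,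
          smul_smul]
        refine sum_congr rfl fun l _ => ?_
        rw [← sub_smul, ← add_smul]
        congr 1
        push_cast
        ring
      have h3 := ih (j + 1) (by omega) _ h' i hi (by omega)
      refine (mul_eq_zero.1 h3).resolve_left (mul_ne_zero (hne0 _ (by omega) (by omega)) ?_)
      rw [sub_ne_zero]
      intro e
      refine hne0 (j - 2 * i) (by omega) (by omega) ?_
      rw [Nat.cast_sub (by omega), e, sub_self]
  have hmem : ∀ i, i < d → E ^ i ∈ LinearMap.range (a ^ (2 * i)) := by
    intro i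
    induction i with
    | zero => exact fun _ => ⟨1, by simp⟩
    | succ i ih =>
      intro hi
      obtain ⟨Z, hZ⟩ := ih (by omega)
      have h1 : (a ^ (2 * i + 1)) Z = 0 := by
        rw [pow_succ', Module.End.mul_apply, hZ, haEi]
      have h2' : (a ^ (2 * i + 2)) Z = 0 := by
        rw [pow_succ', Module.End.mul_apply, h1, map_zero]
      have hcoef : -(((2 * i + 2) * (2 * i + 1) : ℕ) : K) ≠ 0 := by
        rw [neg_ne_zero, Nat.cast_mul]
        exact mul_ne_zero (hne0 _ (by omega) (by omega)) (hne0 _ (by omega) (by omega))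
      have h := brk_leib_pow (Z := Z) haF haM (2 * i)
      rw [← ha, h1, h2', hZ, zero_mul, zero_mul, smul_zero, add_zero, zero_sub, ← pow_succ,
        ← neg_smul] at h
      refine ⟨(-(((2 * i + 2) * (2 * i + 1) : ℕ) : K))⁻¹ • (Z * F), ?_⟩
      rw [map_smul, show 2 * (i + 1) = 2 * i + 2 by omega, h, smul_smul, inv_mul_cancel₀ hcoef,
        one_smul]
  -- the Casimir element
  set C := (2 : K) • (b * a) + m + (2 : K)⁻¹ • (m * m) with hC
  have hCa : Commute a C := casimir_comm h2 hab hma
  have hCE : ∀ i : ℕ, C (E ^ i) = ((2 * i * (i + 1) : ℕ) : K) • E ^ i := by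
    intro i
    simp only [hC, LinearMap.add_apply, LinearMap.smul_apply, Module.End.mul_apply, haEi, map_zero,
      smul_zero, zero_add, hmEi, map_smul, smul_smul, ← add_smul]
    congr 1
    push_cast
    field_simp
    ring
  have hCu : Commute C (σ u) := hσu ▸ commute_ex hCa.symm
  have hCh : ∀ h ∈ H, Commute C (σ h) := by
    intro h hh
    obtain ⟨k, hk0, hkE, hkF⟩ := T.weight h hh
    have h1 : ρ h * ρ h⁻¹ = 1 := by rw [← map_mul, mul_inv_cancel, map_one]
    have h3 : ρ h⁻¹ * ρ h = 1 := by rw [← map_mul, inv_mul_cancel, map_one]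
    have eE : σ h E = k • E := by
      rw [hσ, conjRep_apply, ← mul_assoc, hkE, smul_mul_assoc, mul_assoc, h1, mul_one]
    have eF : σ h F = k⁻¹ • F := by
      have e : ρ h * F = k⁻¹ • (F * ρ h) := by rw [← hkF, smul_smul, inv_mul_cancel₀ hk0, one_smul]
      rw [hσ, conjRep_apply, ← mul_assoc, e, smul_mul_assoc, mul_assoc, h1, mul_one]
    have hmul : ∀ X Y, σ h (X * Y) = σ h X * σ h Y := fun X Y => by
      rw [hσ, conjRep_apply, conjRep_apply, conjRep_apply]
      simp only [mul_assoc]
      rw [← mul_assoc (ρ h⁻¹) (ρ h), h3, one_mul]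
    have hbrk : ∀ X, σ h * brk X = brk (σ h X) * σ h := fun X => LinearMap.ext fun Y => by
      simp only [Module.End.mul_apply, brk_apply, map_sub, hmul]
    have hsm : ∀ (c : K) (X : Module.End K V), brk (c • X) = c • brk X := fun c X => by
      refine LinearMap.ext fun Y => ?_
      simp only [brk_apply, LinearMap.smul_apply, smul_sub, smul_mul_assoc, mul_smul_comm]
    have e1 : σ h * a = k • (a * σ h) := by rw [ha, hbrk, eE, hsm, smul_mul_assoc]
    have e2 : σ h * b = k⁻¹ • (b * σ h) := by rw [hbrk, eF, hsm, smul_mul_assoc]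
    have e3 : σ h * m = m * σ h := by
      rw [hm, hbrk, hM, map_sub, hmul, hmul, eE, eF, smul_mul_smul_comm, smul_mul_smul_comm,
        mul_inv_cancel₀ hk0, inv_mul_cancel₀ hk0, one_smul, one_smul]
    show C * σ h = σ h * C
    have e4 : σ h * (b * a) = b * a * σ h := by
      rw [← mul_assoc, e2, smul_mul_assoc, mul_assoc, e1, mul_smul_comm, smul_smul,
        inv_mul_cancel₀ hk0, one_smul, mul_assoc]
    have e5 : σ h * (m * m) = m * m * σ h := by
      rw [← mul_assoc, e3, mul_assoc, e3, mul_assoc]
    simp only [hC, add_mul, mul_add, smul_mul_assoc, mul_smul_comm, e4, e5, e3]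
  have hCN : ∀ n ∈ Subgroup.normalizer (Subgroup.zpowers u : Set G), Commute C (σ n) := by
    intro n hn
    obtain ⟨i, h, hh, rfl⟩ := T.split n hn
    rw [map_mul, map_pow]
    exact (hCu.pow_right i).mul_right (hCh h hh)
  obtain ⟨x, hxg, hxC⟩ := lift_map hu hsyl C hCN
  have hxD : Commute x D := (hxg u).sub_right (Commute.one_right x)
  have hxa : ∀ X, a X = 0 → a (x X) = 0 := fun X hX => by
    rw [← hker] at hX ⊢
    rw [← Module.End.mul_apply, ← hxD.eq, Module.End.mul_apply, hX, map_zero]
  -- the matrix on the fixed vectors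
  have hcol : ∀ i, i < d → ∃ c, x (E ^ i) = lc c ∧ (∀ l, l < i → c l = 0) ∧
      (i + 1 < d → c i = ((2 * i * (i + 1) : ℕ) : K)) := by
    intro i hi
    obtain ⟨c, hc⟩ := hcommute _ (hxa _ (haEi i))
    refine ⟨c, hc, ?_⟩
    have hr : x (E ^ i) ∈ LinearMap.range (a ^ (2 * i)) := by
      obtain ⟨Z, hZ⟩ := (hDa _).symm ▸ hmem i hi
      rw [← hDa]
      exact ⟨x Z, by rw [← Module.End.mul_apply, ← (hxD.pow_right _).eq, Module.End.mul_apply, hZ]⟩
    refine ⟨fun l hl => hhigh (p - 1 - 2 * i) (2 * i) (by omega) c (hc ▸ hr) l (by omega) (by omega),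
      fun hid => ?_⟩
    have hd' : lc (c - Pi.single i ((2 * i * (i + 1) : ℕ) : K)) ∈
        LinearMap.range (a ^ (2 * i + 1)) := by
      have e : lc (Pi.single i ((2 * i * (i + 1) : ℕ) : K)) = C (E ^ i) := by
        rw [hCE, hlc]
        simp only
        rw [sum_eq_single_of_mem i (mem_range.2 hi) fun j _ hj => by
          rw [Pi.single_eq_of_ne hj, zero_smul], Pi.single_eq_same]
      rw [hlc_sub, ← hc, e]
      obtain ⟨Z, hZ⟩ := (hDa _).symm ▸ hmem i hi
      have hZ0 : (D ^ (p - 1)) Z = 0 := by
        rw [show p - 1 = p - 1 - (2 * i + 1) + (2 * i + 1) by omega, pow_add, Module.End.mul_apply,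
          pow_succ', Module.End.mul_apply, hZ, (hker _).2 (haEi i), map_zero]
      rw [← hDa, ← hZ]
      exact sub_mem_range_pow hxD (hCu.sub_right (Commute.one_right C)) (hxC Z hZ0)
    have h := hhigh (p - 1 - (2 * i + 1)) (2 * i + 1) (by omega) _ hd' i hi (by omega)
    rwa [Pi.sub_apply, Pi.single_eq_same, sub_eq_zero] at h
  choose! col hcol_eq hcol_low hcol_dia using hcol
  obtain ⟨c₀, cv, hcv0, hv0, hvW, hline, hdimW⟩ := exists_eigen hdd hp7 (fun i => E ^ i) D x
    (by rw [hDpow, hnil, zero_mul]) hxD hlc0 (fun X hX => hcommute X ((hker X).1 hX))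
    (fun i => (hker _).2 (haEi i))
    (fun k j hj c hc => hhigh k j hj c (hDa j ▸ hc)) col hcol_eq hcol_low hcol_dia
  set W := LinearMap.ker (x - c₀ • 1) with hW
  have hWg : ∀ g, ∀ X ∈ W, σ g X ∈ W := by
    intro g X hX
    have hc : Commute (x - c₀ • 1) (σ g) := (hxg g).sub_left ((Commute.one_left _).smul_left c₀)
    rw [hW, LinearMap.mem_ker] at hX ⊢
    rw [← Module.End.mul_apply, hc.eq, Module.End.mul_apply, hX, map_zero]
  let r : Representation K G W :=
    { toFun := fun g => (σ g).restrict (hWg g)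
      map_one' := LinearMap.ext fun X => Subtype.ext (by simp)
      map_mul' := fun g h => LinearMap.ext fun X => Subtype.ext (by simp) }
  refine ⟨W, r, hdimW, fun hr1 => ?_⟩
  have hlineG : ∀ g, σ g (lc cv) ∈ K ∙ lc cv := fun g => by
    refine hline _ (hWg g _ hvW) ?_
    have h := congrArg Subtype.val (LinearMap.congr_fun hr1 ⟨_, hWg g _ hvW⟩)
    rw [hD, LinearMap.sub_apply, Module.End.one_apply]
    exact sub_eq_zero.2 h
  rcases hirr (LinearMap.range (lc cv)) (by
    rintro g _ ⟨w, rfl⟩
    obtain ⟨s, hs⟩ := Submodule.mem_span_singleton.1 (hlineG g)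
    refine ⟨s • ρ g w, ?_⟩
    have h := LinearMap.congr_fun hs (ρ g w)
    rw [LinearMap.smul_apply, hσ, conjRep_apply, Module.End.mul_apply, Module.End.mul_apply,
      Representation.inv_self_apply] at h
    rw [map_smul, h]) with h | h
  · exact hv0 (LinearMap.range_eq_bot.1 h)
  · have hinj : Function.Injective (lc cv) :=
      LinearMap.injective_iff_surjective.2 (LinearMap.range_eq_top.1 h)
    refine hEd (LinearMap.ext fun w => hinj ?_)
    rw [LinearMap.zero_apply, map_zero]
    simp only [hlc, LinearMap.sum_apply, LinearMap.smul_apply]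
    refine sum_eq_zero fun i _ => ?_
    rcases Nat.eq_zero_or_pos i with rfl | hi
    · rw [hcv0, zero_smul]
    · rw [← Module.End.mul_apply, ← pow_add, pow_eq_zero_of_le (by omega) T.nil,
        LinearMap.zero_apply, smul_zero]

end Cfsg.Agent.Block.HalfDeg
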